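import Cfsg.Agent.Lib.Suzuki.Chars.Setup
import Cfsg.Agent.Lib.Char.PermChar
import Cfsg.Agent.Lib.Char.PResidualSum

/-!
# The Steinberg character and the principal series of the Suzuki groups
-/

set_option autoImplicit false

namespace CfsgLib.Suzuki.Chars

open Matrix Cfsg.Lie CfsgLib.SuzukiLaws CfsgLib.Suzuki CfsgLib.Char
open scoped ComplexConjugate

variable {F : Type*} [Field F] [Fintype F] [CharP F 2] {m : ℕ}
  (hF : Fintype.card F = 2 ^ (2 * m + 1))

variable [Fintype (Sz F (2 ^ (m + 1)))]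

attribute [local instance] Classical.propDecidable

/-- The number of fixed points less one. -/
noncomputable def stFun (g : ↥(Sz F (2 ^ (m + 1)))) : ℂ :=
  (Nat.card {p : Cfsg.suzukiOvoid F m // toSL hF g • p = p} : ℂ) - 1

theorem isIrr_stFun : Cfsg.IsIrrCharacter ↥(Sz F (2 ^ (m + 1))) (stFun hF) := by
  let _ : MulAction ↥(Sz F (2 ^ (m + 1))) (Cfsg.suzukiOvoid F m) := MulAction.compHom _ (toSL hF)
  have hpre : MulAction.IsMultiplyPretransitive ↥(Sz F (2 ^ (m + 1))) (Cfsg.suzukiOvoid F m) 2 := by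
    rw [MulAction.is_two_pretransitive_iff]
    intro a b c d hab hcd
    obtain ⟨g, g1, g2⟩ := exists_smul_pair hF hab
    obtain ⟨k, k1, k2⟩ := exists_smul_pair hF hcd
    have e : ∀ p q' : Cfsg.suzukiOvoid F m, toSL hF g • p = q' →
        toSL hF (k * g⁻¹) • q' = toSL hF k • p := fun p q' h => by
      rw [← h, smul_smul, ← map_mul, inv_mul_cancel_right]
    exact ⟨k * g⁻¹, (e _ _ g1).trans k1, (e _ _ g2).trans k2⟩
  have : MulAction.IsPretransitive ↥(Sz F (2 ^ (m + 1))) (Cfsg.suzukiOvoid F m) :=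
    MulAction.isPretransitive_of_is_two_pretransitive
  have h2 : 2 ≤ Nat.card (Cfsg.suzukiOvoid F m) := by
    have := Fintype.card_pos (α := F)
    rw [card_ovoid]
    nlinarith
  exact (permChar_sub_one_irr_iff (G := ↥(Sz F (2 ^ (m + 1)))) h2).mpr hpre

/-- The Steinberg character. -/
noncomputable def St : Cfsg.IrrCharacter ↥(Sz F (2 ^ (m + 1))) := ⟨stFun hF, isIrr_stFun hF⟩

theorem stFun_of_finset {g : ↥(Sz F (2 ^ (m + 1)))} {S : Finset (Cfsg.suzukiOvoid F m)}
    (h : ∀ p, toSL hF g • p = p ↔ p ∈ S) : stFun hF g = (S.card : ℂ) - 1 := by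
  rw [stFun, Nat.card_congr (Equiv.subtypeEquivRight h), Nat.card_eq_fintype_card, Fintype.card_coe]

theorem St_one : (St hF : ↥(Sz F (2 ^ (m + 1))) → ℂ) 1 = (Fintype.card F : ℂ) ^ 2 := by
  show stFun hF 1 = _
  rw [stFun, Nat.card_congr (Equiv.subtypeUnivEquiv fun p => by rw [map_one, one_smul]), card_ovoid]
  push_cast
  ring

theorem St_unip {g : ↥(Sz F (2 ^ (m + 1)))} (hg : g ∈ unip hF) (h1 : g ≠ 1) : (St hF : ↥(Sz F (2 ^ (m + 1))) → ℂ) g = 0 := by
  classical
  show stFun hF g = 0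
  rw [stFun_of_finset hF (S := {inf}) fun p => ?_]
  · simp
  · rw [Finset.mem_singleton]
    refine ⟨fix_unip hF hg h1, ?_⟩
    rintro rfl
    obtain ⟨a, b, rfl⟩ := hg
    exact U_smul_inf hF a b

theorem St_T {s : Fˣ} (hs : s ≠ 1) : (St hF : ↥(Sz F (2 ^ (m + 1))) → ℂ) (T hF s) = 1 := by
  classical
  show stFun hF _ = 1
  rw [stFun_of_finset hF (S := {inf, zero}) fun p => ?_, Finset.card_pair inf_ne_zero]
  · norm_num
  · rw [Finset.mem_insert, Finset.mem_singleton]
    refine ⟨fix_T hF hs, ?_⟩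
    rintro (rfl | rfl)
    · exact T_smul_inf hF s
    · exact T_smul_zero hF s

theorem St_fpf {g : ↥(Sz F (2 ^ (m + 1)))} (hg : Fpf hF g) : (St hF : ↥(Sz F (2 ^ (m + 1))) → ℂ) g = -1 := by
  classical
  show stFun hF g = -1
  rw [stFun_of_finset hF (S := ∅) fun p => by simp [hg p]]
  simp

/-- The principal series. -/
noncomputable def ps (l : Fˣ →* ℂˣ) : ↥(Sz F (2 ^ (m + 1))) → ℂ :=
  Cfsg.indFun (borel hF) (fun g => (l (torusPart hF g) : ℂ))

theorem card_borel (hm : 1 ≤ m) :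
    Nat.card (borel hF) = Fintype.card F ^ 2 * (Fintype.card F - 1) :=
  (Nat.card_congr (Equiv.subtypeEquivRight fun _ => mem_borel hF)).trans (card_stab hF hm inf)

theorem index_borel (hm : 1 ≤ m) : (borel hF).index = Fintype.card F ^ 2 + 1 := by
  have h := (borel hF).card_mul_index
  rw [card_borel hF hm, card_group hF hm, ← hF] at h
  have := Fintype.one_lt_card (α := F)
  exact Nat.eq_of_mul_eq_mul_left (Nat.mul_pos (by positivity) (by omega)) h

theorem ps_one (hm : 1 ≤ m) (l : Fˣ →* ℂˣ) : ps hF l 1 = (Fintype.card F : ℂ) ^ 2 + 1 := by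
  rw [ps, indFun_one, index_borel hF hm]
  simp

theorem ps_fpf (l : Fˣ →* ℂˣ) {g : ↥(Sz F (2 ^ (m + 1)))} (hg : Fpf hF g) : ps hF l g = 0 := by
  rw [ps, indFun_eq_zero_of_forall (borel hF) fun x hx => ?_]
  exact absurd ((fix_conj hF g x inf).1 hx) (hg _)

theorem torusPart_conj (a g : borel hF) : torusPart hF (a⁻¹ * g * a) = torusPart hF g := by
  simp [mul_comm]

theorem ps_unip (l : Fˣ →* ℂˣ) {g : ↥(Sz F (2 ^ (m + 1)))} (hg : g ∈ unip hF) (h1 : g ≠ 1) : ps hF l g = 1 := by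
  classical
  rw [ps, indFun_apply]
  have hval : ∀ x : ↥(Sz F (2 ^ (m + 1))), Cfsg.extendByZero (borel hF) (fun g => (l (torusPart hF g) : ℂ))
      (x⁻¹ * g * x) = if x ∈ borel hF then 1 else 0 := by
    intro x
    split_ifs with hx
    · obtain ⟨a, b, rfl⟩ := hg
      have hmem : x⁻¹ * U hF a b * x ∈ borel hF :=
        mul_mem (mul_mem (inv_mem hx) (U_mem_borel hF a b)) hx
      rw [extendByZero_of_mem _ hmem,
        show (⟨x⁻¹ * U hF a b * x, hmem⟩ : borel hF) =
          (⟨x, hx⟩ : borel hF)⁻¹ * ⟨U hF a b, U_mem_borel hF a b⟩ * ⟨x, hx⟩ from rfl,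
        torusPart_conj hF,
        (torusPart_eq_one_iff hF).2 ⟨a, b, rfl⟩, map_one, Units.val_one]
    · exact extendByZero_of_notMem _ fun h => hx (mem_borel_of_conj_unip hF hg h1 h)
  rw [Finset.sum_congr rfl fun x _ => hval x, Finset.sum_boole, ← Fintype.card_subtype,
    ← Nat.card_eq_fintype_card, inv_mul_cancel₀ (card_subgroup_ne_zero _)]

theorem ps_T (hm : 1 ≤ m) (l : Fˣ →* ℂˣ) {s : Fˣ} (hs : s ≠ 1) :
    ps hF l (T hF s) = (l s : ℂ) + (l s⁻¹ : ℂ) := by
  classical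
  rw [ps, indFun_apply]
  have hnW : ∀ x : ↥(Sz F (2 ^ (m + 1))), x ∈ borel hF → W hF * x ∉ borel hF := fun x hx h => by
    have h2 : W hF ∈ borel hF := by simpa using mul_mem h (inv_mem hx)
    rw [mem_borel, W_smul_inf] at h2
    exact inf_ne_zero h2.symm
  have hval : ∀ x : ↥(Sz F (2 ^ (m + 1))), Cfsg.extendByZero (borel hF) (fun g => (l (torusPart hF g) : ℂ))
      (x⁻¹ * T hF s * x) = (if x ∈ borel hF then (l s : ℂ) else 0) +
        (if W hF * x ∈ borel hF then (l s⁻¹ : ℂ) else 0) := by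
    intro x
    have hT : ∀ (t : Fˣ) (y : ↥(Sz F (2 ^ (m + 1)))) (hy : y ∈ borel hF),
        Cfsg.extendByZero (borel hF) (fun g => (l (torusPart hF g) : ℂ))
          (y⁻¹ * T hF t * y) = (l t : ℂ) := fun t y hy => by
      have hmem : y⁻¹ * T hF t * y ∈ borel hF :=
        mul_mem (mul_mem (inv_mem hy) (T_mem_borel hF t)) hy
      rw [extendByZero_of_mem _ hmem,
        show (⟨y⁻¹ * T hF t * y, hmem⟩ : borel hF) =
          (⟨y, hy⟩ : borel hF)⁻¹ * ⟨T hF t, T_mem_borel hF t⟩ * ⟨y, hy⟩ from rfl,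
        torusPart_conj hF,
        torusPart_eq hF (s := t) (a := 0) (b := 0) (by rw [U_zero, mul_one])]
    by_cases hx : x ∈ borel hF
    · rw [if_pos hx, if_neg (hnW x hx), add_zero, hT s x hx]
    by_cases hWx : W hF * x ∈ borel hF
    · rw [if_neg hx, if_pos hWx, zero_add, ← hT s⁻¹ (W hF * x) hWx, ← W_conj_T hF s]
      congr 1
      rw [inv_eq_of_mul_eq_one_right (W_mul_W hF), _root_.mul_inv_rev,
        inv_eq_of_mul_eq_one_right (W_mul_W hF)]
      calc x⁻¹ * T hF s * x = x⁻¹ * (W hF * W hF) * T hF s * (W hF * W hF) * x := by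
            rw [W_mul_W, mul_one, mul_one]
        _ = _ := by group
    · rw [if_neg hx, if_neg hWx, add_zero]
      exact extendByZero_of_notMem _ fun h => (mem_of_conj_T hF hs h).elim hx hWx
  rw [Finset.sum_congr rfl fun x _ => hval x, Finset.sum_add_distrib,
    Fintype.sum_equiv (Equiv.mulLeft (W hF)) (fun x => if W hF * x ∈ borel hF then (l s⁻¹ : ℂ) else 0)
      (fun y => if y ∈ borel hF then (l s⁻¹ : ℂ) else 0) (fun x => rfl),
    ← Finset.sum_filter, ← Finset.sum_filter, Finset.sum_const, Finset.sum_const, nsmul_eq_mul,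
    nsmul_eq_mul, ← Fintype.card_subtype, ← Nat.card_eq_fintype_card, ← mul_add,
    inv_mul_cancel_left₀ (card_subgroup_ne_zero _)]

/-- The restriction of the principal series to the stabilizer. -/
theorem ps_res (hm : 1 ≤ m) (l : Fˣ →* ℂˣ) (g : borel hF) :
    ps hF l (g : ↥(Sz F (2 ^ (m + 1)))) = if g = 1 then (Fintype.card F : ℂ) ^ 2 + 1
      else if torusPart hF g = 1 then 1
      else (l (torusPart hF g) : ℂ) + (l (torusPart hF g)⁻¹ : ℂ) := by
  split_ifs with h1 h2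
  · rw [h1, OneMemClass.coe_one, ps_one hF hm]
  · exact ps_unip hF l ((torusPart_eq_one_iff hF).1 h2) fun e => h1 (Subtype.ext e)
  · set s := torusPart hF g with hs
    obtain ⟨p, hp, hpi⟩ : ∃ p, toSL hF (g : ↥(Sz F (2 ^ (m + 1)))) • p = p ∧ p ≠ (inf : Cfsg.suzukiOvoid F m) := by
      by_contra h
      push Not at h
      exact h2 ((torusPart_eq_one_iff hF).2 (mem_unip_of_fix hF g.2 fun p hp => h p hp))
    obtain ⟨⟨c, d⟩, hcd, -⟩ := existsUnique_U hF hpi
    set y := U hF c d with hy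
    have hyb : y ∈ borel hF := U_mem_borel hF c d
    obtain ⟨t, ht⟩ := (stab_two hF (y⁻¹ * g * y)).1
      ⟨mul_mem (mul_mem (inv_mem hyb) g.2) hyb, (fix_conj hF _ y zero).2 (by rw [hcd, hp])⟩
    have hts : t = s := by
      have h3 : ((⟨y, hyb⟩ : borel hF)⁻¹ * g * ⟨y, hyb⟩ : borel hF) =
          (⟨T hF t, T_mem_borel hF t⟩ : borel hF) := Subtype.ext ht
      have h4 := congrArg (torusPart hF) h3
      rw [torusPart_conj hF,
        torusPart_eq hF (g := ⟨T hF t, T_mem_borel hF t⟩) (s := t) (a := 0) (b := 0)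
          (by rw [U_zero, mul_one])] at h4
      exact h4.symm
    have hcl : Cfsg.IsClassFunction ↥(Sz F (2 ^ (m + 1))) (ps hF l) := isClassFunction_indFun _ _
    have h5 := hcl (g : ↥(Sz F (2 ^ (m + 1)))) y⁻¹
    rw [inv_inv, ht, hts] at h5
    rw [← h5, ps_T hF hm l h2]

theorem isCharacter_ps (l : Fˣ →* ℂˣ) : Cfsg.IsCharacter ↥(Sz F (2 ^ (m + 1))) (ps hF l) :=
  isCharacter_indFun _ (isCharacter_of_isIrr (isIrrCharacter_units_hom (l.comp (torusPart hF))))

theorem sum_hom_units (f : Fˣ →* ℂˣ) :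
    ∑ s : Fˣ, (f s : ℂ) = if f = 1 then (Fintype.card Fˣ : ℂ) else 0 := by
  split_ifs with hf
  · simp [hf]
  · obtain ⟨t, ht⟩ : ∃ t, f t ≠ 1 := by
      by_contra h
      push Not at h
      exact hf (MonoidHom.ext h)
    have h : ∑ s : Fˣ, (f s : ℂ) = (f t : ℂ) * ∑ s : Fˣ, (f s : ℂ) := by
      rw [Finset.mul_sum]
      exact (Fintype.sum_equiv (Equiv.mulLeft t) _ _ fun s => by
        simp [map_mul]).symm
    by_contra h0
    exact ht (Units.ext (mul_right_cancel₀ h0 (h.symm.trans (one_mul _).symm)))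

theorem torusPart_surjective : Function.Surjective (torusPart hF) := fun s =>
  ⟨⟨T hF s, T_mem_borel hF s⟩, torusPart_eq hF (a := 0) (b := 0) (by rw [U_zero, mul_one])⟩

theorem sum_borel (hm : 1 ≤ m) [Fintype (borel hF)] (f : Fˣ → ℂ) :
    ∑ g : borel hF, f (torusPart hF g) = (Fintype.card F : ℂ) ^ 2 * ∑ s : Fˣ, f s := by
  classical
  have hker : Nat.card (torusPart hF).ker = Fintype.card F ^ 2 := by
    rw [← card_unip hF]
    refine Nat.card_congr ⟨fun g => ⟨g.1, (torusPart_eq_one_iff hF).1 g.2⟩,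
      fun u => ⟨⟨u.1, ?_⟩, ?_⟩, fun g => rfl, fun u => rfl⟩
    · obtain ⟨a, b, e⟩ := u.2
      exact e ▸ U_mem_borel hF a b
    · exact (torusPart_eq_one_iff hF).2 u.2
  rw [← Finset.sum_fiberwise Finset.univ (torusPart hF), Finset.mul_sum]
  refine Finset.sum_congr rfl fun s _ => ?_
  rw [Finset.sum_congr rfl fun g hg => by rw [(Finset.mem_filter.mp hg).2], Finset.sum_const,
    nsmul_eq_mul, ← Nat.cast_pow, ← hker, ← Fintype.card_subtype, ← Nat.card_eq_fintype_card]
  congr 2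
  obtain ⟨g₀, hg₀⟩ := torusPart_surjective hF s
  exact Nat.card_congr ⟨fun g => ⟨g₀⁻¹ * g.1, by
      rw [MonoidHom.mem_ker, map_mul, map_inv, hg₀, g.2, inv_mul_cancel]⟩,
    fun k => ⟨g₀ * k.1, by rw [map_mul, MonoidHom.mem_ker.mp k.2, mul_one, hg₀]⟩,
    fun g => Subtype.ext (by simp), fun k => Subtype.ext (by simp)⟩

theorem inner_ps (hm : 1 ≤ m) (l l' : Fˣ →* ℂˣ) :
    Cfsg.classInner (ps hF l) (ps hF l') =
      (if l = l' then 1 else 0) + (if l⁻¹ = l' then 1 else 0) := by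
  classical
  have := Fintype.ofFinite (borel hF)
  rw [show ps hF l = Cfsg.indFun (borel hF) (fun g => (l (torusPart hF g) : ℂ)) from rfl,
    frobenius_reciprocity (borel hF) _ (χ := ps hF l') (isClassFunction_indFun (borel hF) _), classInner_def]
  set S : Fˣ → ℂ := fun s => (l s : ℂ) * conj ((l' s : ℂ) + (l' s⁻¹ : ℂ)) with hS
  have hpt : ∀ g : borel hF, (l (torusPart hF g) : ℂ) * conj (ps hF l' (g : ↥(Sz F (2 ^ (m + 1))))) =
      S (torusPart hF g) + ((if g = 1 then ((Fintype.card F : ℂ) ^ 2) else 0) -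
        (if torusPart hF g = 1 then (1 : ℂ) else 0)) := by
    intro g
    rw [ps_res hF hm l' g]
    split_ifs with h1 h2 h2
    · subst h1; simp [hS]; ring
    · exact absurd (by rw [h1, map_one]) h2
    · simp [hS, h2]
    · simp [hS]
  have h1 : ∑ g : borel hF, ((if g = 1 then ((Fintype.card F : ℂ) ^ 2) else 0) -
      (if torusPart hF g = 1 then (1 : ℂ) else 0)) = 0 := by
    rw [Finset.sum_sub_distrib, Finset.sum_ite_eq' Finset.univ, if_pos (Finset.mem_univ _),
      sum_borel hF hm (fun s => if s = 1 then (1 : ℂ) else 0), Finset.sum_ite_eq' Finset.univ,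
      if_pos (Finset.mem_univ _), mul_one, sub_self]
  rw [Finset.sum_congr rfl fun g _ => hpt g, Finset.sum_add_distrib, h1, add_zero,
    sum_borel hF hm S]
  have hS2 : ∀ s, S s = (((l / l') s : ℂˣ) : ℂ) + (((l * l') s : ℂˣ) : ℂ) := by
    intro s
    have hc : ∀ t : Fˣ, conj ((l' t : ℂ)) = ((l' t⁻¹ : ℂˣ) : ℂ) := fun t => by
      have hn : ‖(l' t : ℂ)‖ = 1 := norm_eq_one_of_pow_eq_one' (Fintype.card_ne_zero (α := Fˣ))
        (by rw [← Units.val_pow_eq_pow_val, ← map_pow, pow_card_eq_one, map_one, Units.val_one])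
      rw [map_inv, Units.val_inv_eq_inv_val, Complex.inv_def, Complex.normSq_eq_norm_sq, hn]
      simp
    simp [hS, map_add, hc, map_inv, div_eq_mul_inv, mul_add]
  rw [Finset.sum_congr rfl fun s _ => hS2 s, Finset.sum_add_distrib, sum_hom_units, sum_hom_units,
    card_borel hF hm, Nat.cast_mul, Nat.cast_pow, ← Nat.card_eq_fintype_card (α := Fˣ),
    Nat.card_units, Nat.card_eq_fintype_card]
  have e1 : l / l' = 1 ↔ l = l' :=
    ⟨fun h => MonoidHom.ext fun s => div_eq_one.mp (DFunLike.congr_fun h s),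
      fun h => MonoidHom.ext fun s => div_eq_one.mpr (DFunLike.congr_fun h s)⟩
  have e2 : l * l' = 1 ↔ l⁻¹ = l' :=
    ⟨fun h => MonoidHom.ext fun s => mul_eq_one_iff_inv_eq.mp (DFunLike.congr_fun h s),
      fun h => MonoidHom.ext fun s => mul_eq_one_iff_inv_eq.mpr (DFunLike.congr_fun h s)⟩
  have hq0 : (Fintype.card F : ℂ) ≠ 0 := Nat.cast_ne_zero.mpr Fintype.card_ne_zero
  have hq1 : ((Fintype.card F - 1 : ℕ) : ℂ) ≠ 0 := Nat.cast_ne_zero.mpr (by
    have := Fintype.one_lt_card (α := F)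
    omega)
  simp only [e1, e2]
  split_ifs <;> field_simp <;> ring

include hF in
omit [Fintype ↥(Sz F (2 ^ (m + 1)))] in
theorem inv_ne_self {l : Fˣ →* ℂˣ} (hl : l ≠ 1) : l⁻¹ ≠ l := by
  classical
  intro h
  refine hl (MonoidHom.ext fun s => ?_)
  have h1 : l s ^ 2 = 1 := by
    have := DFunLike.congr_fun h s
    rw [MonoidHom.inv_apply] at this
    rw [pow_two]
    nth_rewrite 1 [← this]
    exact inv_mul_cancel _
  have h2 : l s ^ (Fintype.card F - 1) = 1 := by
    rw [← map_pow, ← Fintype.card_units, pow_card_eq_one, map_one]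
  have hodd : Nat.Coprime 2 (Fintype.card F - 1) := by
    rw [Nat.coprime_two_left, hF]
    have : 2 ∣ 2 ^ (2 * m + 1) := dvd_pow_self 2 (by omega)
    have := Nat.two_pow_pos (2 * m + 1)
    rw [Nat.odd_iff]
    omega
  have h3 := pow_gcd_eq_one.mpr ⟨h1, h2⟩
  rwa [hodd, pow_one] at h3

theorem isIrr_ps (hm : 1 ≤ m) {l : Fˣ →* ℂˣ} (hl : l ≠ 1) :
    Cfsg.IsIrrCharacter ↥(Sz F (2 ^ (m + 1))) (ps hF l) := by
  classical
  refine irr_of_norm_one (isCharacter_ps hF l) ?_
  rw [inner_ps hF hm, if_pos rfl, if_neg (inv_ne_self hF hl), add_zero]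

end CfsgLib.Suzuki.Chars
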