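import Cfsg.Agent.Lib.Suzuki.Chars.Values
import Cfsg.Agent.Lib.Char.ClassAlgebra

/-!
# The square of a class of elements of order above two covers the Suzuki group

`exists_two_conj`: every non-identity element is a product of two conjugates of a given element of
order above two. The proof evaluates the class constant with the character table.
-/

set_option autoImplicit false

namespace CfsgLib.Suzuki.Chars

open Matrix Cfsg.Lie CfsgLib.SuzukiLaws CfsgLib.Suzuki CfsgLib.Char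
open scoped ComplexConjugate

universe u

attribute [local instance] subgroupFintype Classical.propDecidable

/-- The three inequalities used for two torus elements. -/
theorem torus_ineq {r : ℕ} (hr : 2 ≤ r) :
    4 * (2 * (r : ℝ) ^ 2 + 2 * r - 3) / ((2 * (r : ℝ) ^ 2 - 1) * (2 * (r : ℝ) ^ 2 - 2 * r + 1)) <
      1 - 1 / (2 * (r : ℝ) ^ 2) ^ 2 + 2 / ((2 * (r : ℝ) ^ 2 - 1) * r) ∧
    4 * (2 * (r : ℝ) ^ 2 - 2 * r - 3) / ((2 * (r : ℝ) ^ 2 - 1) * (2 * (r : ℝ) ^ 2 + 2 * r + 1)) <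
      1 - 1 / (2 * (r : ℝ) ^ 2) ^ 2 - 2 / ((2 * (r : ℝ) ^ 2 - 1) * r) := by
  rcases eq_or_lt_of_le hr with rfl | h
  · norm_num
  have h3 : (3 : ℝ) ≤ r := by exact_mod_cast h
  have h9 : 9 ≤ (r : ℝ) ^ 2 := by nlinarith
  have hd : 17 ≤ 2 * (r : ℝ) ^ 2 - 1 := by linarith
  have e1 : 1 / (2 * (r : ℝ) ^ 2) ^ 2 ≤ 1 / 4 := by
    rw [div_le_div_iff₀ (by positivity) (by norm_num)]
    nlinarith
  have e2 : 2 / ((2 * (r : ℝ) ^ 2 - 1) * r) ≤ 1 / 8 := by
    rw [div_le_div_iff₀ (by nlinarith) (by norm_num)]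
    nlinarith
  have e3 : 0 < 2 / ((2 * (r : ℝ) ^ 2 - 1) * r) := div_pos two_pos (by nlinarith)
  constructor
  · have : 4 * (2 * (r : ℝ) ^ 2 + 2 * r - 3) /
        ((2 * (r : ℝ) ^ 2 - 1) * (2 * (r : ℝ) ^ 2 - 2 * r + 1)) ≤ 1 / 2 := by
      rw [div_le_iff₀ (by nlinarith)]
      nlinarith [mul_le_mul_of_nonneg_right hd
        (show (0 : ℝ) ≤ 2 * (r : ℝ) ^ 2 - 2 * r + 1 by nlinarith), sq_nonneg ((r : ℝ) - 3)]
    linarith
  · have : 4 * (2 * (r : ℝ) ^ 2 - 2 * r - 3) /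
        ((2 * (r : ℝ) ^ 2 - 1) * (2 * (r : ℝ) ^ 2 + 2 * r + 1)) ≤ 1 / 2 := by
      rw [div_le_iff₀ (by nlinarith)]
      nlinarith
    linarith

variable {F : Type u} [Field F] [Fintype F] [CharP F 2] {m : ℕ}
  {hF : Fintype.card F = 2 ^ (2 * m + 1)} [Fintype (Sz F (2 ^ (m + 1)))] {hm : 1 ≤ m}

/-- The character sum of the class constant. -/
noncomputable def classSumC (x g : Sz F (2 ^ (m + 1))) : ℂ :=
  ∑ χ : Cfsg.IrrCharacter (Sz F (2 ^ (m + 1))), (χ : Sz F (2 ^ (m + 1)) → ℂ) x *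
    (χ : Sz F (2 ^ (m + 1)) → ℂ) x * conj ((χ : Sz F (2 ^ (m + 1)) → ℂ) g) /
      (χ : Sz F (2 ^ (m + 1)) → ℂ) 1

theorem classSumC_congr {x x' g g' : Sz F (2 ^ (m + 1))} (hx : IsConj x x') (hg : IsConj g g') :
    classSumC x g = classSumC x' g' :=
  Finset.sum_congr rfl fun χ _ => by
    rw [isClassFunction_iff.mp (isClassFunction_of_isIrr χ.2) _ _ hx,
      isClassFunction_iff.mp (isClassFunction_of_isIrr χ.2) _ _ hg]

namespace Table

variable (t : Table hF hm)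

local notation "ℝr" => ((rr m : ℕ) : ℝ)

include t in
/-- The real forms of the degrees. -/
theorem degs : (((Fintype.card F : ℕ) : ℂ) ^ 2 = (((2 * ℝr ^ 2) ^ 2 : ℝ) : ℂ)) ∧
    ((((Fintype.card F - 1) * Nat.card t.B : ℕ) : ℂ) =
      (((2 * ℝr ^ 2 - 1) * (2 * ℝr ^ 2 - 2 * ℝr + 1) : ℝ) : ℂ)) ∧
    ((((Fintype.card F - 1) * Nat.card t.A : ℕ) : ℂ) =
      (((2 * ℝr ^ 2 - 1) * (2 * ℝr ^ 2 + 2 * ℝr + 1) : ℝ) : ℂ)) ∧
    ((((Fintype.card F - 1) * rr m : ℕ) : ℂ) = (((2 * ℝr ^ 2 - 1) * ℝr : ℝ) : ℂ)) := by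
  refine ⟨?_, ?_, ?_, ?_⟩ <;> simp only [Nat.cast_mul, t.q_sub_one, t.cardA', t.cardB', t.q_eq] <;>
    push_cast <;> rfl

theorem mem_rest_X (i : Fin t.dA.n) : t.dA.X i ∈ rest hF hm := by
  rw [t.rest_eq]; simp

theorem mem_rest_Y (j : Fin t.dB.n) : t.dB.X j ∈ rest hF hm := by
  rw [t.rest_eq]; simp

theorem mem_rest_W : t.W ∈ rest hF hm ∧ t.W' ∈ rest hF hm := by
  rw [t.rest_eq]; simp

omit t in
theorem norm_hom (l : Fˣ →* ℂˣ) (s : Fˣ) : ‖(l s : ℂ)‖ = 1 :=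
  norm_eq_one_of_pow_eq_one' (Fintype.card_ne_zero (α := Fˣ))
    (by rw [← Units.val_pow_eq_pow_val, ← map_pow, pow_card_eq_one, map_one, Units.val_one])

/-- The kinds of non-identity elements in normal form. -/
def Normal (g : Sz F (2 ^ (m + 1))) : Prop :=
  (∃ b : F, b ≠ 0 ∧ g = U hF 0 b) ∨ (∃ a b : F, a ≠ 0 ∧ g = U hF a b) ∨
    (∃ s : Fˣ, s ≠ 1 ∧ g = T hF s) ∨ (∃ a : t.A, a ≠ 1 ∧ g = a) ∨ ∃ b : t.B, b ≠ 1 ∧ g = b

theorem exists_normal {g : Sz F (2 ^ (m + 1))} (hg : g ≠ 1) : ∃ g', IsConj g g' ∧ t.Normal g' := by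
  obtain ⟨x, hx⟩ := classify hF hm t.cls hg
  have hc : IsConj g (x⁻¹ * g * x) := isConj_iff.mpr ⟨x⁻¹, by rw [inv_inv]⟩
  have h1 : x⁻¹ * g * x ≠ 1 := fun e => hg (by
    calc g = x * (x⁻¹ * g * x) * x⁻¹ := by group
      _ = 1 := by rw [e]; group)
  refine ⟨_, hc, ?_⟩
  rcases hx with ⟨a, b, e⟩ | ⟨s, hs, e⟩ | h | h
  · by_cases ha : a = 0
    · subst ha
      exact Or.inl ⟨b, fun hb => h1 (by rw [e, hb, U_zero]), e⟩
    · exact Or.inr (Or.inl ⟨a, b, ha, e⟩)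
  · exact Or.inr (Or.inr (Or.inl ⟨s, hs, e⟩))
  · exact Or.inr (Or.inr (Or.inr (Or.inl ⟨⟨_, h⟩, fun e => h1 (congrArg Subtype.val e), rfl⟩)))
  · exact Or.inr (Or.inr (Or.inr (Or.inr ⟨⟨_, h⟩, fun e => h1 (congrArg Subtype.val e), rfl⟩)))

omit t in
theorem U_ne_one {a b : F} (h : a ≠ 0 ∨ b ≠ 0) : U hF a b ≠ 1 := fun e => by
  obtain ⟨h1, h2⟩ := U_injective hF (e.trans (U_zero hF).symm)
  exact h.elim (· h1) (· h2)

/-- The bounds at a non-identity element in normal form. -/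
theorem small_values {g : Sz F (2 ^ (m + 1))} (hg : t.Normal g) :
    ‖(St hF : Sz F (2 ^ (m + 1)) → ℂ) g‖ ≤ 1 ∧
      ∀ χ ∈ psSet hF hm, ‖(χ : Sz F (2 ^ (m + 1)) → ℂ) g‖ ≤ 2 := by
  rcases hg with ⟨b, hb, rfl⟩ | ⟨a, b, ha, rfl⟩ | ⟨s, hs, rfl⟩ | ⟨a, ha, rfl⟩ | ⟨b, hb, rfl⟩
  · rw [St_unip hF ⟨0, b, rfl⟩ (U_ne_one (Or.inr hb))]
    refine ⟨by simp, fun χ hχ => ?_⟩
    rw [psSet_unip hχ ⟨0, b, rfl⟩ (U_ne_one (Or.inr hb))]; norm_num
  · rw [St_unip hF ⟨a, b, rfl⟩ (U_ne_one (Or.inl ha))]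
    refine ⟨by simp, fun χ hχ => ?_⟩
    rw [psSet_unip hχ ⟨a, b, rfl⟩ (U_ne_one (Or.inl ha))]; norm_num
  · rw [St_T hF hs]
    refine ⟨by simp, fun χ hχ => ?_⟩
    obtain ⟨l, -, e⟩ := (mem_psSet hF hm).mp hχ
    rw [← e, ps_T hF hm l hs]
    exact (norm_add_le _ _).trans (by rw [norm_hom, norm_hom]; norm_num)
  · rw [St_fpf hF (t.fpf_A ha)]
    refine ⟨by simp, fun χ hχ => ?_⟩
    rw [psSet_fpf hF hm hχ (t.fpf_A ha)]; norm_num
  · rw [St_fpf hF (t.fpf_B hb)]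
    refine ⟨by simp, fun χ hχ => ?_⟩
    rw [psSet_fpf hF hm hχ (t.fpf_B hb)]; norm_num

theorem ne_zero_T {s : Fˣ} (hs : s ≠ 1) {g : Sz F (2 ^ (m + 1))} (hg : t.Normal g) :
    classSumC (T hF s) g ≠ 0 := by
  obtain ⟨hSt, hps⟩ := t.small_values hg
  have hr : ∀ χ ∈ rest hF hm, (χ : Sz F (2 ^ (m + 1)) → ℂ) (T hF s) = 0 :=
    fun χ hχ => rest_T hF hm hχ hs
  have h8 : (8 : ℝ) ≤ (Fintype.card F : ℝ) := by exact_mod_cast eight_le_q hF hm
  set q := (Fintype.card F : ℝ) with hq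
  rw [classSumC, Chars.sum_split hF hm,
    Finset.sum_eq_zero (s := rest hF hm) fun χ hχ => by rw [hr χ hχ, zero_mul, zero_mul, zero_div],
    add_zero, irrOne_apply, irrOne_apply, irrOne_apply, St_T hF hs, St_one, map_one, one_mul,
    one_mul, div_one]
  intro h
  simp only [one_mul, div_one] at h
  have hcard : 2 * ((psSet hF hm).card : ℝ) = q - 2 := by
    have h2 := congrArg Complex.re (two_mul_sum_psSet hF hm fun _ => 1)
    have := eight_le_q hF hm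
    simp only [Finset.sum_const, Finset.card_univ, card_hom, nsmul_eq_mul, mul_one] at h2
    simp [Nat.cast_sub (show 2 ≤ Fintype.card F by omega)] at h2
    exact h2
  have hterm : ∀ χ ∈ psSet hF hm, ‖(χ : Sz F (2 ^ (m + 1)) → ℂ) (T hF s) *
      (χ : Sz F (2 ^ (m + 1)) → ℂ) (T hF s) * conj ((χ : Sz F (2 ^ (m + 1)) → ℂ) g) /
      (χ : Sz F (2 ^ (m + 1)) → ℂ) 1‖ ≤ 8 / (q ^ 2 + 1) := by
    intro χ hχ
    obtain ⟨l, -, e⟩ := (mem_psSet hF hm).mp hχ
    have hx : ‖(χ : Sz F (2 ^ (m + 1)) → ℂ) (T hF s)‖ ≤ 2 := by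
      rw [← e, ps_T hF hm l hs]
      exact (norm_add_le _ _).trans (by rw [norm_hom, norm_hom]; norm_num)
    have hd : ‖(χ : Sz F (2 ^ (m + 1)) → ℂ) 1‖ = q ^ 2 + 1 := by
      rw [psSet_one hF hm hχ, show ((Fintype.card F : ℂ) ^ 2 + 1) =
        ((Fintype.card F ^ 2 + 1 : ℕ) : ℂ) by push_cast; rfl, Complex.norm_natCast]
      push_cast
      rfl
    rw [norm_div, norm_mul, norm_mul, Complex.norm_conj, hd]
    refine div_le_div_of_nonneg_right ?_ (by positivity)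
    calc _ ≤ (2 : ℝ) * 2 * 2 := mul_le_mul (mul_le_mul hx hx (norm_nonneg _) (by norm_num))
          (hps χ hχ) (norm_nonneg _) (by norm_num)
      _ = 8 := by norm_num
  have hS : ‖∑ χ ∈ psSet hF hm, (χ : Sz F (2 ^ (m + 1)) → ℂ) (T hF s) *
      (χ : Sz F (2 ^ (m + 1)) → ℂ) (T hF s) * conj ((χ : Sz F (2 ^ (m + 1)) → ℂ) g) /
      (χ : Sz F (2 ^ (m + 1)) → ℂ) 1‖ ≤ (psSet hF hm).card * (8 / (q ^ 2 + 1)) :=
    (norm_sum_le _ _).trans ((Finset.sum_le_sum hterm).trans (le_of_eq (by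
      rw [Finset.sum_const, nsmul_eq_mul])))
  have hSt' : ‖conj ((St hF : Sz F (2 ^ (m + 1)) → ℂ) g) / (Fintype.card F : ℂ) ^ 2‖ ≤ 1 / q ^ 2 := by
    rw [norm_div, Complex.norm_conj, norm_pow, Complex.norm_natCast]
    exact div_le_div_of_nonneg_right hSt (by positivity)
  rw [add_assoc, add_eq_zero_iff_eq_neg'] at h
  have h1 := norm_add_le (conj ((St hF : Sz F (2 ^ (m + 1)) → ℂ) g) / (Fintype.card F : ℂ) ^ 2)
    (∑ χ ∈ psSet hF hm, (χ : Sz F (2 ^ (m + 1)) → ℂ) (T hF s) *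
      (χ : Sz F (2 ^ (m + 1)) → ℂ) (T hF s) * conj ((χ : Sz F (2 ^ (m + 1)) → ℂ) g) /
      (χ : Sz F (2 ^ (m + 1)) → ℂ) 1)
  rw [h, norm_neg, norm_one] at h1
  have h2 : (psSet hF hm).card * (8 / (q ^ 2 + 1)) ≤ 4 / 8 := by
    rw [← mul_div_assoc, div_le_div_iff₀ (by positivity) (by norm_num)]
    nlinarith
  have h3 : 1 / q ^ 2 ≤ 1 / 64 := one_div_le_one_div_of_le (by norm_num) (by nlinarith)
  linarith

/-- The class sum at an element of order four. -/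
theorem eval_four {a b : F} (ha : a ≠ 0) (g : Sz F (2 ^ (m + 1))) :
    classSumC (U hF a b) g = 1 +
      conj (∑ χ ∈ psSet hF hm, (χ : Sz F (2 ^ (m + 1)) → ℂ) g) / ((Fintype.card F : ℂ) ^ 2 + 1) +
      (conj (∑ i, (t.dA.X i : Sz F (2 ^ (m + 1)) → ℂ) g) /
          (((Fintype.card F - 1) * Nat.card t.B : ℕ) : ℂ) +
        conj (∑ j, (t.dB.X j : Sz F (2 ^ (m + 1)) → ℂ) g) /
          (((Fintype.card F - 1) * Nat.card t.A : ℕ) : ℂ) +
        -((rr m : ℂ) ^ 2) *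
          conj ((t.W : Sz F (2 ^ (m + 1)) → ℂ) g + (t.W' : Sz F (2 ^ (m + 1)) → ℂ) g) /
          (((Fintype.card F - 1) * rr m : ℕ) : ℂ)) := by
  have hu : U hF a b ∈ unip hF := ⟨a, b, rfl⟩
  obtain ⟨hX, hY, -, hW, hW'⟩ := t.four_values (b := b) ha
  rw [classSumC, t.sum_all, irrOne_apply, irrOne_apply, irrOne_apply,
    St_unip hF hu (U_ne_one (Or.inl ha)),
    Finset.sum_congr (s₁ := psSet hF hm) rfl fun χ hχ => by
      rw [psSet_unip hχ hu (U_ne_one (Or.inl ha)), psSet_one hF hm hχ, one_mul, one_mul],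
    Finset.sum_congr (s₁ := (Finset.univ : Finset (Fin t.dA.n))) rfl fun i _ => by
      rw [hX i, t.X_deg i, neg_one_mul, neg_neg, one_mul],
    Finset.sum_congr (s₁ := (Finset.univ : Finset (Fin t.dB.n))) rfl fun j _ => by
      rw [hY j, t.Y_deg j, neg_one_mul, neg_neg, one_mul],
    ← pow_two ((t.W : Sz F (2 ^ (m + 1)) → ℂ) (U hF a b)),
    ← pow_two ((t.W' : Sz F (2 ^ (m + 1)) → ℂ) (U hF a b)), hW, hW', t.W_deg _ t.mem_W.1, t.W_deg _ t.mem_W.2,
    ← Finset.sum_div, ← Finset.sum_div, ← Finset.sum_div, map_sum, map_sum, map_sum, map_add]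
  simp only [map_one, one_pow, one_mul, mul_one, div_one, zero_pow two_ne_zero, zero_mul, zero_div,
    add_zero]
  ring

/-- The class sum at an element of the larger torus. -/
theorem eval_A {a : t.A} (ha : a ≠ 1) (g : Sz F (2 ^ (m + 1))) :
    classSumC (a : Sz F (2 ^ (m + 1))) g = 1 +
      conj ((St hF : Sz F (2 ^ (m + 1)) → ℂ) g) / (Fintype.card F : ℂ) ^ 2 +
      ((∑ i, (((orbSum (t.dA.ψ i) a).re ^ 2 : ℝ) : ℂ) * conj ((t.dA.X i : Sz F (2 ^ (m + 1)) → ℂ) g)) /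
          (((Fintype.card F - 1) * Nat.card t.B : ℕ) : ℂ) +
        conj ((t.W : Sz F (2 ^ (m + 1)) → ℂ) g + (t.W' : Sz F (2 ^ (m + 1)) → ℂ) g) /
          (((Fintype.card F - 1) * rr m : ℕ) : ℂ)) := by
  rw [classSumC, t.sum_all, irrOne_apply, irrOne_apply, irrOne_apply, St_fpf hF (t.fpf_A ha), St_one,
    Finset.sum_eq_zero (s := psSet hF hm) fun χ hχ => by
      rw [psSet_fpf hF hm hχ (t.fpf_A ha), zero_mul, zero_mul, zero_div],
    Finset.sum_congr (s₁ := (Finset.univ : Finset (Fin t.dA.n))) rfl fun i _ => by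
      rw [t.X_A i a ha, t.X_deg i, neg_mul_neg, ← pow_two, t.orb_re_A i ha, ← Complex.ofReal_pow],
    Finset.sum_eq_zero (s := (Finset.univ : Finset (Fin t.dB.n))) fun j _ => by
      rw [t.Y_A j a ha, zero_mul, zero_mul, zero_div],
    t.W_A _ t.mem_W.1 a ha, t.W_A _ t.mem_W.2 a ha, t.W_deg _ t.mem_W.1, t.W_deg _ t.mem_W.2,
    ← Finset.sum_div, map_add]
  simp only [map_one, one_mul, mul_one, div_one, neg_mul, mul_neg, neg_neg]
  ring

/-- The class sum at an element of the smaller torus. -/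
theorem eval_B {b : t.B} (hb : b ≠ 1) (g : Sz F (2 ^ (m + 1))) :
    classSumC (b : Sz F (2 ^ (m + 1))) g = 1 +
      conj ((St hF : Sz F (2 ^ (m + 1)) → ℂ) g) / (Fintype.card F : ℂ) ^ 2 +
      ((∑ j, (((orbSum (t.dB.ψ j) b).re ^ 2 : ℝ) : ℂ) * conj ((t.dB.X j : Sz F (2 ^ (m + 1)) → ℂ) g)) /
          (((Fintype.card F - 1) * Nat.card t.A : ℕ) : ℂ) +
        conj ((t.W : Sz F (2 ^ (m + 1)) → ℂ) g + (t.W' : Sz F (2 ^ (m + 1)) → ℂ) g) /
          (((Fintype.card F - 1) * rr m : ℕ) : ℂ)) := by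
  rw [classSumC, t.sum_all, irrOne_apply, irrOne_apply, irrOne_apply, St_fpf hF (t.fpf_B hb), St_one,
    Finset.sum_eq_zero (s := psSet hF hm) fun χ hχ => by
      rw [psSet_fpf hF hm hχ (t.fpf_B hb), zero_mul, zero_mul, zero_div],
    Finset.sum_eq_zero (s := (Finset.univ : Finset (Fin t.dA.n))) fun i _ => by
      rw [t.X_B i b hb, zero_mul, zero_mul, zero_div],
    Finset.sum_congr (s₁ := (Finset.univ : Finset (Fin t.dB.n))) rfl fun j _ => by
      rw [t.Y_B j b hb, t.Y_deg j, neg_mul_neg, ← pow_two, t.orb_re_B j hb, ← Complex.ofReal_pow],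
    t.W_B _ t.mem_W.1 b hb, t.W_B _ t.mem_W.2 b hb, t.W_deg _ t.mem_W.1, t.W_deg _ t.mem_W.2,
    ← Finset.sum_div, map_add]
  simp only [map_one, one_mul, mul_one, div_one, neg_mul, mul_neg, neg_neg]
  ring

omit t in
theorem abs_orb_re_le {C : Subgroup (Sz F (2 ^ (m + 1)))} (hC : IsTorus4 C) (l : C →* ℂˣ) (c : C) :
    |(orbSum l c).re| ≤ 4 := (Complex.abs_re_le_norm _).trans (Fam.norm_orbSum_le hC l c)

theorem sum_re_sq_A {a : t.A} (ha : a ≠ 1) :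
    ∑ i, (orbSum (t.dA.ψ i) a).re ^ 2 = 2 * ℝr ^ 2 + 2 * ℝr - 3 := by
  have h := t.sum_orb_sq_A ha
  rw [t.cardA', Finset.sum_congr rfl fun i _ => by rw [t.orb_re_A i ha]] at h
  have h' : (((∑ i, (orbSum (t.dA.ψ i) a).re ^ 2 : ℝ)) : ℂ) =
      ((2 * ℝr ^ 2 + 2 * ℝr - 3 : ℝ) : ℂ) := by
    push_cast
    linear_combination h
  exact Complex.ofReal_injective h'

theorem sum_re_sq_B {b : t.B} (hb : b ≠ 1) :
    ∑ j, (orbSum (t.dB.ψ j) b).re ^ 2 = 2 * ℝr ^ 2 - 2 * ℝr - 3 := by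
  have h := t.sum_orb_sq_B hb
  rw [t.cardB', Finset.sum_congr rfl fun i _ => by rw [t.orb_re_B i hb]] at h
  have h' : (((∑ j, (orbSum (t.dB.ψ j) b).re ^ 2 : ℝ)) : ℂ) =
      ((2 * ℝr ^ 2 - 2 * ℝr - 3 : ℝ) : ℂ) := by
    push_cast
    linear_combination h
  exact Complex.ofReal_injective h'

omit t in
theorem sum_mul_le {n : ℕ} (v w : Fin n → ℝ) (hw : ∀ i, |w i| ≤ 4) :
    ∑ i, v i ^ 2 * w i ≤ 4 * ∑ i, v i ^ 2 := by
  rw [Finset.mul_sum]
  exact Finset.sum_le_sum fun i _ => by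
    nlinarith [sq_nonneg (v i), (abs_le.mp (hw i)).2]

include hm in
omit t in
theorem two_le_real : (2 : ℝ) ≤ ℝr := by exact_mod_cast two_le_rr hm

theorem ne_zero_A {a : t.A} (ha : a ≠ 1) {g : Sz F (2 ^ (m + 1))} (hg : t.Normal g) :
    classSumC (a : Sz F (2 ^ (m + 1))) g ≠ 0 := by
  obtain ⟨dq, dB, dA, dW⟩ := t.degs
  have hr := two_le_real (hm := hm)
  have hS := t.sum_re_sq_A ha
  have hd : 7 ≤ 2 * ℝr ^ 2 - 1 := by nlinarith
  have hq : 0 < 1 / (2 * ℝr ^ 2) ^ 2 := by positivity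
  have hq' : 1 / (2 * ℝr ^ 2) ^ 2 ≤ 1 / 4 :=
    one_div_le_one_div_of_le (by norm_num) (by nlinarith)
  have hw : 0 < 2 / ((2 * ℝr ^ 2 - 1) * ℝr) := div_pos two_pos (by nlinarith)
  have hdB : 0 < (2 * ℝr ^ 2 - 1) * (2 * ℝr ^ 2 - 2 * ℝr + 1) := mul_pos (by linarith) (by nlinarith)
  rw [t.eval_A ha, dq, dB, dW]
  rcases hg with ⟨b, hb, rfl⟩ | ⟨c, b, hc, rfl⟩ | ⟨s, hs, rfl⟩ | ⟨a', ha', rfl⟩ | ⟨b, hb, rfl⟩
  · obtain ⟨hX, -, hW, hW'⟩ := t.inv_values hb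
    rw [St_unip hF ⟨0, b, rfl⟩ (U_ne_one (Or.inr hb)), hW, hW']
    simp only [hX, map_sub, map_mul, map_one, map_ofNat, map_natCast, map_zero, map_add, map_neg]
    simp only [← Complex.ofReal_natCast, ← Complex.ofReal_ofNat, ← Complex.ofReal_one,
      ← Complex.ofReal_zero, ← Complex.ofReal_neg, ← Complex.ofReal_add, ← Complex.ofReal_sub,
      ← Complex.ofReal_mul, ← Complex.ofReal_div, ← Complex.ofReal_sum]
    refine fun e => absurd (Complex.ofReal_injective e) (ne_of_gt ?_)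
    rw [← Finset.sum_mul, hS]
    have e1 : 0 ≤ (2 * ℝr ^ 2 + 2 * ℝr - 3) * (2 * ℝr - 1) /
        ((2 * ℝr ^ 2 - 1) * (2 * ℝr ^ 2 - 2 * ℝr + 1)) :=
      div_nonneg (mul_nonneg (by nlinarith) (by linarith)) hdB.le
    have e2 : (-ℝr + -ℝr) / ((2 * ℝr ^ 2 - 1) * ℝr) = -(2 / (2 * ℝr ^ 2 - 1)) := by
      field_simp
      ring
    have e3 : 2 / (2 * ℝr ^ 2 - 1) ≤ 2 / 7 := div_le_div_of_nonneg_left two_pos.le (by norm_num) hd
    rw [e2]
    simp only [zero_div, add_zero]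
    linarith
  · obtain ⟨hX, -, hW, -, -⟩ := t.four_values (b := b) hc
    rw [St_unip hF ⟨c, b, rfl⟩ (U_ne_one (Or.inl hc)), hW]
    simp only [hX, map_zero, map_neg, map_one]
    simp only [← Complex.ofReal_natCast, ← Complex.ofReal_ofNat, ← Complex.ofReal_one,
      ← Complex.ofReal_zero, ← Complex.ofReal_neg, ← Complex.ofReal_add, ← Complex.ofReal_sub,
      ← Complex.ofReal_mul, ← Complex.ofReal_div, ← Complex.ofReal_sum]
    refine fun e => absurd (Complex.ofReal_injective e) (ne_of_gt ?_)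
    rw [← Finset.sum_mul, hS]
    have e1 : (2 * ℝr ^ 2 + 2 * ℝr - 3) / ((2 * ℝr ^ 2 - 1) * (2 * ℝr ^ 2 - 2 * ℝr + 1)) < 1 := by
      rw [div_lt_one hdB]
      nlinarith
    simp only [zero_div, add_zero, mul_neg, mul_one, neg_div]
    linarith
  · rw [St_T hF hs, rest_T hF hm t.mem_rest_W.1 hs, rest_T hF hm t.mem_rest_W.2 hs]
    simp only [rest_T hF hm (t.mem_rest_X _) hs, map_zero, mul_zero, Finset.sum_const_zero,
      zero_div, add_zero, map_one]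
    simp only [← Complex.ofReal_natCast, ← Complex.ofReal_ofNat, ← Complex.ofReal_one,
      ← Complex.ofReal_zero, ← Complex.ofReal_neg, ← Complex.ofReal_add, ← Complex.ofReal_sub,
      ← Complex.ofReal_mul, ← Complex.ofReal_div, ← Complex.ofReal_sum]
    refine fun e => absurd (Complex.ofReal_injective e) (ne_of_gt ?_)
    linarith
  · rw [St_fpf hF (t.fpf_A ha'), t.W_A _ t.mem_W.1 a' ha', t.W_A _ t.mem_W.2 a' ha',
      Finset.sum_congr rfl fun i _ => by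
        rw [t.X_A i a' ha', map_neg, t.conj_orb_A i ha', t.orb_re_A i ha']]
    simp only [map_neg, map_one, map_add]
    simp only [← Complex.ofReal_natCast, ← Complex.ofReal_ofNat, ← Complex.ofReal_one,
      ← Complex.ofReal_zero, ← Complex.ofReal_neg, ← Complex.ofReal_add, ← Complex.ofReal_sub,
      ← Complex.ofReal_mul, ← Complex.ofReal_div, ← Complex.ofReal_sum]
    refine fun e => absurd (Complex.ofReal_injective e) (ne_of_gt ?_)
    simp only [mul_neg, Finset.sum_neg_distrib, neg_div]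
    have e1 := div_le_div_of_nonneg_right (sum_mul_le (fun i => (orbSum (t.dA.ψ i) a).re)
      (fun i => (orbSum (t.dA.ψ i) a').re) fun i => abs_orb_re_le t.hA _ _) hdB.le
    rw [hS] at e1
    have e2 := (torus_ineq (two_le_rr hm)).1
    norm_num at e1 e2 ⊢
    linarith
  · rw [St_fpf hF (t.fpf_B hb), t.W_B _ t.mem_W.1 b hb, t.W_B _ t.mem_W.2 b hb]
    simp only [t.X_B _ b hb, map_zero, mul_zero, Finset.sum_const_zero, zero_div, zero_add, map_neg,
      map_one, map_add]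
    simp only [← Complex.ofReal_natCast, ← Complex.ofReal_ofNat, ← Complex.ofReal_one,
      ← Complex.ofReal_zero, ← Complex.ofReal_neg, ← Complex.ofReal_add, ← Complex.ofReal_sub,
      ← Complex.ofReal_mul, ← Complex.ofReal_div, ← Complex.ofReal_sum]
    refine fun e => absurd (Complex.ofReal_injective e) (ne_of_gt ?_)
    have e3 : 2 / ((2 * ℝr ^ 2 - 1) * ℝr) ≤ 2 / 14 :=
      div_le_div_of_nonneg_left two_pos.le (by norm_num) (by nlinarith)
    norm_num [neg_div] at hq' e3 ⊢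
    linarith

theorem ne_zero_B {b : t.B} (hb : b ≠ 1) {g : Sz F (2 ^ (m + 1))} (hg : t.Normal g) :
    classSumC (b : Sz F (2 ^ (m + 1))) g ≠ 0 := by
  obtain ⟨dq, dB, dA, dW⟩ := t.degs
  have hr := two_le_real (hm := hm)
  have hS := t.sum_re_sq_B hb
  have hd : 7 ≤ 2 * ℝr ^ 2 - 1 := by nlinarith
  have hq : 0 < 1 / (2 * ℝr ^ 2) ^ 2 := by positivity
  have hq' : 1 / (2 * ℝr ^ 2) ^ 2 ≤ 1 / 4 :=
    one_div_le_one_div_of_le (by norm_num) (by nlinarith)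
  have hw : 0 < 2 / ((2 * ℝr ^ 2 - 1) * ℝr) := div_pos two_pos (by nlinarith)
  have hdA : 0 < (2 * ℝr ^ 2 - 1) * (2 * ℝr ^ 2 + 2 * ℝr + 1) := mul_pos (by linarith) (by nlinarith)
  rw [t.eval_B hb, dq, dA, dW]
  rcases hg with ⟨c, hc, rfl⟩ | ⟨a, c, ha, rfl⟩ | ⟨s, hs, rfl⟩ | ⟨a, ha, rfl⟩ | ⟨b', hb', rfl⟩
  · obtain ⟨-, hY, hW, hW'⟩ := t.inv_values hc
    rw [St_unip hF ⟨0, c, rfl⟩ (U_ne_one (Or.inr hc)), hW, hW']
    simp only [hY, map_mul, map_one, map_ofNat, map_natCast, map_zero, map_add, map_neg]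
    simp only [← Complex.ofReal_natCast, ← Complex.ofReal_ofNat, ← Complex.ofReal_one,
      ← Complex.ofReal_zero, ← Complex.ofReal_neg, ← Complex.ofReal_add, ← Complex.ofReal_sub,
      ← Complex.ofReal_mul, ← Complex.ofReal_div, ← Complex.ofReal_sum]
    refine fun e => absurd (Complex.ofReal_injective e) (ne_of_gt ?_)
    rw [← Finset.sum_mul, hS]
    have e1 : (2 * ℝr ^ 2 - 2 * ℝr - 3) * (2 * ℝr + 1) /
        ((2 * ℝr ^ 2 - 1) * (2 * ℝr ^ 2 + 2 * ℝr + 1)) ≤ 5 / 7 := by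
      rw [div_le_div_iff₀ hdA (by norm_num)]
      nlinarith [mul_le_mul_of_nonneg_left hr (sq_nonneg ℝr)]
    have e2 : (-ℝr + -ℝr) / ((2 * ℝr ^ 2 - 1) * ℝr) = -(2 / (2 * ℝr ^ 2 - 1)) := by
      field_simp
      ring
    have e3 : 2 / (2 * ℝr ^ 2 - 1) ≤ 2 / 7 := div_le_div_of_nonneg_left two_pos.le (by norm_num) hd
    rw [e2]
    simp only [zero_div, add_zero, mul_neg, neg_div]
    rcases lt_or_eq_of_le hr with h2 | h2
    · have : 2 / (2 * ℝr ^ 2 - 1) < 2 / 7 :=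
        div_lt_div_of_pos_left two_pos (by norm_num) (by nlinarith)
      linarith
    · rw [← h2]; norm_num
  · obtain ⟨-, hY, hW, -, -⟩ := t.four_values (b := c) ha
    rw [St_unip hF ⟨a, c, rfl⟩ (U_ne_one (Or.inl ha)), hW]
    simp only [hY, map_zero, map_neg, map_one]
    simp only [← Complex.ofReal_natCast, ← Complex.ofReal_ofNat, ← Complex.ofReal_one,
      ← Complex.ofReal_zero, ← Complex.ofReal_neg, ← Complex.ofReal_add, ← Complex.ofReal_sub,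
      ← Complex.ofReal_mul, ← Complex.ofReal_div, ← Complex.ofReal_sum]
    refine fun e => absurd (Complex.ofReal_injective e) (ne_of_gt ?_)
    rw [← Finset.sum_mul, hS]
    have e1 : (2 * ℝr ^ 2 - 2 * ℝr - 3) / ((2 * ℝr ^ 2 - 1) * (2 * ℝr ^ 2 + 2 * ℝr + 1)) < 1 := by
      rw [div_lt_one hdA]
      nlinarith
    simp only [zero_div, add_zero, mul_neg, mul_one, neg_div]
    linarith
  · rw [St_T hF hs, rest_T hF hm t.mem_rest_W.1 hs, rest_T hF hm t.mem_rest_W.2 hs]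
    simp only [rest_T hF hm (t.mem_rest_Y _) hs, map_zero, mul_zero, Finset.sum_const_zero,
      zero_div, add_zero, map_one]
    simp only [← Complex.ofReal_natCast, ← Complex.ofReal_ofNat, ← Complex.ofReal_one,
      ← Complex.ofReal_zero, ← Complex.ofReal_neg, ← Complex.ofReal_add, ← Complex.ofReal_sub,
      ← Complex.ofReal_mul, ← Complex.ofReal_div, ← Complex.ofReal_sum]
    refine fun e => absurd (Complex.ofReal_injective e) (ne_of_gt ?_)
    linarith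
  · rw [St_fpf hF (t.fpf_A ha), t.W_A _ t.mem_W.1 a ha, t.W_A _ t.mem_W.2 a ha]
    simp only [t.Y_A _ a ha, map_zero, mul_zero, Finset.sum_const_zero, zero_div, zero_add, map_neg,
      map_one, map_add]
    simp only [← Complex.ofReal_natCast, ← Complex.ofReal_ofNat, ← Complex.ofReal_one,
      ← Complex.ofReal_zero, ← Complex.ofReal_neg, ← Complex.ofReal_add, ← Complex.ofReal_sub,
      ← Complex.ofReal_mul, ← Complex.ofReal_div, ← Complex.ofReal_sum]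
    refine fun e => absurd (Complex.ofReal_injective e) (ne_of_gt ?_)
    simp only [neg_div, show (1 : ℝ) + 1 = 2 by norm_num]
    linarith
  · rw [St_fpf hF (t.fpf_B hb'), t.W_B _ t.mem_W.1 b' hb', t.W_B _ t.mem_W.2 b' hb',
      Finset.sum_congr rfl fun j _ => by
        rw [t.Y_B j b' hb', map_neg, t.conj_orb_B j hb', t.orb_re_B j hb']]
    simp only [map_neg, map_one, map_add]
    simp only [← Complex.ofReal_natCast, ← Complex.ofReal_ofNat, ← Complex.ofReal_one,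
      ← Complex.ofReal_zero, ← Complex.ofReal_neg, ← Complex.ofReal_add, ← Complex.ofReal_sub,
      ← Complex.ofReal_mul, ← Complex.ofReal_div, ← Complex.ofReal_sum]
    refine fun e => absurd (Complex.ofReal_injective e) (ne_of_gt ?_)
    simp only [mul_neg, Finset.sum_neg_distrib, neg_div]
    have e1 := div_le_div_of_nonneg_right (sum_mul_le (fun i => (orbSum (t.dB.ψ i) b).re)
      (fun i => (orbSum (t.dB.ψ i) b').re) fun i => abs_orb_re_le t.hB _ _) hdA.le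
    rw [hS] at e1
    have e2 := (torus_ineq (two_le_rr hm)).2
    norm_num [neg_div] at e1 e2 ⊢
    linarith

theorem ne_zero_four {a b : F} (ha : a ≠ 0) {g : Sz F (2 ^ (m + 1))} (hg : t.Normal g) :
    classSumC (U hF a b) g ≠ 0 := by
  obtain ⟨dq, dB, dA, dW⟩ := t.degs
  have hr := two_le_real (hm := hm)
  have hd : 7 ≤ 2 * ℝr ^ 2 - 1 := by nlinarith
  have hdB : 0 < (2 * ℝr ^ 2 - 1) * (2 * ℝr ^ 2 - 2 * ℝr + 1) := mul_pos (by linarith) (by nlinarith)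
  have hdA : 0 < (2 * ℝr ^ 2 - 1) * (2 * ℝr ^ 2 + 2 * ℝr + 1) := mul_pos (by linarith) (by nlinarith)
  have hnA : 4 * (t.dA.n : ℝ) = 2 * ℝr ^ 2 + 2 * ℝr := by
    have h := congrArg Complex.re t.nA'
    simpa [pow_two] using h
  have hnB : 4 * (t.dB.n : ℝ) = 2 * ℝr ^ 2 - 2 * ℝr := by
    have h := congrArg Complex.re t.nB'
    simpa [pow_two] using h
  have hr2 : ∀ c : ℂ, -((rr m : ℂ) ^ 2) * c / (((2 * ℝr ^ 2 - 1) * ℝr : ℝ) : ℂ) =
      -(((ℝr / (2 * ℝr ^ 2 - 1) : ℝ)) : ℂ) * c := fun c => by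
    rw [show ((rr m : ℕ) : ℂ) = ((ℝr : ℝ) : ℂ) from (Complex.ofReal_natCast _).symm]
    have h1 : ((ℝr : ℝ) : ℂ) ≠ 0 := Complex.ofReal_ne_zero.mpr (by linarith)
    push_cast
    field_simp
  have hr3 : ℝr / (2 * ℝr ^ 2 - 1) ≤ 2 / 7 := by
    rw [div_le_div_iff₀ (by linarith) (by norm_num)]
    nlinarith
  rw [t.eval_four ha, dB, dA, dW, hr2, dq, show ((((2 * ℝr ^ 2) ^ 2 : ℝ)) : ℂ) + 1 =
    (((2 * ℝr ^ 2) ^ 2 + 1 : ℝ) : ℂ) by push_cast; rfl]
  rcases hg with ⟨c, hc, rfl⟩ | ⟨a', c, ha', rfl⟩ | ⟨s, hs, rfl⟩ | ⟨a', ha', rfl⟩ | ⟨b', hb', rfl⟩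
  · obtain ⟨hX, hY, hW, hW'⟩ := t.inv_values hc
    rw [hW, hW', Finset.sum_congr rfl fun χ hχ => psSet_unip hχ ⟨0, c, rfl⟩ (U_ne_one (Or.inr hc))]
    simp only [hX, hY, Finset.sum_const, Finset.card_univ, Fintype.card_fin, nsmul_eq_mul, map_mul,
      map_one, map_sub, map_add, map_neg, map_ofNat, map_natCast, mul_one]
    simp only [← Complex.ofReal_natCast, ← Complex.ofReal_ofNat, ← Complex.ofReal_one,
      ← Complex.ofReal_zero, ← Complex.ofReal_neg, ← Complex.ofReal_add, ← Complex.ofReal_sub,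
      ← Complex.ofReal_mul, ← Complex.ofReal_div, ← Complex.ofReal_sum]
    refine fun e => absurd (Complex.ofReal_injective e) (ne_of_gt ?_)
    have e0 : 0 ≤ ((psSet hF hm).card : ℝ) / ((2 * ℝr ^ 2) ^ 2 + 1) := by positivity
    have e1 : 0 ≤ (t.dA.n : ℝ) * (2 * ℝr - 1) / ((2 * ℝr ^ 2 - 1) * (2 * ℝr ^ 2 - 2 * ℝr + 1)) :=
      div_nonneg (mul_nonneg (Nat.cast_nonneg _) (by linarith)) hdB.le
    have e2 : (t.dB.n : ℝ) * (2 * ℝr + 1) / ((2 * ℝr ^ 2 - 1) * (2 * ℝr ^ 2 + 2 * ℝr + 1)) < 1 := by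
      rw [div_lt_one hdA]
      nlinarith
    have e3 : 0 ≤ ℝr / (2 * ℝr ^ 2 - 1) * (ℝr + ℝr) :=
      mul_nonneg (div_nonneg (by linarith) (by linarith)) (by linarith)
    push_cast
    simp only [mul_neg, neg_mul, neg_div]
    linarith
  · obtain ⟨hX, hY, hW, -, -⟩ := t.four_values (b := c) ha'
    rw [hW, Finset.sum_congr rfl fun χ hχ => psSet_unip hχ ⟨a', c, rfl⟩ (U_ne_one (Or.inl ha'))]
    simp only [hX, hY, Finset.sum_const, Finset.card_univ, Fintype.card_fin, nsmul_eq_mul,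
      map_neg, map_mul, map_natCast, map_one, map_zero, mul_zero, add_zero, mul_one]
    simp only [← Complex.ofReal_natCast, ← Complex.ofReal_ofNat, ← Complex.ofReal_one,
      ← Complex.ofReal_zero, ← Complex.ofReal_neg, ← Complex.ofReal_add, ← Complex.ofReal_sub,
      ← Complex.ofReal_mul, ← Complex.ofReal_div, ← Complex.ofReal_sum]
    refine fun e => absurd (Complex.ofReal_injective e) (ne_of_gt ?_)
    have e0 : 0 ≤ ((psSet hF hm).card : ℝ) / ((2 * ℝr ^ 2) ^ 2 + 1) := by positivity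
    have e1 : (t.dA.n : ℝ) / ((2 * ℝr ^ 2 - 1) * (2 * ℝr ^ 2 - 2 * ℝr + 1)) < 1 / 2 := by
      rw [div_lt_iff₀ hdB]
      nlinarith
    have e2 : (t.dB.n : ℝ) / ((2 * ℝr ^ 2 - 1) * (2 * ℝr ^ 2 + 2 * ℝr + 1)) < 1 / 2 := by
      rw [div_lt_iff₀ hdA]
      nlinarith
    push_cast
    simp only [mul_neg, mul_one, neg_div]
    linarith
  · rw [sum_psSet_T hs, rest_T hF hm t.mem_rest_W.1 hs, rest_T hF hm t.mem_rest_W.2 hs]
    simp only [rest_T hF hm (t.mem_rest_X _) hs, rest_T hF hm (t.mem_rest_Y _) hs,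
      Finset.sum_const_zero, map_zero, zero_div, add_zero, mul_zero, map_neg, map_one]
    simp only [← Complex.ofReal_natCast, ← Complex.ofReal_ofNat, ← Complex.ofReal_one,
      ← Complex.ofReal_zero, ← Complex.ofReal_neg, ← Complex.ofReal_add, ← Complex.ofReal_sub,
      ← Complex.ofReal_mul, ← Complex.ofReal_div, ← Complex.ofReal_sum]
    refine fun e => absurd (Complex.ofReal_injective e) (ne_of_gt ?_)
    have e0 : 1 / ((2 * ℝr ^ 2) ^ 2 + 1) < 1 := by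
      rw [div_lt_one (by positivity)]
      nlinarith
    simp only [neg_div]
    linarith
  · rw [Finset.sum_eq_zero (s := psSet hF hm) fun χ hχ => psSet_fpf hF hm hχ (t.fpf_A ha'),
      Finset.sum_congr (s₁ := (Finset.univ : Finset (Fin t.dA.n))) rfl fun i _ => t.X_A i a' ha',
      Finset.sum_neg_distrib, t.sum_orb_A ha', t.W_A _ t.mem_W.1 a' ha', t.W_A _ t.mem_W.2 a' ha']
    simp only [t.Y_A _ a' ha', Finset.sum_const_zero, map_zero, zero_div, add_zero, neg_neg,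
      map_one, map_add]
    simp only [← Complex.ofReal_natCast, ← Complex.ofReal_ofNat, ← Complex.ofReal_one,
      ← Complex.ofReal_zero, ← Complex.ofReal_neg, ← Complex.ofReal_add, ← Complex.ofReal_sub,
      ← Complex.ofReal_mul, ← Complex.ofReal_div, ← Complex.ofReal_sum]
    refine fun e => absurd (Complex.ofReal_injective e) (ne_of_gt ?_)
    have e1 : 0 ≤ 1 / ((2 * ℝr ^ 2 - 1) * (2 * ℝr ^ 2 - 2 * ℝr + 1)) := by positivity
    push_cast
    linarith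
  · rw [Finset.sum_eq_zero (s := psSet hF hm) fun χ hχ => psSet_fpf hF hm hχ (t.fpf_B hb'),
      Finset.sum_congr (s₁ := (Finset.univ : Finset (Fin t.dB.n))) rfl fun j _ => t.Y_B j b' hb',
      Finset.sum_neg_distrib, t.sum_orb_B hb', t.W_B _ t.mem_W.1 b' hb', t.W_B _ t.mem_W.2 b' hb']
    simp only [t.X_B _ b' hb', Finset.sum_const_zero, map_zero, zero_div, add_zero, zero_add,
      neg_neg, map_one, map_add, map_neg]
    simp only [← Complex.ofReal_natCast, ← Complex.ofReal_ofNat, ← Complex.ofReal_one,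
      ← Complex.ofReal_zero, ← Complex.ofReal_neg, ← Complex.ofReal_add, ← Complex.ofReal_sub,
      ← Complex.ofReal_mul, ← Complex.ofReal_div, ← Complex.ofReal_sum]
    refine fun e => absurd (Complex.ofReal_injective e) (ne_of_gt ?_)
    have e1 : 0 ≤ 1 / ((2 * ℝr ^ 2 - 1) * (2 * ℝr ^ 2 + 2 * ℝr + 1)) := by positivity
    have e2 : 0 ≤ ℝr / (2 * ℝr ^ 2 - 1) := div_nonneg (by linarith) (by linarith)
    push_cast
    linarith

end Table

variable (hF hm)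

include hF hm in
/-- Every non-identity element is a product of two conjugates of an element of order above two. -/
theorem exists_two_conj {x g : Sz F (2 ^ (m + 1))} (hx : 2 < orderOf x) (hg : g ≠ 1) :
    ∃ u v : Sz F (2 ^ (m + 1)), g = (u * x * u⁻¹) * (v * x * v⁻¹) := by
  obtain ⟨t⟩ := exists_table hF hm
  have hx1 : x ≠ 1 := fun e => by rw [e, orderOf_one] at hx; omega
  obtain ⟨g', hg', hgn⟩ := t.exists_normal hg
  obtain ⟨x', hx', hxn⟩ := t.exists_normal hx1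
  have hS : classSumC x g ≠ 0 := by
    rw [classSumC_congr hx' hg']
    rcases hxn with ⟨b, hb, e⟩ | ⟨a, b, ha, e⟩ | ⟨s, hs, e⟩ | ⟨a, ha, e⟩ | ⟨b, hb, e⟩
    · exfalso
      have hord : orderOf x' = orderOf x := by
        obtain ⟨c, hc⟩ := isConj_iff.mp hx'
        rw [← hc]
        exact orderOf_injective (MulAut.conj c).toMonoidHom (MulAut.conj c).injective x
      have hle : orderOf x' ≤ 2 := orderOf_le_of_pow_eq_one two_pos (by
        rw [pow_two, e, U_sq, zero_mul, U_zero])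
      omega
    · exact e ▸ t.ne_zero_four ha hgn
    · exact e ▸ t.ne_zero_T hs hgn
    · exact e ▸ t.ne_zero_A ha hgn
    · exact e ▸ t.ne_zero_B hb hgn
  have h := card_classProduct_eq x x g
  by_contra hno
  push Not at hno
  have h0 : IsEmpty {p : Sz F (2 ^ (m + 1)) × Sz F (2 ^ (m + 1)) //
      IsConj x p.1 ∧ IsConj x p.2 ∧ p.1 * p.2 = g} :=
    ⟨fun p => by
      obtain ⟨u, hu⟩ := isConj_iff.mp p.2.1
      obtain ⟨v, hv⟩ := isConj_iff.mp p.2.2.1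
      exact hno u v (by rw [hu, hv, p.2.2.2])⟩
  rw [Nat.card_of_isEmpty, Nat.cast_zero] at h
  have hc : Nonempty {y : Sz F (2 ^ (m + 1)) // IsConj x y} := ⟨⟨x, IsConj.refl x⟩⟩
  rcases mul_eq_zero.mp h.symm with h1 | h1
  · rcases div_eq_zero_iff.mp h1 with h1 | h1
    · rw [mul_self_eq_zero, Nat.cast_eq_zero] at h1
      exact absurd h1 Nat.card_pos.ne'
    · exact absurd h1 card_ne_zero'
  · exact hS h1

end CfsgLib.Suzuki.Chars
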