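import Cfsg.Agent.Lib.Suzuki.Chars.TableSmall
import Cfsg.Prelude.Def_DegreeGraph

/-!
# The character degrees of the Suzuki groups
-/

set_option autoImplicit false

namespace CfsgLib.Suzuki.Chars

open Matrix Cfsg.Lie CfsgLib.SuzukiLaws CfsgLib.Suzuki CfsgLib.Char
open scoped ComplexConjugate

universe u

attribute [local instance] subgroupFintype Classical.propDecidable

variable {F : Type u} [Field F] [Fintype F] [CharP F 2] {m : ℕ}
  (hF : Fintype.card F = 2 ^ (2 * m + 1)) [Fintype (Sz F (2 ^ (m + 1)))] (hm : 1 ≤ m)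

theorem charDegree_of_eq {χ : Cfsg.IrrCharacter (Sz F (2 ^ (m + 1)))} {d : ℕ}
    (h : (χ : Sz F (2 ^ (m + 1)) → ℂ) 1 = (d : ℂ)) :
    Cfsg.charDegree (χ : Sz F (2 ^ (m + 1)) → ℂ) = d := by
  rw [charDegree_cast (isCharacter_of_isIrr χ.2)] at h
  exact_mod_cast h

include hF hm in
/-- The set of character degrees. -/
theorem degrees : ∃ a b : ℕ, a = Fintype.card F + 2 * rr m + 1 ∧
    b = Fintype.card F - 2 * rr m + 1 ∧ a * b = Fintype.card F ^ 2 + 1 ∧
    Cfsg.charDegrees (Sz F (2 ^ (m + 1))) =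
      {1, Fintype.card F ^ 2, Fintype.card F ^ 2 + 1, (Fintype.card F - 1) * b,
        (Fintype.card F - 1) * a, (Fintype.card F - 1) * rr m} := by
  obtain ⟨t⟩ := exists_table hF hm
  obtain ⟨hAB, -, hA1, hB1⟩ := card_facts hF hm t.cardA t.cardB
  refine ⟨Nat.card t.A, Nat.card t.B, t.cardA, t.cardB, hAB, ?_⟩
  have h8 := eight_le_q hF hm
  have hps : ∀ χ ∈ psSet hF hm, Cfsg.charDegree (χ : Sz F (2 ^ (m + 1)) → ℂ) =
      Fintype.card F ^ 2 + 1 := fun χ hχ =>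
    charDegree_of_eq (by rw [psSet_one hF hm hχ]; push_cast; rfl)
  have hSt : Cfsg.charDegree (St hF : Sz F (2 ^ (m + 1)) → ℂ) = Fintype.card F ^ 2 :=
    charDegree_of_eq (by rw [St_one]; push_cast; rfl)
  ext d
  simp only [Cfsg.charDegrees, Set.mem_setOf_eq, Set.mem_insert_iff, Set.mem_singleton_iff]
  constructor
  · rintro ⟨χ, rfl⟩
    by_cases h1 : χ = irrOne
    · subst h1; exact Or.inl (charDegree_of_eq (by simp [irrOne_apply]))
    by_cases h2 : χ = St hF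
    · subst h2; exact Or.inr (Or.inl hSt)
    by_cases h3 : χ ∈ psSet hF hm
    · exact Or.inr (Or.inr (Or.inl (hps χ h3)))
    have h := (mem_rest hF hm).mpr ⟨h1, h2, h3⟩
    rw [t.rest_eq, Finset.mem_union, Finset.mem_union] at h
    rcases h with (h | h) | h
    · obtain ⟨i, -, rfl⟩ := Finset.mem_image.mp h
      exact Or.inr (Or.inr (Or.inr (Or.inl (charDegree_of_eq (t.X_deg i)))))
    · obtain ⟨i, -, rfl⟩ := Finset.mem_image.mp h
      exact Or.inr (Or.inr (Or.inr (Or.inr (Or.inl (charDegree_of_eq (t.Y_deg i))))))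
    · exact Or.inr (Or.inr (Or.inr (Or.inr (Or.inr (charDegree_of_eq (t.W_deg χ h))))))
  · rintro (rfl | rfl | rfl | rfl | rfl | rfl)
    · exact ⟨irrOne, charDegree_of_eq (by simp [irrOne_apply])⟩
    · exact ⟨St hF, hSt⟩
    · have : Nonempty {l : Fˣ →* ℂˣ // l ≠ 1} :=
        Fintype.card_pos_iff.mp (by rw [card_hom]; omega)
      obtain ⟨l⟩ := this
      exact ⟨_, hps ⟨ps hF l.1, isIrr_ps hF hm l.2⟩ ((mem_psSet hF hm).mpr ⟨l.1, l.2, rfl⟩)⟩
    · exact ⟨_, charDegree_of_eq (t.X_deg t.dA.i₀)⟩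
    · exact ⟨_, charDegree_of_eq (t.Y_deg t.dB.i₀)⟩
    · exact ⟨_, charDegree_of_eq (t.W_deg t.W (by simp))⟩

end CfsgLib.Suzuki.Chars
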