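import Cfsg.Agent.Lib.Suzuki.Chars.Basic

/-!
# The irreducible characters outside the principal series and the Steinberg character

* `sum_split`: the splitting of a sum over all irreducible characters;
* `rest_T`, `exists_eDeg`: the remaining characters vanish on the split torus and have degree
  divisible by `q - 1`;
* `X_mem_rest`, `coef_sq_rest`, `coef_deg_rest`: the exceptional characters of a torus without fixed
  points.
-/

set_option autoImplicit false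

namespace CfsgLib.Suzuki.Chars

open Matrix Cfsg.Lie CfsgLib.SuzukiLaws CfsgLib.Suzuki CfsgLib.Char
open scoped ComplexConjugate

variable {F : Type*} [Field F] [Fintype F] [CharP F 2] {m : ℕ}
  (hF : Fintype.card F = 2 ^ (2 * m + 1)) [Fintype (Sz F (2 ^ (m + 1)))]

attribute [local instance] Classical.propDecidable

include hF in
omit [CharP F 2] [Fintype (Sz F (2 ^ (m + 1)))] in
theorem eight_le_q (hm : 1 ≤ m) : 8 ≤ Fintype.card F := by
  rw [card_eq hF]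
  have := two_le_rr hm
  nlinarith

/-- The linear characters of the multiplicative group. -/
noncomputable instance : Fintype (Fˣ →* ℂˣ) := by
  have : NeZero (Monoid.exponent Fˣ : ℂ) := ⟨by exact_mod_cast Monoid.exponent_ne_zero_of_finite⟩
  have h := CommGroup.card_monoidHom_of_hasEnoughRootsOfUnity Fˣ ℂ
  have : Finite (Fˣ →* ℂˣ) := Nat.finite_of_card_ne_zero (h ▸ Nat.card_pos.ne')
  exact Fintype.ofFinite _

/-- The principal series as a set. -/
noncomputable def psSet (hm : 1 ≤ m) : Finset (Cfsg.IrrCharacter (Sz F (2 ^ (m + 1)))) :=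
  (Finset.univ : Finset {l : Fˣ →* ℂˣ // l ≠ 1}).image fun l => ⟨ps hF l.1, isIrr_ps hF hm l.2⟩

theorem mem_psSet (hm : 1 ≤ m) {χ : Cfsg.IrrCharacter (Sz F (2 ^ (m + 1)))} :
    χ ∈ psSet hF hm ↔ ∃ l : Fˣ →* ℂˣ, l ≠ 1 ∧ ps hF l = (χ : Sz F (2 ^ (m + 1)) → ℂ) := by
  simp only [psSet, Finset.mem_image, Finset.mem_univ, true_and, Subtype.exists]
  exact ⟨fun ⟨l, hl, e⟩ => ⟨l, hl, congrArg Subtype.val e⟩, fun ⟨l, hl, e⟩ => ⟨l, hl, Subtype.ext e⟩⟩

theorem ps_inj (hm : 1 ≤ m) {l l' : Fˣ →* ℂˣ} (hl : l ≠ 1) :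
    ps hF l = ps hF l' ↔ l = l' ∨ l⁻¹ = l' := by
  constructor
  · intro h
    by_contra hne
    push Not at hne
    have h1 := inner_ps hF hm l l'
    rw [← h, classInner_irr_self (isIrr_ps hF hm hl), if_neg hne.1, if_neg hne.2, add_zero] at h1
    exact one_ne_zero h1
  · intro h
    by_contra hne
    have hl' : l' ≠ 1 := by
      rcases h with rfl | rfl
      · exact hl
      · exact fun e => hl (MonoidHom.ext fun s => inv_eq_one.mp (DFunLike.congr_fun e s))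
    have h1 := inner_ps hF hm l l'
    rw [classInner_irr_ne (isIrr_ps hF hm hl) (isIrr_ps hF hm hl') hne] at h1
    rcases h with rfl | rfl
    · exact hne rfl
    · rw [if_pos rfl] at h1
      split_ifs at h1 <;> norm_num at h1

theorem two_mul_sum_psSet (hm : 1 ≤ m) (f : Cfsg.IrrCharacter (Sz F (2 ^ (m + 1))) → ℂ) :
    2 * ∑ χ ∈ psSet hF hm, f χ =
      ∑ l : {l : Fˣ →* ℂˣ // l ≠ 1}, f ⟨ps hF l.1, isIrr_ps hF hm l.2⟩ := by
  rw [psSet, Finset.mul_sum,
    ← Finset.sum_fiberwise_of_maps_to (t := (Finset.univ : Finset {l : Fˣ →* ℂˣ // l ≠ 1}).image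
      fun l => (⟨ps hF l.1, isIrr_ps hF hm l.2⟩ : Cfsg.IrrCharacter (Sz F (2 ^ (m + 1)))))
      (fun l hl => Finset.mem_image_of_mem _ hl)]
  refine Finset.sum_congr rfl fun χ hχ => ?_
  obtain ⟨l, -, rfl⟩ := Finset.mem_image.mp hχ
  have hli : l.1⁻¹ ≠ 1 := fun e =>
    l.2 (MonoidHom.ext fun s => inv_eq_one.mp (DFunLike.congr_fun e s))
  have hset : (Finset.univ.filter fun l' : {l : Fˣ →* ℂˣ // l ≠ 1} =>
      (⟨ps hF l'.1, isIrr_ps hF hm l'.2⟩ : Cfsg.IrrCharacter (Sz F (2 ^ (m + 1)))) =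
        ⟨ps hF l.1, isIrr_ps hF hm l.2⟩) = {l, ⟨l.1⁻¹, hli⟩} := by
    ext l'
    simp only [Finset.mem_filter, Finset.mem_univ, true_and, Finset.mem_insert, Finset.mem_singleton,
      Subtype.ext_iff]
    rw [eq_comm, ps_inj hF hm l.2]
    exact or_congr eq_comm eq_comm
  rw [Finset.sum_congr rfl fun l' hl' => congrArg f (Finset.mem_filter.mp hl').2, Finset.sum_const,
    hset, Finset.card_pair fun e => inv_ne_self hF l.2 (congrArg Subtype.val e).symm, nsmul_eq_mul]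
  norm_num

theorem card_hom : Fintype.card {l : Fˣ →* ℂˣ // l ≠ 1} = Fintype.card F - 2 := by
  have : NeZero (Monoid.exponent Fˣ : ℂ) := ⟨by exact_mod_cast Monoid.exponent_ne_zero_of_finite⟩
  rw [Fintype.card_subtype_compl, Fintype.card_subtype_eq, ← Nat.card_eq_fintype_card,
    CommGroup.card_monoidHom_of_hasEnoughRootsOfUnity Fˣ ℂ, Nat.card_units,
    Nat.card_eq_fintype_card]
  omega

theorem psSet_one (hm : 1 ≤ m) {χ : Cfsg.IrrCharacter (Sz F (2 ^ (m + 1)))} (h : χ ∈ psSet hF hm) :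
    (χ : Sz F (2 ^ (m + 1)) → ℂ) 1 = (Fintype.card F : ℂ) ^ 2 + 1 := by
  obtain ⟨l, -, e⟩ := (mem_psSet hF hm).mp h
  rw [← e, ps_one hF hm]

theorem psSet_fpf (hm : 1 ≤ m) {χ : Cfsg.IrrCharacter (Sz F (2 ^ (m + 1)))} (h : χ ∈ psSet hF hm)
    {g : Sz F (2 ^ (m + 1))} (hg : Fpf hF g) : (χ : Sz F (2 ^ (m + 1)) → ℂ) g = 0 := by
  obtain ⟨l, -, e⟩ := (mem_psSet hF hm).mp h
  rw [← e, ps_fpf hF l hg]

/-- The remaining irreducible characters. -/
noncomputable def rest (hm : 1 ≤ m) : Finset (Cfsg.IrrCharacter (Sz F (2 ^ (m + 1)))) :=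
  Finset.univ.filter fun χ => χ ≠ irrOne ∧ χ ≠ St hF ∧ χ ∉ psSet hF hm

theorem mem_rest (hm : 1 ≤ m) {χ : Cfsg.IrrCharacter (Sz F (2 ^ (m + 1)))} :
    χ ∈ rest hF hm ↔ χ ≠ irrOne ∧ χ ≠ St hF ∧ χ ∉ psSet hF hm := by
  simp [rest]

theorem St_ne_one (hm : 1 ≤ m) : (irrOne : Cfsg.IrrCharacter (Sz F (2 ^ (m + 1)))) ≠ St hF := by
  intro e
  have h := congrArg (fun χ : Cfsg.IrrCharacter (Sz F (2 ^ (m + 1))) => (χ : Sz F (2 ^ (m + 1)) → ℂ) 1) e
  simp only [St_one, irrOne_apply] at h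
  have h8 := eight_le_q hF hm
  have h' : (1 : ℕ) = Fintype.card F ^ 2 := by exact_mod_cast h
  nlinarith

theorem psSet_notMem (hm : 1 ≤ m) :
    (irrOne : Cfsg.IrrCharacter (Sz F (2 ^ (m + 1)))) ∉ psSet hF hm ∧ St hF ∉ psSet hF hm := by
  constructor <;> intro h <;> have h1 := psSet_one hF hm h
  · rw [irrOne_apply] at h1
    have h8 := eight_le_q hF hm
    have h' : (1 : ℕ) = Fintype.card F ^ 2 + 1 := by exact_mod_cast h1
    nlinarith
  · rw [St_one] at h1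
    have h' : Fintype.card F ^ 2 = Fintype.card F ^ 2 + 1 := by exact_mod_cast h1
    omega

theorem sum_split (hm : 1 ≤ m) {M : Type*} [AddCommMonoid M]
    (f : Cfsg.IrrCharacter (Sz F (2 ^ (m + 1))) → M) :
    ∑ χ, f χ = f irrOne + f (St hF) + ∑ χ ∈ psSet hF hm, f χ + ∑ χ ∈ rest hF hm, f χ := by
  obtain ⟨h1, h2⟩ := psSet_notMem hF hm
  have huniv : (Finset.univ : Finset (Cfsg.IrrCharacter (Sz F (2 ^ (m + 1))))) =
      insert irrOne (insert (St hF) (psSet hF hm)) ∪ rest hF hm := by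
    ext χ
    simp only [Finset.mem_univ, Finset.mem_union, Finset.mem_insert, mem_rest, true_iff]
    tauto
  have hdisj : Disjoint (insert irrOne (insert (St hF) (psSet hF hm))) (rest hF hm) := by
    rw [Finset.disjoint_left]
    intro χ hχ hr
    obtain ⟨r1, r2, r3⟩ := (mem_rest hF hm).mp hr
    rcases Finset.mem_insert.mp hχ with e | hχ
    · exact r1 e
    · rcases Finset.mem_insert.mp hχ with e | hχ
      · exact r2 e
      · exact r3 hχ
  have hins : (irrOne : Cfsg.IrrCharacter (Sz F (2 ^ (m + 1)))) ∉ insert (St hF) (psSet hF hm) := by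
    simp only [Finset.mem_insert, not_or]
    exact ⟨St_ne_one hF hm, h1⟩
  rw [huniv, Finset.sum_union hdisj, Finset.sum_insert hins, Finset.sum_insert h2]
  simp only [add_assoc]

theorem card_centralizer_T {s : Fˣ} (hs : s ≠ 1) :
    Nat.card (Subgroup.centralizer ({T hF s} : Set (Sz F (2 ^ (m + 1))))) = Fintype.card F - 1 := by
  rw [← Nat.card_eq_fintype_card, ← Nat.card_units]
  refine (Nat.card_eq_of_bijective (fun t : Fˣ => (⟨T hF t,
    Subgroup.mem_centralizer_singleton_iff.mpr (by rw [T_mul, T_mul, mul_comm])⟩ :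
      Subgroup.centralizer ({T hF s} : Set (Sz F (2 ^ (m + 1)))))) ⟨fun a b e => ?_, fun x => ?_⟩).symm
  · exact T_injective hF (congrArg Subtype.val e)
  · obtain ⟨t, ht⟩ := centralizer_T hF hs (Subgroup.mem_centralizer_singleton_iff.mp x.2)
    exact ⟨t, Subtype.ext ht.symm⟩

theorem sum_hom_apply {s : Fˣ} (hs : s ≠ 1) :
    ∑ l : {l : Fˣ →* ℂˣ // l ≠ 1}, ((l.1 s : ℂˣ) : ℂ) = -1 := by
  have : NeZero (Monoid.exponent Fˣ : ℂ) := ⟨by exact_mod_cast Monoid.exponent_ne_zero_of_finite⟩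
  obtain ⟨φ, hφ⟩ := CommGroup.exists_apply_ne_one_of_hasEnoughRootsOfUnity Fˣ ℂ hs
  have h0 : ∑ l : Fˣ →* ℂˣ, ((l s : ℂˣ) : ℂ) = 0 := by
    have h : ∑ l : Fˣ →* ℂˣ, ((l s : ℂˣ) : ℂ) = (φ s : ℂ) * ∑ l : Fˣ →* ℂˣ, ((l s : ℂˣ) : ℂ) := by
      rw [Finset.mul_sum]
      exact (Fintype.sum_equiv (Equiv.mulLeft φ) _ _ fun l => by simp).symm
    by_contra hne
    exact hφ (Units.ext (mul_right_cancel₀ hne (h.symm.trans (one_mul _).symm)))
  have h2 := Fintype.sum_subtype_add_sum_subtype (p := fun l : Fˣ →* ℂˣ => l ≠ 1)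
    (f := fun l => ((l s : ℂˣ) : ℂ))
  rw [h0] at h2
  have h3 : ∑ l : {l : Fˣ →* ℂˣ // ¬ l ≠ 1}, ((l.1 s : ℂˣ) : ℂ) = 1 := by
    rw [Fintype.sum_eq_single (⟨1, fun h => h rfl⟩ : {l : Fˣ →* ℂˣ // ¬ l ≠ 1})
      fun l hl => absurd (Subtype.ext (not_not.mp l.2)) hl]
    simp
  rw [h3] at h2
  exact eq_neg_of_add_eq_zero_left h2

/-- The remaining characters vanish on the split torus. -/
theorem rest_T (hm : 1 ≤ m) {χ : Cfsg.IrrCharacter (Sz F (2 ^ (m + 1)))} (hχ : χ ∈ rest hF hm)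
    {s : Fˣ} (hs : s ≠ 1) : (χ : Sz F (2 ^ (m + 1)) → ℂ) (T hF s) = 0 := by
  have h := second_orthogonality (T hF s) (T hF s)
  rw [if_pos (IsConj.refl _), sum_split hF hm, card_centralizer_T hF hs] at h
  have hs2 : s * s ≠ 1 := fun e => hs (eq_one_of_sq e)
  have hps : 2 * ∑ χ ∈ psSet hF hm, (χ : Sz F (2 ^ (m + 1)) → ℂ) (T hF s) *
      conj ((χ : Sz F (2 ^ (m + 1)) → ℂ) (T hF s)) = 2 * ((Fintype.card F - 2 : ℕ) : ℂ) - 2 := by
    rw [two_mul_sum_psSet hF hm]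
    have hpt : ∀ l : {l : Fˣ →* ℂˣ // l ≠ 1}, ps hF l.1 (T hF s) * conj (ps hF l.1 (T hF s)) =
        2 + ((l.1 (s * s) : ℂˣ) : ℂ) + ((l.1 (s * s)⁻¹ : ℂˣ) : ℂ) := by
      intro l
      have hn : ‖((l.1 s : ℂˣ) : ℂ)‖ = 1 := norm_eq_one_of_pow_eq_one' (Fintype.card_ne_zero (α := Fˣ))
        (by rw [← Units.val_pow_eq_pow_val, ← map_pow, pow_card_eq_one, map_one, Units.val_one])
      have hc : conj ((l.1 s : ℂˣ) : ℂ) = ((l.1 s : ℂˣ) : ℂ)⁻¹ := by
        rw [Complex.inv_def, Complex.normSq_eq_norm_sq, hn]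
        simp
      rw [ps_T hF hm l.1 hs, map_inv, Units.val_inv_eq_inv_val, map_add, map_inv₀, hc, inv_inv,
        map_inv, Units.val_inv_eq_inv_val, map_mul, Units.val_mul]
      field_simp
      ring
    rw [Finset.sum_congr rfl fun l _ => hpt l, Finset.sum_add_distrib, Finset.sum_add_distrib,
      sum_hom_apply hs2, sum_hom_apply (inv_ne_one.mpr hs2), Finset.sum_const, Finset.card_univ,
      card_hom, nsmul_eq_mul]
    ring
  have hR : ∑ χ ∈ rest hF hm, (χ : Sz F (2 ^ (m + 1)) → ℂ) (T hF s) *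
      conj ((χ : Sz F (2 ^ (m + 1)) → ℂ) (T hF s)) = 0 := by
    rw [irrOne_apply, St_T hF hs, map_one, mul_one] at h
    have h8 := eight_le_q hF hm
    rw [Nat.cast_sub (by omega)] at h hps
    push_cast at h hps
    linear_combination h - (1 / 2 : ℂ) * hps
  simp only [Complex.mul_conj] at hR
  have hR' : ∑ χ ∈ rest hF hm, Complex.normSq ((χ : Sz F (2 ^ (m + 1)) → ℂ) (T hF s)) = 0 := by
    exact_mod_cast hR
  exact Complex.normSq_eq_zero.mp
    ((Finset.sum_eq_zero_iff_of_nonneg fun _ _ => Complex.normSq_nonneg _).mp hR' χ hχ)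

/-- The remaining degrees are multiples of `q - 1`. -/
theorem exists_eDeg (hm : 1 ≤ m) {χ : Cfsg.IrrCharacter (Sz F (2 ^ (m + 1)))} (hχ : χ ∈ rest hF hm) :
    ∃ e : ℕ, 0 < e ∧ (χ : Sz F (2 ^ (m + 1)) → ℂ) 1 = ((Fintype.card F - 1 : ℕ) : ℂ) * e ∧
      (Fintype.card F - 1) * e ∣ Nat.card (Sz F (2 ^ (m + 1))) := by
  obtain ⟨dd, hd0, hd⟩ := exists_degree_pos χ.2
  let φ : Fˣ →* Sz F (2 ^ (m + 1)) := MonoidHom.mk' (T hF) fun a b => (T_mul hF a b).symm
  obtain ⟨k, hk⟩ := classInner_char_nat (isCharacter_comp (isCharacter_of_isIrr χ.2) φ)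
    (isCharacter_one (G := Fˣ))
  rw [classInner_one_right] at hk
  simp only [Function.comp_apply, MonoidHom.mk'_apply, φ] at hk
  rw [Finset.sum_eq_single (1 : Fˣ) (fun s _ hs => rest_T hF hm hχ hs)
    (by simp)] at hk
  simp only [T_one, hd, Nat.card_eq_fintype_card, Fintype.card_units] at hk
  have hq1 : ((Fintype.card F - 1 : ℕ) : ℂ) ≠ 0 := Nat.cast_ne_zero.mpr (by
    have := Fintype.one_lt_card (α := F)
    omega)
  rw [inv_mul_eq_iff_eq_mul₀ hq1] at hk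
  have hk' : dd = (Fintype.card F - 1) * k := by exact_mod_cast hk
  refine ⟨k, Nat.pos_of_ne_zero fun h => hd0.ne' (by rw [hk', h, mul_zero]), by rw [hd, hk], ?_⟩
  rw [← hk']
  exact degree_dvd_card χ.2 hd

/-- The degree divided by `q - 1`. -/
noncomputable def eDeg (χ : Cfsg.IrrCharacter (Sz F (2 ^ (m + 1)))) : ℕ :=
  Cfsg.charDegree (χ : Sz F (2 ^ (m + 1)) → ℂ) / (Fintype.card F - 1)

theorem eDeg_spec (hm : 1 ≤ m) {χ : Cfsg.IrrCharacter (Sz F (2 ^ (m + 1)))} (hχ : χ ∈ rest hF hm) :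
    0 < eDeg χ ∧ (χ : Sz F (2 ^ (m + 1)) → ℂ) 1 = ((Fintype.card F - 1 : ℕ) : ℂ) * eDeg χ ∧
      eDeg χ ∣ Fintype.card F ^ 2 * (Fintype.card F ^ 2 + 1) := by
  obtain ⟨e, he0, he, hdvd⟩ := exists_eDeg hF hm hχ
  have hq1 : 0 < Fintype.card F - 1 := by have := Fintype.one_lt_card (α := F); omega
  have hcd : Cfsg.charDegree (χ : Sz F (2 ^ (m + 1)) → ℂ) = (Fintype.card F - 1) * e := by
    have h := charDegree_cast (isCharacter_of_isIrr χ.2)
    rw [he] at h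
    exact_mod_cast h.symm
  have hee : eDeg χ = e := by rw [eDeg, hcd, Nat.mul_div_cancel_left _ hq1]
  rw [hee]
  refine ⟨he0, he, (Nat.mul_dvd_mul_iff_left hq1).mp (hdvd.trans (dvd_of_eq ?_))⟩
  rw [card_group hF hm, hF]
  ring

theorem sum_eDeg_sq (hm : 1 ≤ m) :
    (∑ χ ∈ rest hF hm, eDeg χ ^ 2) * (Fintype.card F - 1) ^ 2 + (Fintype.card F - 2) / 2 *
      (Fintype.card F ^ 2 + 1) ^ 2 + Fintype.card F ^ 4 + 1 = Nat.card (Sz F (2 ^ (m + 1))) := by
  have h := sum_degree_sq (G := Sz F (2 ^ (m + 1)))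
  have hrest : ∑ χ ∈ rest hF hm, (χ : Sz F (2 ^ (m + 1)) → ℂ) 1 ^ 2 =
      ∑ χ ∈ rest hF hm, (((Fintype.card F - 1 : ℕ) : ℂ) * eDeg χ) ^ 2 :=
    Finset.sum_congr rfl fun χ hχ => by rw [(eDeg_spec hF hm hχ).2.1]
  have hps : ∑ χ ∈ psSet hF hm, (χ : Sz F (2 ^ (m + 1)) → ℂ) 1 ^ 2 =
      ∑ χ ∈ psSet hF hm, ((Fintype.card F : ℂ) ^ 2 + 1) ^ 2 :=
    Finset.sum_congr rfl fun χ hχ => by rw [psSet_one hF hm hχ]
  rw [sum_split hF hm, hrest, hps] at h
  have h2 : 2 ∣ Fintype.card F - 2 := by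
    have e : 2 ∣ Fintype.card F := hF ▸ dvd_pow_self 2 (by omega)
    omega
  have hcard : (psSet hF hm).card = (Fintype.card F - 2) / 2 := by
    have h3 := two_mul_sum_psSet hF hm fun _ => 1
    simp only [Finset.sum_const, Finset.card_univ, card_hom, nsmul_eq_mul, mul_one] at h3
    have h4 : 2 * (psSet hF hm).card = Fintype.card F - 2 := by exact_mod_cast h3
    omega
  rw [irrOne_apply, St_one, Finset.sum_const, hcard, nsmul_eq_mul] at h
  have h' : ((1 + (Fintype.card F ^ 2) ^ 2 + (Fintype.card F - 2) / 2 * (Fintype.card F ^ 2 + 1) ^ 2 +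
      ∑ χ ∈ rest hF hm, ((Fintype.card F - 1) * eDeg χ) ^ 2 : ℕ) : ℂ) =
      ((Nat.card (Sz F (2 ^ (m + 1))) : ℕ) : ℂ) := by
    push_cast [← h]
    ring
  rw [Nat.cast_inj] at h'
  rw [← h', Finset.sum_mul]
  have : ∑ χ ∈ rest hF hm, eDeg χ ^ 2 * (Fintype.card F - 1) ^ 2 =
      ∑ χ ∈ rest hF hm, ((Fintype.card F - 1) * eDeg χ) ^ 2 :=
    Finset.sum_congr rfl fun χ _ => by ring
  rw [this]
  ring

include hF in
omit [Fintype (Sz F (2 ^ (m + 1)))] in
theorem hom_trivial (hm : 1 ≤ m) (f : Sz F (2 ^ (m + 1)) →* ℂˣ) (g : Sz F (2 ^ (m + 1))) :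
    f g = 1 := by
  have h : g ∈ commutator (Sz F (2 ^ (m + 1))) := perfect hF hm ▸ Subgroup.mem_top g
  exact Abelianization.commutator_subset_ker f h

section Side

variable {C : Subgroup (Sz F (2 ^ (m + 1)))} [Fintype C] [Fintype (nrm C)]
  (hC : IsTorus4 C) (hfpf : ∀ a ∈ C, a ≠ 1 → Fpf hF a) (d : Fam C)

omit hfpf in
/-- A member of the family is determined by its degree and its values on the torus. -/
theorem eq_X_of_agree (hn : 2 ≤ d.n) {χ : Cfsg.IrrCharacter (Sz F (2 ^ (m + 1)))} {i : Fin d.n}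
    (h : ∀ a : C, (χ : Sz F (2 ^ (m + 1)) → ℂ) a = (d.X i : Sz F (2 ^ (m + 1)) → ℂ) a) :
    χ = d.X i := by
  by_contra hne
  have key : ∀ j, d.mult χ + (d.ε : ℂ) * (if χ = d.X j then 1 else 0) =
      d.mult (d.X i) + (d.ε : ℂ) * (if d.X i = d.X j then 1 else 0) := fun j => by
    rw [← d.inner_res, ← d.inner_res]
    exact congrArg (Cfsg.classInner · _) (funext h)
  have hε : (d.ε : ℂ) ≠ 0 := by rcases d.ε_eq with e | e <;> simp [e]
  have hi := key i
  rw [if_neg hne, if_pos rfl, mul_zero, add_zero, mul_one] at hi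
  obtain ⟨j, hji⟩ := Fintype.exists_ne_of_one_lt_card (by rw [Fintype.card_fin]; omega) i
  by_cases hX : ∃ l, χ = d.X l
  · obtain ⟨l, rfl⟩ := hX
    have hl := key l
    rw [if_pos rfl, if_neg (Ne.symm hne), mul_zero, add_zero, mul_one, hi] at hl
    exact hε (by linear_combination (1 / 2 : ℂ) * hl)
  · push Not at hX
    have hj := key j
    rw [if_neg (hX j), if_neg (fun e => hji (d.X_inj e).symm), mul_zero, add_zero, add_zero, hi] at hj
    exact hε (by linear_combination hj)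

include hC hfpf in
theorem X_mem_rest (hm : 1 ≤ m) (hn : 2 ≤ d.n) (i : Fin d.n) : d.X i ∈ rest hF hm := by
  obtain ⟨j, hji⟩ := Fintype.exists_ne_of_one_lt_card (by rw [Fintype.card_fin]; omega) i
  have hdeg : (d.X j : Sz F (2 ^ (m + 1)) → ℂ) 1 = (d.X i : Sz F (2 ^ (m + 1)) → ℂ) 1 :=
    (d.X_v_eq hC j).2.trans (d.X_v_eq hC i).2.symm
  have h8 := eight_le_q hF hm
  have hmod : ∀ N : ℕ, (d.X i : Sz F (2 ^ (m + 1)) → ℂ) 1 = (N : ℂ) → d.X j ∈ rest hF hm →
      (Fintype.card F - 1) ∣ N := by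
    intro N hN hr
    obtain ⟨e, -, he, -⟩ := exists_eDeg hF hm hr
    rw [hdeg, hN] at he
    exact ⟨e, by exact_mod_cast he⟩
  rw [mem_rest]
  refine ⟨fun e => ?_, fun e => ?_, fun h => ?_⟩
  · rw [e, irrOne_apply] at hdeg
    refine hji (d.X_inj (Subtype.ext (funext fun g => ?_)))
    rw [e, irrOne_apply, ← linearHom_apply (isCharacter_of_isIrr (d.X j).2) hdeg g,
      hom_trivial hF hm, Units.val_one]
  · rw [e, St_one] at hdeg
    by_cases hr : d.X j ∈ rest hF hm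
    · have h1 := hmod (Fintype.card F ^ 2) (by rw [e, St_one]; push_cast; rfl) hr
      obtain ⟨k, hk⟩ : ∃ k, Fintype.card F = k + 1 := ⟨Fintype.card F - 1, by omega⟩
      rw [hk, Nat.add_sub_cancel, show (k + 1) ^ 2 = 1 + k * (k + 2) by ring,
        Nat.dvd_add_left (dvd_mul_right _ _)] at h1
      have := Nat.dvd_one.mp h1
      omega
    · rw [mem_rest] at hr
      by_cases h1 : d.X j = irrOne
      · exact St_ne_one hF hm (Subtype.ext (funext fun g => by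
          exfalso
          rw [h1, irrOne_apply] at hdeg
          have h' : (1 : ℕ) = Fintype.card F ^ 2 := by exact_mod_cast hdeg
          nlinarith))
      · have h2 : d.X j ≠ St hF := fun e' => hji (d.X_inj (e'.trans e.symm))
        have h3 : d.X j ∈ psSet hF hm := by tauto
        rw [psSet_one hF hm h3] at hdeg
        have h' : Fintype.card F ^ 2 + 1 = Fintype.card F ^ 2 := by exact_mod_cast hdeg
        omega
  · rw [psSet_one hF hm h] at hdeg
    by_cases hr : d.X j ∈ rest hF hm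
    · have h1 := hmod (Fintype.card F ^ 2 + 1) (by rw [psSet_one hF hm h]; push_cast; rfl) hr
      obtain ⟨k, hk⟩ : ∃ k, Fintype.card F = k + 1 := ⟨Fintype.card F - 1, by omega⟩
      rw [hk, Nat.add_sub_cancel, show (k + 1) ^ 2 + 1 = 2 + k * (k + 2) by ring,
        Nat.dvd_add_left (dvd_mul_right _ _)] at h1
      have := Nat.le_of_dvd two_pos h1
      omega
    · rw [mem_rest] at hr
      by_cases h1 : d.X j = irrOne
      · rw [h1, irrOne_apply] at hdeg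
        have h' : (1 : ℕ) = Fintype.card F ^ 2 + 1 := by exact_mod_cast hdeg
        nlinarith
      by_cases h2 : d.X j = St hF
      · rw [h2, St_one] at hdeg
        have h' : Fintype.card F ^ 2 = Fintype.card F ^ 2 + 1 := by exact_mod_cast hdeg
        omega
      have h3 : d.X j ∈ psSet hF hm := by tauto
      refine hji (d.X_inj (eq_X_of_agree d hn fun a => ?_))
      by_cases ha : a = 1
      · rw [ha, OneMemClass.coe_one, psSet_one hF hm h3, psSet_one hF hm h]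
      · have ha' : (a : Sz F (2 ^ (m + 1))) ≠ 1 := fun e => ha (Subtype.ext e)
        rw [psSet_fpf hF hm h3 (hfpf _ a.2 ha'), psSet_fpf hF hm h (hfpf _ a.2 ha')]

include hC hfpf in
/-- Coefficients of the trivial, Steinberg and principal series characters. -/
theorem coef_known (hm : 1 ≤ m) (hX : ∀ i, d.X i ∈ rest hF hm) (hC1 : 1 < Nat.card C) :
    d.coef irrOne = 1 ∧ d.coef (St hF) = -1 ∧ ∀ χ ∈ psSet hF hm, d.coef χ = 0 := by
  have : Nontrivial C := Finite.one_lt_card_iff_nontrivial.mp hC1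
  obtain ⟨a, ha⟩ := exists_ne (1 : C)
  have ha' : (a : Sz F (2 ^ (m + 1))) ≠ 1 := fun e => ha (Subtype.ext e)
  have key : ∀ (χ : Cfsg.IrrCharacter (Sz F (2 ^ (m + 1)))) (z : ℤ), χ ∉ rest hF hm →
      (χ : Sz F (2 ^ (m + 1)) → ℂ) a = (z : ℂ) → d.coef χ = z := by
    intro χ z hχ hz
    rw [d.value_of_notMem hC χ (fun i e => hχ (e ▸ hX i)) ha] at hz
    have hne : χ ≠ d.X d.i₀ := fun e => hχ (e ▸ hX _)
    rw [Fam.coef, if_neg hne, mul_zero, sub_zero]
    exact_mod_cast hz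
  refine ⟨key _ 1 (by simp [mem_rest]) (by rw [irrOne_apply]; simp),
    key _ (-1) (by simp [mem_rest]) (by rw [St_fpf hF (hfpf _ a.2 ha')]; simp),
    fun χ hχ => key χ 0 (by simp [mem_rest, hχ]) (by rw [psSet_fpf hF hm hχ (hfpf _ a.2 ha')]; simp)⟩

include hC hfpf in
theorem coef_sq_rest (hm : 1 ≤ m) (hX : ∀ i, d.X i ∈ rest hF hm) (hC1 : 1 < Nat.card C) :
    ∑ χ ∈ rest hF hm, d.coef χ ^ 2 = 3 := by
  obtain ⟨h1, h2, h3⟩ := coef_known hF hC hfpf d hm hX hC1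
  have h := d.norm hC
  rw [sum_split hF hm, h1, h2, Finset.sum_eq_zero fun χ hχ => by rw [h3 χ hχ]; rfl] at h
  linarith

include hC hfpf in
theorem coef_deg_rest (hm : 1 ≤ m) (hX : ∀ i, d.X i ∈ rest hF hm) (hC1 : 1 < Nat.card C) :
    ∑ χ ∈ rest hF hm, d.coef χ * (eDeg χ : ℤ) = Fintype.card F + 1 := by
  obtain ⟨h1, h2, h3⟩ := coef_known hF hC hfpf d hm hX hC1
  have h := d.degree_sum hC
  rw [sum_split hF hm, h1, h2, Finset.sum_eq_zero fun χ hχ => by rw [h3 χ hχ, Int.cast_zero, zero_mul],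
    irrOne_apply, St_one, Finset.sum_congr rfl fun χ hχ => by rw [(eDeg_spec hF hm hχ).2.1]] at h
  have h8 := eight_le_q hF hm
  obtain ⟨k, hk⟩ : ∃ k, Fintype.card F = k + 1 := ⟨Fintype.card F - 1, by omega⟩
  rw [hk, Nat.add_sub_cancel] at h
  have hk0 : (k : ℂ) ≠ 0 := Nat.cast_ne_zero.mpr (by omega)
  have h' : ((∑ χ ∈ rest hF hm, d.coef χ * (eDeg χ : ℤ) : ℤ) : ℂ) = ((k : ℤ) + 2 : ℤ) := by
    refine mul_left_cancel₀ hk0 ?_
    push_cast at h ⊢
    rw [Finset.mul_sum]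
    rw [Finset.sum_congr rfl fun χ _ => mul_left_comm ((d.coef χ : ℤ) : ℂ) (k : ℂ) (eDeg χ : ℂ)] at h
    linear_combination h
  rw [hk]
  push_cast
  have h'' : ∑ χ ∈ rest hF hm, d.coef χ * (eDeg χ : ℤ) = (k : ℤ) + 2 := by exact_mod_cast h'
  linarith

include hC in
/-- The degree modulo the order of the torus. -/
theorem eDeg_congr (hm : 1 ≤ m) {χ : Cfsg.IrrCharacter (Sz F (2 ^ (m + 1)))} (hχ : χ ∈ rest hF hm) :
    ∃ z : ℤ, ((Fintype.card F - 1) * eDeg χ : ℕ) = d.v χ + z * Nat.card C +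
      4 * d.ε * (if ∃ i, χ = d.X i then 1 else 0) := by
  obtain ⟨z, hz⟩ := d.degree_congr hC χ
  refine ⟨z, ?_⟩
  rw [(eDeg_spec hF hm hχ).2.1] at hz
  have h : ((((Fintype.card F - 1) * eDeg χ : ℕ) : ℤ) : ℂ) =
      ((d.v χ + z * Nat.card C + 4 * d.ε * (if ∃ i, χ = d.X i then 1 else 0) : ℤ) : ℂ) := by
    rw [Int.cast_natCast, Nat.cast_mul, hz]
    split_ifs <;> push_cast <;> ring
  exact_mod_cast h

end Side

end CfsgLib.Suzuki.Chars
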