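import Cfsg.Agent.Lib.Char.TI
import Cfsg.Agent.Lib.Char.Linear
import Cfsg.Agent.Lib.Char.PResidualSum
import Mathlib.GroupTheory.FiniteAbelian.Duality
import Mathlib.RingTheory.RootsOfUnity.Complex

/-!
# Exceptional characters of a self-centralizing abelian subgroup with automizer of order four

`A` is the centralizer of each of its non-identity elements and `|N_G(A)| = 4|A|`.

* `exists_fam`: the family of exceptional characters;
* `Fam.value`: every irreducible character is, on `A ∖ 1`, an integer constant plus, for a member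
  of the family, a signed orbit sum;
* `Fam.norm`, `Fam.degree_sum`: the decomposition of the induced character of `1 - ψ₀`.
-/

namespace CfsgLib.Suzuki.Chars

open CfsgLib.Char
open scoped ComplexConjugate

universe u

variable {G : Type u} [Group G] [Fintype G]

/-- The hypothesis on the subgroup. -/
structure IsTorus4 (A : Subgroup G) : Prop where
  cent : ∀ a ∈ A, a ≠ 1 → Subgroup.centralizer ({a} : Set G) = A
  norm_card : Nat.card (Subgroup.normalizer (A : Set G)) = 4 * Nat.card A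

variable {A : Subgroup G}

theorem IsTorus4.comm (hA : IsTorus4 A) : ∀ a ∈ A, ∀ b ∈ A, a * b = b * a := by
  intro a ha b hb
  by_cases h1 : a = 1
  · simp [h1]
  · exact (Subgroup.mem_centralizer_singleton_iff.mp ((hA.cent a ha h1).symm ▸ hb)).symm

theorem IsTorus4.mem_norm (hA : IsTorus4 A) {x a : G} (ha : a ∈ A) (ha1 : a ≠ 1)
    (hx : x⁻¹ * a * x ∈ A) : x ∈ Subgroup.normalizer (A : Set G) := by
  rw [Subgroup.mem_normalizer_iff']
  intro b
  have hne : x⁻¹ * a * x ≠ 1 := fun e => ha1 (by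
    calc a = x * (x⁻¹ * a * x) * x⁻¹ := by group
      _ = 1 := by rw [e]; group)
  constructor
  · intro hb
    rw [← hA.cent a ha ha1, Subgroup.mem_centralizer_singleton_iff]
    have h := hA.comm _ hb _ hx
    calc x * b * a = x * (b * x * (x⁻¹ * a * x)) * x⁻¹ := by group
      _ = x * ((x⁻¹ * a * x) * (b * x)) * x⁻¹ := by rw [h]
      _ = a * (x * b) := by group
  · intro hb
    rw [← hA.cent _ hx hne, Subgroup.mem_centralizer_singleton_iff]
    have h := hA.comm _ hb _ ha
    calc b * x * (x⁻¹ * a * x) = x⁻¹ * ((x * b) * a) * x := by group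
      _ = x⁻¹ * (a * (x * b)) * x := by rw [h]
      _ = x⁻¹ * a * x * (b * x) := by group

theorem IsTorus4.mem_of_fix (hA : IsTorus4 A) {x a : G} (ha : a ∈ A) (ha1 : a ≠ 1)
    (h : x * a = a * x) : x ∈ A := by
  rw [← hA.cent a ha ha1, Subgroup.mem_centralizer_singleton_iff]
  exact h

/-- The normalizer of the subgroup. -/
abbrev nrm (A : Subgroup G) : Subgroup G := Subgroup.normalizer (A : Set G)

/-- Conjugation as a homomorphism of the subgroup. -/
def conjA (x : nrm A) : A →* A where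
  toFun a := ⟨(x : G)⁻¹ * a * x, by
    have h := (Subgroup.mem_normalizer_iff''.mp x.2 a).mp a.2
    exact h⟩
  map_one' := Subtype.ext (by simp)
  map_mul' a b := Subtype.ext (by simp only [Subgroup.coe_mul]; group)

@[simp] theorem coe_conjA (x : nrm A) (a : A) : (conjA x a : G) = (x : G)⁻¹ * a * x := rfl

theorem conjA_mul (x y : nrm A) (a : A) : conjA (x * y) a = conjA y (conjA x a) :=
  Subtype.ext (by simp [mul_assoc])

theorem conjA_one (a : A) : conjA (1 : nrm A) a = a := Subtype.ext (by simp)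

theorem conjA_of_mem (hA : IsTorus4 A) (x : nrm A) (hx : (x : G) ∈ A) (a : A) : conjA x a = a :=
  Subtype.ext (by rw [coe_conjA, mul_assoc, hA.comm _ a.2 _ hx, inv_mul_cancel_left])

theorem mem_of_char_fixed (hA : IsTorus4 A) {l : A →* ℂˣ} (hl : l ≠ 1) {x : nrm A}
    (h : ∀ a, l (conjA x a) = l a) : (x : G) ∈ A := by
  classical
  by_contra hx
  haveI : IsMulCommutative A := ⟨⟨fun a b => Subtype.ext (hA.comm a a.2 b b.2)⟩⟩
  letI : CommGroup A := { (inferInstance : Group A) with mul_comm := mul_comm' }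
  let f : A →* A := conjA x / MonoidHom.id A
  have hinj : Function.Injective f := (injective_iff_map_eq_one f).mpr fun a ha => by
    have ha' : conjA x a = a := div_eq_one.mp ha
    by_contra ha1
    refine hx (hA.mem_of_fix a.2 (fun e => ha1 (Subtype.ext e)) ?_)
    have h2 : (x : G)⁻¹ * a * x = a := congrArg Subtype.val ha'
    calc (x : G) * a = x * ((x : G)⁻¹ * a * x) := by rw [h2]
      _ = a * x := by group
  refine hl (MonoidHom.ext fun b => ?_)
  obtain ⟨a, rfl⟩ := (Finite.injective_iff_surjective.mp hinj) b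
  show l (conjA x a / a) = 1
  rw [map_div, h, div_self']

theorem card_eq_four_mul (hA : IsTorus4 A) :
    Nat.card (A.subgroupOf (nrm A)) = Nat.card A ∧ Nat.card (nrm A) = 4 * Nat.card A :=
  ⟨Nat.card_congr (Subgroup.subgroupOfEquivOfLe Subgroup.le_normalizer).toEquiv, hA.norm_card⟩

theorem exists_inverting (hA : IsTorus4 A) :
    ∃ x : nrm A, ∀ a : A, conjA x a = a⁻¹ := by
  classical
  have : (A.subgroupOf (nrm A)).Normal := Subgroup.normal_in_normalizer
  have hq : Nat.card (nrm A ⧸ A.subgroupOf (nrm A)) = 2 ^ 2 := by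
    have h := Subgroup.card_eq_card_quotient_mul_card_subgroup (A.subgroupOf (nrm A))
    rw [(card_eq_four_mul hA).1, (card_eq_four_mul hA).2] at h
    exact (Nat.eq_of_mul_eq_mul_right Nat.card_pos h).symm
  have := Fact.mk Nat.prime_two
  obtain ⟨q, hq2⟩ := exists_prime_orderOf_dvd_card' 2
    (show 2 ∣ Nat.card (nrm A ⧸ A.subgroupOf (nrm A)) by rw [hq]; norm_num)
  obtain ⟨x, rfl⟩ := QuotientGroup.mk'_surjective _ q
  refine ⟨x, fun a => ?_⟩
  have hxA : (x : G) ∉ A := fun h => by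
    rw [QuotientGroup.mk'_apply, (QuotientGroup.eq_one_iff x).mpr h, orderOf_one] at hq2
    norm_num at hq2
  have hx2 : ((x * x : nrm A) : G) ∈ A := by
    have h := pow_orderOf_eq_one (QuotientGroup.mk' (A.subgroupOf (nrm A)) x)
    rw [hq2, ← map_pow, QuotientGroup.mk'_apply, QuotientGroup.eq_one_iff, pow_two] at h
    exact h
  have hfix : conjA x (a * conjA x a) = a * conjA x a := by
    rw [map_mul, ← conjA_mul, conjA_of_mem hA (x * x) hx2]
    exact Subtype.ext (hA.comm _ (conjA x a).2 _ a.2)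
  by_contra hne
  refine hxA (hA.mem_of_fix (a * conjA x a).2 (fun e => hne ?_) ?_)
  · exact eq_inv_of_mul_eq_one_right (Subtype.ext e)
  · have h2 := congrArg Subtype.val hfix
    rw [coe_conjA] at h2
    calc (x : G) * (a * conjA x a : A) = x * ((x : G)⁻¹ * (a * conjA x a : A) * x) := by rw [h2]
      _ = ((a * conjA x a : A) : G) * x := by group

attribute [local instance] Classical.propDecidable

variable [Fintype A] [Fintype (nrm A)]

omit [Fintype A] [Fintype (nrm A)] in
/-- Every irreducible character is real on the subgroup. -/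
theorem IsTorus4.real (hA : IsTorus4 A) {χ : G → ℂ} (hχ : Cfsg.IsCharacter G χ) {a : G}
    (ha : a ∈ A) : conj (χ a) = χ a := by
  obtain ⟨x, hx⟩ := exists_inverting hA
  rw [← char_inv hχ]
  have h : (x : G)⁻¹ * a * x = a⁻¹ := congrArg Subtype.val (hx ⟨a, ha⟩)
  rw [← h]
  have h2 := isClassFunction_of_isCharacter hχ a (x : G)⁻¹
  rw [inv_inv] at h2
  exact h2

/-- The orbit sum of a linear character. -/
noncomputable def orbSum (l : A →* ℂˣ) (a : A) : ℂ :=
  (Nat.card A : ℂ)⁻¹ * ∑ x : nrm A, (l (conjA x a) : ℂ)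

theorem indFun_eq_sum (hA : IsTorus4 A) {h : A → ℂ} (h1 : h 1 = 0) (a : A) :
    Cfsg.indFun A h (a : G) = (Nat.card A : ℂ)⁻¹ * ∑ x : nrm A, h (conjA x a) := by
  classical
  by_cases ha : a = 1
  · subst ha
    rw [OneMemClass.coe_one, indFun_one, h1, mul_zero,
      Finset.sum_eq_zero (fun x _ => by rw [map_one, h1]), mul_zero]
  have ha' : (a : G) ≠ 1 := fun e => ha (Subtype.ext e)
  rw [indFun_apply]
  congr 1
  rw [← Finset.sum_filter_of_ne (p := fun x => x ∈ nrm A) (fun x _ hx => by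
    refine hA.mem_norm a.2 ha' ?_
    by_contra hm
    exact hx (extendByZero_of_notMem h hm)),
    Finset.sum_subtype (p := fun x => x ∈ nrm A) _ (fun x => by simp)]
  exact Finset.sum_congr rfl fun x _ => extendByZero_coe h (conjA x a)

theorem classInner_linear (l l' : A →* ℂˣ) :
    Cfsg.classInner (fun a : A => (l a : ℂ)) (fun a : A => (l' a : ℂ)) = if l = l' then 1 else 0 := by
  classical
  split_ifs with h
  · subst h; exact classInner_irr_self (isIrrCharacter_units_hom l)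
  · exact classInner_irr_ne (isIrrCharacter_units_hom l) (isIrrCharacter_units_hom l')
      fun e => h (MonoidHom.ext fun a => Units.ext (congrFun e a))

variable (A) in
/-- A family of exceptional characters. -/
structure Fam where
  /-- The number of orbits. -/
  n : ℕ
  /-- A base index. -/
  i₀ : Fin n
  /-- The orbit representatives. -/
  ψ : Fin n → (A →* ℂˣ)
  ne_one : ∀ i, ψ i ≠ 1
  distinct : ∀ i j, ∀ x : nrm A, (ψ j).comp (conjA x) = ψ i → i = j
  complete : ∀ l : A →* ℂˣ, l ≠ 1 → ∃ i, ∃ x : nrm A, (ψ i).comp (conjA x) = l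
  /-- The sign. -/
  ε : ℤ
  ε_eq : ε = 1 ∨ ε = -1
  /-- The exceptional characters. -/
  X : Fin n → Cfsg.IrrCharacter G
  X_inj : Function.Injective X
  ind_sub : ∀ i, Cfsg.indFun A (fun a : A => (ψ i a : ℂ) - (ψ i₀ a : ℂ)) =
    (ε : ℂ) • ((X i : G → ℂ) - (X i₀ : G → ℂ))

theorem card_orbit_fiber (hA : IsTorus4 A) {ψ l : A →* ℂˣ} (hψ : ψ ≠ 1) {x₀ : nrm A}
    (hx₀ : ψ.comp (conjA x₀) = l) :
    Nat.card {x : nrm A // ψ.comp (conjA x) = l} = Nat.card A := by
  refine Nat.card_congr ⟨fun x => ⟨((x₀⁻¹ * x.1 : nrm A) : G), ?_⟩,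
    fun a => ⟨x₀ * ⟨a, Subgroup.le_normalizer a.2⟩, ?_⟩, fun x => ?_, fun a => ?_⟩
  · refine mem_of_char_fixed hA hψ fun b => ?_
    have h := DFunLike.congr_fun (x.2.trans hx₀.symm) (conjA x₀⁻¹ b)
    rw [MonoidHom.comp_apply, MonoidHom.comp_apply, ← conjA_mul, ← conjA_mul, inv_mul_cancel,
      conjA_one] at h
    exact h
  · refine MonoidHom.ext fun b => ?_
    rw [MonoidHom.comp_apply, conjA_mul, conjA_of_mem hA _ a.2]
    exact DFunLike.congr_fun hx₀ b
  · exact Subtype.ext (Subtype.ext (by simp))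
  · exact Subtype.ext (by simp)

theorem classInner_res_comp_conj {χ : G → ℂ} (hχ : Cfsg.IsClassFunction G χ) (x : nrm A)
    (l : A →* ℂˣ) :
    Cfsg.classInner (fun a : A => χ a) (fun a : A => ((l.comp (conjA x)) a : ℂ)) =
      Cfsg.classInner (fun a : A => χ a) (fun a : A => (l a : ℂ)) := by
  rw [classInner_def, classInner_def]
  congr 1
  refine Fintype.sum_bijective (conjA x) ?_ _ _ fun a => ?_
  · refine Finite.injective_iff_bijective.mp fun a b h => ?_
    have h2 := congrArg (conjA x⁻¹) h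
    rwa [← conjA_mul, ← conjA_mul, mul_inv_cancel, conjA_one, conjA_one] at h2
  · have h := hχ (a : G) (x : G)⁻¹
    rw [inv_inv] at h
    rw [MonoidHom.comp_apply, coe_conjA, h]

theorem orbSum_inner (hA : IsTorus4 A) {ψ : A →* ℂˣ} (hψ : ψ ≠ 1) (l : A →* ℂˣ) :
    ((∃ x : nrm A, ψ.comp (conjA x) = l) →
      Cfsg.classInner (orbSum ψ) (fun a : A => (l a : ℂ)) = 1) ∧
    ((¬ ∃ x : nrm A, ψ.comp (conjA x) = l) →
      Cfsg.classInner (orbSum ψ) (fun a : A => (l a : ℂ)) = 0) := by
  classical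
  have h : Cfsg.classInner (orbSum ψ) (fun a : A => (l a : ℂ)) =
      (Nat.card A : ℂ)⁻¹ * ((Finset.univ.filter fun x : nrm A => ψ.comp (conjA x) = l).card : ℂ) := by
    rw [show orbSum ψ = (Nat.card A : ℂ)⁻¹ • ∑ x : nrm A, fun a : A => ((ψ.comp (conjA x)) a : ℂ) from
      funext fun a => by simp [orbSum, Finset.sum_apply], classInner_smul_left, classInner_sum_left,
      Finset.sum_congr rfl fun x _ => classInner_linear (ψ.comp (conjA x)) l, Finset.sum_boole]
  constructor
  · rintro ⟨x, hx⟩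
    rw [h, ← Fintype.card_subtype, ← Nat.card_eq_fintype_card, card_orbit_fiber hA hψ hx,
      inv_mul_cancel₀ card_ne_zero']
  · intro hne
    push Not at hne
    rw [h, Finset.filter_false_of_mem fun x _ => hne x, Finset.card_empty, Nat.cast_zero, mul_zero]

namespace Fam

variable (d : Fam A)

theorem inner_sub_res (χ : Cfsg.IrrCharacter G) (i : Fin d.n) :
    Cfsg.classInner (fun a : A => (χ : G → ℂ) a) (fun a : A => (d.ψ i a : ℂ)) -
      Cfsg.classInner (fun a : A => (χ : G → ℂ) a) (fun a : A => (d.ψ d.i₀ a : ℂ)) =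
      (d.ε : ℂ) * ((if χ = d.X i then 1 else 0) - (if χ = d.X d.i₀ then 1 else 0)) := by
  classical
  rw [← classInner_sub_right, show ((fun a : A => (d.ψ i a : ℂ)) - fun a : A => (d.ψ d.i₀ a : ℂ)) =
    fun a : A => (d.ψ i a : ℂ) - (d.ψ d.i₀ a : ℂ) from rfl,
    ← frobenius_reciprocity' A _ (isClassFunction_of_isIrr χ.2), d.ind_sub, classInner_smul_right,
    classInner_sub_right, classInner_irrCharacter, classInner_irrCharacter, map_intCast]

/-- The multiplicity of the non-exceptional part. -/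
noncomputable def mult (χ : Cfsg.IrrCharacter G) : ℂ :=
  Cfsg.classInner (fun a : A => (χ : G → ℂ) a) (fun a : A => (d.ψ d.i₀ a : ℂ)) -
    (d.ε : ℂ) * (if χ = d.X d.i₀ then 1 else 0)

theorem inner_res (χ : Cfsg.IrrCharacter G) (i : Fin d.n) :
    Cfsg.classInner (fun a : A => (χ : G → ℂ) a) (fun a : A => (d.ψ i a : ℂ)) =
      d.mult χ + (d.ε : ℂ) * (if χ = d.X i then 1 else 0) := by
  have h := d.inner_sub_res χ i
  rw [mult]
  linear_combination h

/-- The constant of a character on the subgroup. -/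
noncomputable def cst (χ : Cfsg.IrrCharacter G) : ℂ :=
  Cfsg.classInner (fun a : A => (χ : G → ℂ) a) (fun _ => 1) - d.mult χ

theorem exists_int (χ : Cfsg.IrrCharacter G) :
    (∃ z : ℤ, d.mult χ = z) ∧ ∃ z : ℤ, d.cst χ = z := by
  classical
  obtain ⟨k, hk⟩ := classInner_char_nat (isCharacter_res A (isCharacter_of_isIrr χ.2))
    (isCharacter_of_isIrr (isIrrCharacter_units_hom (d.ψ d.i₀)))
  obtain ⟨k', hk'⟩ := classInner_char_nat (isCharacter_res A (isCharacter_of_isIrr χ.2))
    (isCharacter_one (G := A))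
  refine ⟨⟨k - d.ε * (if χ = d.X d.i₀ then 1 else 0), ?_⟩,
    ⟨k' - (k - d.ε * (if χ = d.X d.i₀ then 1 else 0)), ?_⟩⟩
  · rw [mult, hk]
    split_ifs <;> push_cast <;> ring
  · rw [cst, hk', mult, hk]
    split_ifs <;> push_cast <;> ring

/-- The constant, as an integer. -/
noncomputable def v (χ : Cfsg.IrrCharacter G) : ℤ := (d.exists_int χ).2.choose

theorem v_spec (χ : Cfsg.IrrCharacter G) : d.cst χ = d.v χ := (d.exists_int χ).2.choose_spec

/-- The values on the subgroup. -/
theorem res_eq (hA : IsTorus4 A) (χ : Cfsg.IrrCharacter G) (a : A) :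
    (χ : G → ℂ) a = (d.v χ : ℂ) + d.mult χ * (if a = 1 then (Nat.card A : ℂ) else 0) +
      (d.ε : ℂ) * ∑ i, (if χ = d.X i then 1 else 0) * orbSum (d.ψ i) a := by
  classical
  have hab : ∀ x y : A, x * y = y * x := fun x y => Subtype.ext (hA.comm x x.2 y y.2)
  have hcf : ∀ f : A → ℂ, Cfsg.IsClassFunction A f := fun f =>
    fun x y => congrArg f (by rw [hab y x, mul_inv_cancel_right])
  refine congrFun (?_ : (fun b : A => (χ : G → ℂ) b) = fun b : A =>
    (d.v χ : ℂ) + d.mult χ * (if b = 1 then (Nat.card A : ℂ) else 0) +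
      (d.ε : ℂ) * ∑ i, (if χ = d.X i then 1 else 0) * orbSum (d.ψ i) b) a
  refine classFun_ext (hcf _) (hcf _) fun θ hθ => ?_
  obtain ⟨l, rfl⟩ : ∃ l : A →* ℂˣ, θ = fun b : A => (l b : ℂ) :=
    ⟨linearHom (isCharacter_of_isIrr hθ) (irr_one_eq_one_of_comm hab hθ),
      funext fun b => (linearHom_apply _ _ b).symm⟩
  rw [show (fun b : A => (d.v χ : ℂ) + d.mult χ * (if b = 1 then (Nat.card A : ℂ) else 0) +
      (d.ε : ℂ) * ∑ i, (if χ = d.X i then 1 else 0) * orbSum (d.ψ i) b) =
    (d.v χ : ℂ) • (fun b : A => (((1 : A →* ℂˣ) b : ℂˣ) : ℂ)) +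
      d.mult χ • (fun b : A => if b = 1 then (Nat.card A : ℂ) else 0) +
      (d.ε : ℂ) • ∑ i, (if χ = d.X i then (1 : ℂ) else 0) • orbSum (d.ψ i) from
    funext fun b => by simp [Finset.sum_apply, ite_apply], classInner_add_left, classInner_add_left,
    classInner_smul_left, classInner_smul_left, classInner_smul_left, classInner_sum_left,
    classInner_linear]
  have hreg : Cfsg.classInner (fun b : A => if b = 1 then (Nat.card A : ℂ) else 0)
      (fun b : A => (l b : ℂ)) = 1 := by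
    simp [classInner_def, card_ne_zero']
  simp only [classInner_smul_left, hreg, mul_one]
  by_cases hl : l = 1
  · subst hl
    rw [if_pos rfl, mul_one, Finset.sum_eq_zero, mul_zero, add_zero, ← d.v_spec χ, cst]
    · simp
    · intro i _
      rw [(orbSum_inner hA (d.ne_one i) 1).2, mul_zero]
      rintro ⟨x, hx⟩
      refine d.ne_one i (MonoidHom.ext fun b => ?_)
      have := DFunLike.congr_fun hx (conjA x⁻¹ b)
      rwa [MonoidHom.comp_apply, ← conjA_mul, inv_mul_cancel, conjA_one] at this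
  · rw [if_neg (Ne.symm hl), mul_zero, zero_add]
    obtain ⟨k, x, rfl⟩ := d.complete l hl
    rw [Finset.sum_eq_single k, (orbSum_inner hA (d.ne_one k) _).1 ⟨x, rfl⟩, mul_one,
      ← d.inner_res χ k]
    · exact classInner_res_comp_conj (isClassFunction_of_isIrr χ.2) x (d.ψ k)
    · intro i _ hik
      rw [(orbSum_inner hA (d.ne_one i) _).2, mul_zero]
      rintro ⟨y, hy⟩
      refine hik (d.distinct k i (x⁻¹ * y) ?_).symm
      refine MonoidHom.ext fun b => ?_
      have h2 := DFunLike.congr_fun hy (conjA x⁻¹ b)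
      rw [MonoidHom.comp_apply, MonoidHom.comp_apply, ← conjA_mul, ← conjA_mul, inv_mul_cancel,
        conjA_one] at h2
      exact h2
    · simp

/-- The values at the non-identity elements. -/
theorem value (hA : IsTorus4 A) (χ : Cfsg.IrrCharacter G) {a : A} (ha : a ≠ 1) :
    (χ : G → ℂ) a = (d.v χ : ℂ) +
      (d.ε : ℂ) * ∑ i, (if χ = d.X i then 1 else 0) * orbSum (d.ψ i) a := by
  rw [d.res_eq hA χ a, if_neg ha, mul_zero, add_zero]

theorem value_of_notMem (hA : IsTorus4 A) (χ : Cfsg.IrrCharacter G) (hχ : ∀ i, χ ≠ d.X i) {a : A}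
    (ha : a ≠ 1) : (χ : G → ℂ) a = (d.v χ : ℂ) := by
  rw [d.value hA χ ha, Finset.sum_eq_zero fun i _ => by rw [if_neg (hχ i), zero_mul], mul_zero,
    add_zero]

theorem value_X (hA : IsTorus4 A) (i : Fin d.n) {a : A} (ha : a ≠ 1) :
    (d.X i : G → ℂ) a = (d.v (d.X i) : ℂ) + (d.ε : ℂ) * orbSum (d.ψ i) a := by
  classical
  rw [d.value hA _ ha]
  simp [d.X_inj.eq_iff]

theorem orbSum_one (hA : IsTorus4 A) (l : A →* ℂˣ) : orbSum l 1 = 4 := by
  simp [orbSum, ← Nat.card_eq_fintype_card, hA.norm_card]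
  field_simp

theorem norm_orbSum_le (hA : IsTorus4 A) (l : A →* ℂˣ) (a : A) : ‖orbSum l a‖ ≤ 4 := by
  rw [orbSum, norm_mul, norm_inv, Complex.norm_natCast]
  have h : ‖∑ x : nrm A, (l (conjA x a) : ℂ)‖ ≤ (Nat.card (nrm A) : ℝ) := by
    refine (norm_sum_le _ _).trans (le_of_eq ?_)
    rw [Finset.sum_congr rfl fun x _ => norm_eq_one_of_pow_eq_one' (Nat.card_pos (α := A)).ne'
      (by rw [← Units.val_pow_eq_pow_val, ← map_pow, pow_card_eq_one', map_one, Units.val_one]),
      Finset.sum_const, Finset.card_univ, nsmul_eq_mul, mul_one, Nat.card_eq_fintype_card]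
  rw [hA.norm_card, Nat.cast_mul, Nat.cast_ofNat] at h
  have hpos : (0 : ℝ) < Nat.card A := by exact_mod_cast Nat.card_pos
  rw [inv_mul_le_iff₀ hpos]
  linarith

theorem degree_congr (hA : IsTorus4 A) (χ : Cfsg.IrrCharacter G) :
    ∃ z : ℤ, (χ : G → ℂ) 1 = (d.v χ : ℂ) + (z : ℂ) * Nat.card A +
      4 * (d.ε : ℂ) * (if ∃ i, χ = d.X i then 1 else 0) := by
  classical
  obtain ⟨z, hz⟩ := (d.exists_int χ).1
  refine ⟨z, ?_⟩
  have h := d.res_eq hA χ 1
  rw [if_pos rfl, hz, OneMemClass.coe_one] at h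
  rw [h, add_right_inj]
  simp only [orbSum_one hA]
  split_ifs with hex
  · obtain ⟨i, rfl⟩ := hex
    simp [d.X_inj.eq_iff]
    ring
  · push Not at hex
    simp [hex]

/-- The induced character of `1 - ψ₀`. -/
noncomputable def phi : G → ℂ := Cfsg.indFun A (fun a : A => 1 - (d.ψ d.i₀ a : ℂ))

/-- Its coefficients. -/
noncomputable def coef (χ : Cfsg.IrrCharacter G) : ℤ :=
  d.v χ - d.ε * (if χ = d.X d.i₀ then 1 else 0)

theorem inner_phi (χ : Cfsg.IrrCharacter G) :
    Cfsg.classInner d.phi (χ : G → ℂ) = (d.coef χ : ℂ) := by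
  classical
  rw [phi, frobenius_reciprocity A _ (isClassFunction_of_isIrr χ.2), ← classInner_conj_symm,
    show (fun a : A => 1 - (d.ψ d.i₀ a : ℂ)) =
      (fun _ : A => (1 : ℂ)) - fun a : A => (d.ψ d.i₀ a : ℂ) from rfl, classInner_sub_right]
  have h := d.inner_res χ d.i₀
  have h2 := d.v_spec χ
  rw [cst] at h2
  rw [h, sub_add_eq_sub_sub, h2, coef]
  split_ifs <;> simp

theorem degree_sum (hA : IsTorus4 A) :
    ∑ χ : Cfsg.IrrCharacter G, (d.coef χ : ℂ) * (χ : G → ℂ) 1 = 0 := by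
  classical
  have h := congrFun (classFun_eq_sum (isClassFunction_indFun A (fun a : A => 1 - (d.ψ d.i₀ a : ℂ)))) 1
  rw [indFun_one] at h
  simp only [map_one, Units.val_one, sub_self, mul_zero, Finset.sum_apply, Pi.smul_apply,
    smul_eq_mul] at h
  refine (Finset.sum_congr rfl fun χ _ => ?_).trans h.symm
  rw [← d.inner_phi χ]
  rfl

theorem norm_phi (hA : IsTorus4 A) : Cfsg.classInner d.phi d.phi = 5 := by
  classical
  set f : A → ℂ := fun a => 1 - (d.ψ d.i₀ a : ℂ) with hf
  have hf1 : f 1 = 0 := by simp [hf]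
  rw [phi, frobenius_reciprocity A _ (isClassFunction_indFun A f),
    show (fun a : A => Cfsg.indFun A f (a : G)) = fun a : A =>
      (4 : ℂ) - orbSum (d.ψ d.i₀) a from funext fun a => by
        rw [indFun_eq_sum hA hf1 a, orbSum, hf, Finset.sum_sub_distrib, Finset.sum_const,
          Finset.card_univ, ← Nat.card_eq_fintype_card, hA.norm_card, nsmul_eq_mul, mul_one, mul_sub,
          Nat.cast_mul, Nat.cast_ofNat, mul_comm (4 : ℂ), inv_mul_cancel_left₀ card_ne_zero']]
  have h4 : ∀ l : A →* ℂˣ, Cfsg.classInner (fun a : A => (4 : ℂ) - orbSum (d.ψ d.i₀) a)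
      (fun a : A => (l a : ℂ)) = 4 * (if (1 : A →* ℂˣ) = l then 1 else 0) -
        Cfsg.classInner (orbSum (d.ψ d.i₀)) (fun a : A => (l a : ℂ)) := fun l => by
    rw [show (fun a : A => (4 : ℂ) - orbSum (d.ψ d.i₀) a) =
      (4 : ℂ) • (fun a : A => (((1 : A →* ℂˣ) a : ℂˣ) : ℂ)) - orbSum (d.ψ d.i₀) from
      funext fun a => by simp, classInner_sub_left, classInner_smul_left, classInner_linear]
  rw [← classInner_conj_symm, show (fun a : A => 1 - (d.ψ d.i₀ a : ℂ)) =
    (fun a : A => (((1 : A →* ℂˣ) a : ℂˣ) : ℂ)) - fun a : A => (d.ψ d.i₀ a : ℂ) from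
    funext fun a => by simp, classInner_sub_right, h4, h4, if_pos rfl, if_neg (d.ne_one _).symm,
    (orbSum_inner hA (d.ne_one d.i₀) _).2, (orbSum_inner hA (d.ne_one d.i₀) _).1 ⟨1, ?_⟩]
  · norm_num [map_sub, map_ofNat]
  · exact MonoidHom.ext fun b => by rw [MonoidHom.comp_apply, conjA_one]
  · rintro ⟨x, hx⟩
    refine d.ne_one d.i₀ (MonoidHom.ext fun b => ?_)
    have := DFunLike.congr_fun hx (conjA x⁻¹ b)
    rwa [MonoidHom.comp_apply, ← conjA_mul, inv_mul_cancel, conjA_one] at this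

theorem norm (hA : IsTorus4 A) : ∑ χ : Cfsg.IrrCharacter G, d.coef χ ^ 2 = 5 := by
  classical
  have h := d.norm_phi hA
  have hcl : Cfsg.IsClassFunction G d.phi := isClassFunction_indFun A _
  rw [classInner_eq_sum hcl] at h
  have h2 : ∑ χ : Cfsg.IrrCharacter G, (d.coef χ : ℂ) * (d.coef χ : ℂ) = 5 := by
    refine Eq.trans (Finset.sum_congr rfl fun χ _ => ?_) h
    rw [d.inner_phi χ, map_intCast]
  have h3 : ((∑ χ : Cfsg.IrrCharacter G, d.coef χ ^ 2 : ℤ) : ℂ) = ((5 : ℤ) : ℂ) := by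
    push_cast
    rw [← h2]
    exact Finset.sum_congr rfl fun χ _ => sq _
  exact_mod_cast h3

/-- Members of the family agree away from the conjugates of the subgroup. -/
theorem X_eq (hA : IsTorus4 A) (i j : Fin d.n) {g : G}
    (hg : ∀ x : G, x⁻¹ * g * x ∈ A → x⁻¹ * g * x = 1) : (d.X i : G → ℂ) g = (d.X j : G → ℂ) g := by
  have key : ∀ k, (d.X k : G → ℂ) g = (d.X d.i₀ : G → ℂ) g := by
    intro k
    have h := congrFun (d.ind_sub k) g
    rw [indFun_eq_zero_of_forall A fun x hx => ?_] at h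
    · simp only [Pi.smul_apply, Pi.sub_apply, smul_eq_mul, eq_comm (a := (0 : ℂ)), mul_eq_zero,
        Int.cast_eq_zero] at h
      rcases h with h | h
      · rcases d.ε_eq with e | e <;> rw [e] at h <;> norm_num at h
      · exact sub_eq_zero.mp h
    · have e1 : (⟨x⁻¹ * g * x, hx⟩ : A) = 1 := Subtype.ext (hg x hx)
      rw [e1, map_one, map_one, sub_self]
  rw [key i, key j]

theorem X_v_eq (hA : IsTorus4 A) (i : Fin d.n) :
    d.v (d.X i) = d.v (d.X d.i₀) ∧ (d.X i : G → ℂ) 1 = (d.X d.i₀ : G → ℂ) 1 := by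
  classical
  have hd : (d.X i : G → ℂ) 1 = (d.X d.i₀ : G → ℂ) 1 :=
    d.X_eq hA i d.i₀ (fun x _ => by group)
  have hdiff : ∀ l : A →* ℂˣ, Cfsg.classInner (fun a : A => (d.X i : G → ℂ) a) (fun a : A => (l a : ℂ))
      - Cfsg.classInner (fun a : A => (d.X d.i₀ : G → ℂ) a) (fun a : A => (l a : ℂ)) =
      (d.ε : ℂ) * (Cfsg.classInner (orbSum (d.ψ i)) (fun a : A => (l a : ℂ)) -
        Cfsg.classInner (orbSum (d.ψ d.i₀)) (fun a : A => (l a : ℂ))) := fun l => by
    rw [← classInner_sub_left, ← classInner_sub_left, ← classInner_smul_left]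
    refine congrArg (Cfsg.classInner · _) (funext fun a => ?_)
    have h := congrFun (d.ind_sub i) (a : G)
    rw [indFun_eq_sum hA (by simp)] at h
    simp only [Pi.sub_apply, Pi.smul_apply, smul_eq_mul, orbSum, Finset.sum_sub_distrib, mul_sub]
      at h ⊢
    rcases d.ε_eq with e | e <;> simp [e] at h ⊢ <;>
      first | linear_combination -h | linear_combination h
  have hno : ∀ k, ¬ ∃ x : nrm A, (d.ψ k).comp (conjA x) = 1 := by
    rintro k ⟨x, hx⟩
    refine d.ne_one k (MonoidHom.ext fun b => ?_)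
    have := DFunLike.congr_fun hx (conjA x⁻¹ b)
    rwa [MonoidHom.comp_apply, ← conjA_mul, inv_mul_cancel, conjA_one] at this
  have h0 := hdiff 1
  rw [(orbSum_inner hA (d.ne_one i) 1).2 (hno i), (orbSum_inner hA (d.ne_one d.i₀) 1).2 (hno d.i₀),
    sub_zero, mul_zero, show (fun a : A => (((1 : A →* ℂˣ) a : ℂˣ) : ℂ)) = fun _ => (1 : ℂ) from
      funext fun a => by simp] at h0
  have h1 := hdiff (d.ψ d.i₀)
  have hself : ∀ k, (d.ψ k).comp (conjA (1 : nrm A)) = d.ψ k := fun k =>
    MonoidHom.ext fun b => by rw [MonoidHom.comp_apply, conjA_one]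
  rw [(orbSum_inner hA (d.ne_one d.i₀) _).1 ⟨1, hself _⟩] at h1
  have e3 := d.v_spec (d.X i)
  have e4 := d.v_spec (d.X d.i₀)
  rw [cst, mult, if_pos rfl] at e4
  rw [cst, mult] at e3
  refine ⟨?_, hd⟩
  suffices h : (d.v (d.X i) : ℂ) = d.v (d.X d.i₀) by exact_mod_cast h
  by_cases hi : i = d.i₀
  · rw [hi]
  · rw [if_neg (fun e => hi (d.X_inj e))] at e3
    rw [(orbSum_inner hA (d.ne_one i) _).2] at h1
    · linear_combination h0 - h1 - e3 + e4
    · rintro ⟨x, hx⟩
      exact hi (d.distinct d.i₀ i x hx).symm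

end Fam

theorem exists_fam (hA : IsTorus4 A) (hA1 : 1 < Nat.card A) :
    ∃ d : Fam A, 4 * d.n + 1 = Nat.card A := by
  classical
  haveI : IsMulCommutative A := ⟨⟨fun a b => Subtype.ext (hA.comm a a.2 b b.2)⟩⟩
  letI : CommGroup A := { (inferInstance : Group A) with mul_comm := mul_comm' }
  have : NeZero (Monoid.exponent A : ℂ) :=
    ⟨by exact_mod_cast Monoid.exponent_ne_zero_of_finite⟩
  have hcard : Nat.card (A →* ℂˣ) = Nat.card A :=
    CommGroup.card_monoidHom_of_hasEnoughRootsOfUnity A ℂ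
  have : Finite (A →* ℂˣ) := Nat.finite_of_card_ne_zero (hcard ▸ Nat.card_pos.ne')
  let _ := Fintype.ofFinite (A →* ℂˣ)
  have hne : ∀ l : {l : A →* ℂˣ // l ≠ 1}, ∀ x : nrm A, l.1.comp (conjA x) ≠ 1 := by
    intro l x hx
    refine l.2 (MonoidHom.ext fun b => ?_)
    have := DFunLike.congr_fun hx (conjA x⁻¹ b)
    rwa [MonoidHom.comp_apply, ← conjA_mul, inv_mul_cancel, conjA_one] at this
  let R : {l : A →* ℂˣ // l ≠ 1} → {l : A →* ℂˣ // l ≠ 1} → Prop :=
    fun l l' => ∃ x : nrm A, l.1.comp (conjA x) = l'.1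
  have hR : Equivalence R := by
    refine ⟨fun l => ⟨1, MonoidHom.ext fun b => by rw [MonoidHom.comp_apply, conjA_one]⟩, ?_, ?_⟩
    · rintro l l' ⟨x, hx⟩
      exact ⟨x⁻¹, MonoidHom.ext fun b => by
        rw [MonoidHom.comp_apply, ← hx, MonoidHom.comp_apply, ← conjA_mul, inv_mul_cancel, conjA_one]⟩
    · rintro l l' l'' ⟨x, hx⟩ ⟨y, hy⟩
      exact ⟨y * x, MonoidHom.ext fun b => by
        rw [MonoidHom.comp_apply, conjA_mul, ← hy, MonoidHom.comp_apply, ← hx, MonoidHom.comp_apply]⟩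
  let S : Setoid {l : A →* ℂˣ // l ≠ 1} := ⟨R, hR⟩
  let _ := Fintype.ofFinite (Quotient S)
  let eQ := (Fintype.equivFin (Quotient S)).symm
  let ψ : Fin (Fintype.card (Quotient S)) → (A →* ℂˣ) := fun i => (eQ i).out.1
  have hψ1 : ∀ i, ψ i ≠ 1 := fun i => (eQ i).out.2
  have hdist : ∀ i j, ∀ x : nrm A, (ψ j).comp (conjA x) = ψ i → i = j := by
    intro i j x hx
    refine eQ.injective ?_
    rw [← Quotient.out_eq (eQ i), ← Quotient.out_eq (eQ j)]
    exact (Quotient.sound (s := S) (show R (eQ j).out (eQ i).out from ⟨x, hx⟩)).symm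
  have hcompl : ∀ l : A →* ℂˣ, l ≠ 1 → ∃ i, ∃ x : nrm A, (ψ i).comp (conjA x) = l := by
    intro l hl
    refine ⟨eQ.symm (Quotient.mk S ⟨l, hl⟩), ?_⟩
    have h := Quotient.mk_out (s := S) (⟨l, hl⟩ : {l : A →* ℂˣ // l ≠ 1})
    show ∃ x : nrm A, ((eQ (eQ.symm (Quotient.mk S ⟨l, hl⟩))).out.1).comp (conjA x) = l
    rw [Equiv.apply_symm_apply]
    exact h
  have hfib : ∀ i, Nat.card {l : A →* ℂˣ // ∃ x : nrm A, (ψ i).comp (conjA x) = l} = 4 := by
    intro i
    let φ : nrm A → {l : A →* ℂˣ // ∃ x : nrm A, (ψ i).comp (conjA x) = l} :=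
      fun x => ⟨_, x, rfl⟩
    have h := Nat.card_congr (Equiv.sigmaFiberEquiv φ)
    rw [Nat.card_sigma, hA.norm_card] at h
    rw [Finset.sum_congr rfl fun l _ => (Nat.card_congr (Equiv.subtypeEquivRight fun x =>
      Subtype.ext_iff)).trans (card_orbit_fiber hA (hψ1 i) l.2.choose_spec), Finset.sum_const,
      Finset.card_univ, smul_eq_mul, ← Nat.card_eq_fintype_card] at h
    exact Nat.eq_of_mul_eq_mul_right Nat.card_pos h
  have hn : 4 * Fintype.card (Quotient S) + 1 = Nat.card A := by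
    have h2 : Nat.card {l : A →* ℂˣ // l ≠ 1} = 4 * Fintype.card (Quotient S) := by
      let F : (Σ i : Fin (Fintype.card (Quotient S)),
          {l : A →* ℂˣ // ∃ x : nrm A, (ψ i).comp (conjA x) = l}) → {l : A →* ℂˣ // l ≠ 1} :=
        fun p => ⟨p.2.1, by obtain ⟨x, hx⟩ := p.2.2; exact hx ▸ hne ⟨_, hψ1 p.1⟩ x⟩
      have hF : Function.Bijective F := by
        refine ⟨?_, fun l => ?_⟩
        · rintro ⟨i, l, x, hx⟩ ⟨j, l', y, hy⟩ e
          have e' : l = l' := congrArg Subtype.val e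
          subst e'
          obtain rfl : i = j := hdist i j (x⁻¹ * y) (MonoidHom.ext fun b => by
            have h2 := DFunLike.congr_fun (hy.trans hx.symm) (conjA x⁻¹ b)
            rw [MonoidHom.comp_apply, MonoidHom.comp_apply, ← conjA_mul, ← conjA_mul, inv_mul_cancel,
              conjA_one] at h2
            exact h2)
          rfl
        · obtain ⟨i, hi⟩ := hcompl l.1 l.2
          exact ⟨⟨i, l.1, hi⟩, rfl⟩
      rw [← Nat.card_eq_of_bijective F hF, Nat.card_sigma, Finset.sum_congr rfl fun i _ => hfib i,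
        Finset.sum_const, Finset.card_univ, Fintype.card_fin, smul_eq_mul, mul_comm]
    rw [← h2, ← hcard, Nat.card_eq_fintype_card, Nat.card_eq_fintype_card, Fintype.card_subtype_compl,
      Fintype.card_subtype_eq]
    have : 0 < Fintype.card (A →* ℂˣ) := Fintype.card_pos
    omega
  have hpos : 0 < Fintype.card (Quotient S) := by omega
  let i₀ : Fin (Fintype.card (Quotient S)) := ⟨0, hpos⟩
  have hgram : ∀ i j, i ≠ i₀ → j ≠ i₀ →
      Cfsg.classInner (Cfsg.indFun A (fun a : A => (ψ i a : ℂ) - (ψ i₀ a : ℂ)))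
        (Cfsg.indFun A (fun a : A => (ψ j a : ℂ) - (ψ i₀ a : ℂ))) = if i = j then 2 else 1 := by
    intro i j hi hj
    rw [frobenius_reciprocity A _ (isClassFunction_indFun A _),
      show (fun a : A => Cfsg.indFun A (fun a : A => (ψ j a : ℂ) - (ψ i₀ a : ℂ)) (a : G)) =
        orbSum (ψ j) - orbSum (ψ i₀) from funext fun a => by
          rw [indFun_eq_sum hA (by simp) a]
          simp [orbSum, Finset.sum_sub_distrib, mul_sub],
      ← classInner_conj_symm,
      show (fun a : A => (ψ i a : ℂ) - (ψ i₀ a : ℂ)) =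
        (fun a : A => (ψ i a : ℂ)) - fun a : A => (ψ i₀ a : ℂ) from rfl,
      classInner_sub_right, classInner_sub_left, classInner_sub_left]
    have key : ∀ k l, Cfsg.classInner (orbSum (ψ k)) (fun a : A => (ψ l a : ℂ)) =
        if k = l then 1 else 0 := by
      intro k l
      split_ifs with hkl
      · subst hkl
        exact (orbSum_inner hA (hψ1 k) _).1 ⟨1, MonoidHom.ext fun b => by
          rw [MonoidHom.comp_apply, conjA_one]⟩
      · refine (orbSum_inner hA (hψ1 k) _).2 ?_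
        rintro ⟨x, hx⟩
        exact hkl (hdist l k x hx).symm
    simp only [key, if_neg hi.symm, if_neg hj, if_pos rfl]
    by_cases h : i = j
    · subst h; norm_num [map_ofNat]
    · rw [if_neg h, if_neg (Ne.symm h)]; norm_num
  have hgen : ∀ i, Cfsg.IsGeneralizedCharacter G
      (Cfsg.indFun A (fun a : A => (ψ i a : ℂ) - (ψ i₀ a : ℂ))) := fun i =>
    isGen_indFun A (isGen_sub (isGen_of_irr (isIrrCharacter_units_hom (ψ i)))
      (isGen_of_irr (isIrrCharacter_units_hom (ψ i₀))))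
  obtain ⟨ε, hε, μ, hμ, hμi, hτ⟩ := coherent_of_gram i₀
    (fun i => Cfsg.indFun A (fun a : A => (ψ i a : ℂ) - (ψ i₀ a : ℂ)))
    (by
      show Cfsg.indFun A (fun a : A => (ψ i₀ a : ℂ) - (ψ i₀ a : ℂ)) = 0
      simp only [sub_self]
      exact indFun_zero A) hgen (fun i => by simp [indFun_one]) hgram
  refine ⟨⟨_, i₀, ψ, hψ1, hdist, hcompl, if ε = 1 then 1 else -1, by split_ifs <;> simp,
    fun i => ⟨μ i, hμ i⟩, fun i j h => hμi (congrArg Subtype.val h), fun i => ?_⟩, hn⟩
  refine (hτ i).trans ?_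
  rcases hε with rfl | rfl <;> norm_num

end CfsgLib.Suzuki.Chars
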