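import Cfsg.Agent.Lib.Suzuki.Count
import Cfsg.Agent.Lib.Suzuki.Chars.Torus

/-!
# The elements of the Suzuki groups

* `borel`, `torusPart`: the stabilizer of the point at infinity and its map onto the torus;
* `centralizer_U`, `not_conj_inv`: the elements of order four;
* `centralizer_T`: the split torus;
* `exists_tori4`, `classify`: every non-identity element is conjugate to a non-trivial element of
  the unipotent radical, of the split torus, or of one of the two tori without fixed points.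
-/

set_option autoImplicit false

namespace CfsgLib.Suzuki.Chars

open Matrix Cfsg.Lie CfsgLib.SuzukiLaws CfsgLib.Suzuki

variable {F : Type*} [Field F] [Fintype F] [CharP F 2] {m : ℕ}
  (hF : Fintype.card F = 2 ^ (2 * m + 1))

/-- The number `r` with `q = 2 r²`. -/
def rr (m : ℕ) : ℕ := 2 ^ m

theorem two_le_rr {m : ℕ} (hm : 1 ≤ m) : 2 ≤ rr m := by
  calc 2 = 2 ^ 1 := (pow_one 2).symm
    _ ≤ 2 ^ m := Nat.pow_le_pow_right two_pos hm

include hF in
omit [CharP F 2] in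
theorem card_eq : Fintype.card F = 2 * rr m ^ 2 := by
  rw [hF, rr, ← pow_mul, pow_succ', mul_comm m 2]

omit [Fintype F] [CharP F 2] [Field F] in
theorem two_rr (m : ℕ) : 2 ^ (m + 1) = 2 * rr m := by rw [rr, pow_succ']

/-- The stabilizer of the point at infinity. -/
noncomputable def borel : Subgroup (Sz F (2 ^ (m + 1))) :=
  (MulAction.stabilizer (Cfsg.Sz F m) (inf : Cfsg.suzukiOvoid F m)).comap (toSL hF)

theorem mem_borel {g : Sz F (2 ^ (m + 1))} :
    g ∈ borel hF ↔ toSL hF g • inf = (inf : Cfsg.suzukiOvoid F m) := Iff.rfl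

theorem exists_coords {g : Sz F (2 ^ (m + 1))} (hg : g ∈ borel hF) :
    ∃ (s : Fˣ) (a b : F), g = T hF s * U hF a b := (stab_inf hF g).1 hg

theorem T_mem_borel (s : Fˣ) : T hF s ∈ borel hF := T_smul_inf hF s

theorem U_mem_borel (a b : F) : U hF a b ∈ borel hF := U_smul_inf hF a b

/-- The torus component of an element of the stabilizer. -/
noncomputable def sPart (g : borel hF) : Fˣ := (exists_coords hF g.2).choose

theorem sPart_eq {g : borel hF} {s : Fˣ} {a b : F}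
    (h : (g : Sz F (2 ^ (m + 1))) = T hF s * U hF a b) : sPart hF g = s := by
  obtain ⟨a', b', h'⟩ := (exists_coords hF g.2).choose_spec
  exact (TU_injective hF (h'.symm.trans h)).1

theorem U_mul_T (a b : F) (s : Fˣ) : U hF a b * T hF s =
    T hF s * U hF ((((s⁻¹ : Fˣ) : F)) ^ 2 ^ (m + 1) * a)
      ((((s⁻¹ : Fˣ) : F)) ^ (2 ^ (m + 1) + 2) * b) := by
  rw [T_mul_U]
  congr 2 <;> rw [← mul_assoc, ← mul_pow, ← Units.val_mul, mul_inv_cancel, Units.val_one,
    one_pow, one_mul]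

theorem TU_mul (s t : Fˣ) (a b c d : F) : ∃ a' b', T hF s * U hF a b * (T hF t * U hF c d) =
    T hF (s * t) * U hF a' b' := by
  refine ⟨(((t⁻¹ : Fˣ) : F)) ^ 2 ^ (m + 1) * a + c,
    (((t⁻¹ : Fˣ) : F)) ^ (2 ^ (m + 1) + 2) * b + d +
      (((t⁻¹ : Fˣ) : F)) ^ 2 ^ (m + 1) * a * c ^ 2 ^ (m + 1), ?_⟩
  calc T hF s * U hF a b * (T hF t * U hF c d)
      = T hF s * (U hF a b * T hF t) * U hF c d := by group
    _ = T hF s * (T hF t * U hF _ _) * U hF c d := by rw [U_mul_T]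
    _ = T hF s * T hF t * (U hF _ _ * U hF c d) := by simp only [mul_assoc]; rfl
    _ = _ := by rw [T_mul, U_mul]

theorem fix_conj (g x : Sz F (2 ^ (m + 1))) (p : Cfsg.suzukiOvoid F m) :
    toSL hF (x⁻¹ * g * x) • p = p ↔ toSL hF g • toSL hF x • p = toSL hF x • p := by
  rw [map_mul, map_mul, map_inv, mul_smul, mul_smul, inv_smul_eq_iff]

/-- The projection of the stabilizer onto the torus. -/
noncomputable def torusPart : borel hF →* Fˣ :=
  MonoidHom.mk' (sPart hF) fun g h => by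
    obtain ⟨s, a, b, hg⟩ := exists_coords hF g.2
    obtain ⟨t, c, d, hh⟩ := exists_coords hF h.2
    obtain ⟨a', b', hgh⟩ := TU_mul hF s t a b c d
    rw [sPart_eq hF hg, sPart_eq hF hh]
    exact sPart_eq hF (g := g * h) (by rw [Subgroup.coe_mul, hg, hh, hgh])

theorem torusPart_eq {g : borel hF} {s : Fˣ} {a b : F}
    (h : (g : Sz F (2 ^ (m + 1))) = T hF s * U hF a b) : torusPart hF g = s := sPart_eq hF h

theorem torusPart_eq_one_iff {g : borel hF} :
    torusPart hF g = 1 ↔ (g : Sz F (2 ^ (m + 1))) ∈ unip hF := by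
  obtain ⟨s, a, b, hg⟩ := exists_coords hF g.2
  rw [torusPart_eq hF hg]
  constructor
  · rintro rfl
    exact ⟨a, b, by rw [hg, T_one, one_mul]⟩
  · rintro ⟨c, d, h⟩
    exact (TU_injective hF (s := s) (t := 1) (a := a) (b := b) (c := c) (d := d)
      (by rw [← hg, h, T_one, one_mul])).1

theorem T_eq_one {s : Fˣ} (h : T hF s = 1) : s = 1 := T_injective hF (h.trans (T_one hF).symm)

/-- A non-trivial unipotent element fixes only the point at infinity. -/
theorem fix_unip {g : Sz F (2 ^ (m + 1))} (hg : g ∈ unip hF) (h1 : g ≠ 1)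
    {p : Cfsg.suzukiOvoid F m} (hp : toSL hF g • p = p) : p = inf := by
  by_contra hne
  obtain ⟨a, b, rfl⟩ := hg
  obtain ⟨⟨c, d⟩, hcd, hun⟩ := existsUnique_U hF hne
  simp only at hcd
  have h := hp
  rw [← hcd, smul_smul, ← map_mul, U_mul] at h
  have e := (existsUnique_U hF hne).unique (y₁ := (a + c, b + d + a * c ^ 2 ^ (m + 1)))
    (y₂ := (c, d)) (by simpa only using h.trans hcd) hcd
  simp only [Prod.mk.injEq] at e
  have ha : a = 0 := by linear_combination e.1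
  subst ha
  have hb : b = 0 := by
    have := e.2
    simp at this
    linear_combination this
  subst hb
  exact h1 (U_zero hF)

theorem mem_borel_of_conj_unip {u x : Sz F (2 ^ (m + 1))} (hu : u ∈ unip hF) (h1 : u ≠ 1)
    (hx : x⁻¹ * u * x ∈ borel hF) : x ∈ borel hF := by
  rw [mem_borel] at hx ⊢
  exact fix_unip hF hu h1 ((fix_conj hF u x inf).1 hx)

/-- A non-trivial torus element fixes only the two reference points. -/
theorem fix_T {s : Fˣ} (hs : s ≠ 1) {p : Cfsg.suzukiOvoid F m}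
    (hp : toSL hF (T hF s) • p = p) : p = inf ∨ p = zero := by
  by_contra h
  push Not at h
  exact hs (T_eq_one hF (fix_three hF inf_ne_zero (Ne.symm h.2) (Ne.symm h.1)
    (T_smul_inf hF s) (T_smul_zero hF s) hp))

theorem mem_of_conj_T {s : Fˣ} (hs : s ≠ 1) {x : Sz F (2 ^ (m + 1))}
    (hx : x⁻¹ * T hF s * x ∈ borel hF) : x ∈ borel hF ∨ W hF * x ∈ borel hF := by
  rw [mem_borel, map_mul, map_mul, map_inv, mul_smul, mul_smul, inv_smul_eq_iff] at hx
  rcases fix_T hF hs hx with h | h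
  · exact Or.inl h
  · exact Or.inr (by rw [mem_borel, map_mul, mul_smul, h, W_smul_zero])

theorem W_conj_T (s : Fˣ) : (W hF)⁻¹ * T hF s * W hF = T hF s⁻¹ := by
  rw [inv_eq_of_mul_eq_one_right (W_mul_W hF), W_mul_T]

/-- The centralizer of a non-trivial element of the split torus. -/
theorem centralizer_T {s : Fˣ} (hs : s ≠ 1) {x : Sz F (2 ^ (m + 1))}
    (hx : x * T hF s = T hF s * x) : ∃ t : Fˣ, x = T hF t := by
  have hfix : ∀ p : Cfsg.suzukiOvoid F m, toSL hF (T hF s) • p = p →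
      toSL hF (T hF s) • toSL hF x • p = toSL hF x • p := fun p hp => by
    rw [smul_smul, ← map_mul, ← hx, map_mul, mul_smul, hp]
  rcases fix_T hF hs (hfix inf (T_smul_inf hF s)) with h1 | h1
  · rcases fix_T hF hs (hfix zero (T_smul_zero hF s)) with h2 | h2
    · exact absurd (MulAction.injective _ (h1.trans h2.symm)) inf_ne_zero
    · exact (stab_two hF x).1 ⟨h1, h2⟩
  · exfalso
    rcases fix_T hF hs (hfix zero (T_smul_zero hF s)) with h2 | h2
    · obtain ⟨t, ht⟩ := (stab_two hF (W hF * x)).1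
        ⟨by rw [map_mul, mul_smul, h1, W_smul_zero], by rw [map_mul, mul_smul, h2, W_smul_inf]⟩
      have hx' : x = W hF * T hF t := by rw [← ht, ← mul_assoc, W_mul_W, one_mul]
      rw [hx'] at hx
      have e : T hF s⁻¹ = T hF s := by
        rw [← W_conj_T hF s]
        calc (W hF)⁻¹ * T hF s * W hF
            = (W hF)⁻¹ * (T hF s * (W hF * T hF t)) * (T hF t)⁻¹ := by group
          _ = (W hF)⁻¹ * (W hF * T hF t * T hF s) * (T hF t)⁻¹ := by rw [hx]
          _ = T hF t * T hF s * (T hF t)⁻¹ := by group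
          _ = T hF s := by rw [T_mul, mul_comm t s, ← T_mul, mul_inv_cancel_right]
      have e2 := T_injective hF e
      exact hs (eq_one_of_sq (by
        calc s * s = s⁻¹ * s := by rw [e2]
          _ = 1 := inv_mul_cancel s))
    · exact inf_ne_zero (MulAction.injective _ (h2.trans h1.symm)).symm

theorem U_sq (a b : F) : U hF a b * U hF a b = U hF 0 (a * a ^ 2 ^ (m + 1)) := by
  rw [U_mul, CharTwo.add_self_eq_zero, CharTwo.add_self_eq_zero, zero_add]

include hF in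
/-- The only fixed points of the field automorphism. -/
theorem sigma_fix {z : F} (h : z ^ 2 ^ (m + 1) = z) : z = 0 ∨ z = 1 := by
  have h2 := pow_q₀_sq hF z
  rw [h, h, pow_two] at h2
  rcases eq_or_ne z 0 with h0 | h0
  · exact Or.inl h0
  · exact Or.inr ((mul_eq_left₀ h0).1 h2.symm)

include hF in
/-- The additive equation without solutions. -/
theorem sigma_add_ne_one (z : F) : z ^ 2 ^ (m + 1) + z ≠ 1 := by
  intro h
  have h2 : (2 : F) = 0 := CharTwo.two_eq_zero
  have hz : z ^ 2 ^ (m + 1) = z + 1 := by linear_combination h - z * h2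
  have h4 := pow_q₀_sq hF z
  rw [hz, pow_q₀_add, hz, one_pow, pow_two] at h4
  have : z = 0 ∨ z = 1 := by
    rcases eq_or_ne z 0 with h0 | h0
    · exact Or.inl h0
    · refine Or.inr ((mul_eq_left₀ h0).1 ?_)
      linear_combination -h4 + h2
  rcases this with rfl | rfl
  · rw [zero_pow (by positivity), zero_add] at h
    exact zero_ne_one h
  · rw [one_pow] at h
    exact zero_ne_one (by linear_combination h - h2)

/-- The elements commuting with an element of order four of the unipotent radical. -/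
theorem commute_U_iff {a b : F} (ha : a ≠ 0) {x : Sz F (2 ^ (m + 1))} :
    x * U hF a b = U hF a b * x ↔ ∃ c d, (c = 0 ∨ c = a) ∧ x = U hF c d := by
  have h2 : (2 : F) = 0 := CharTwo.two_eq_zero
  constructor
  · intro hx
    have hu : U hF a b ∈ unip hF := ⟨a, b, rfl⟩
    have h1 : U hF a b ≠ 1 := fun e => ha (U_injective hF (e.trans (U_zero hF).symm)).1
    have hxB : x ∈ borel hF := mem_borel_of_conj_unip hF hu h1 (by
      rw [mul_assoc, ← hx, inv_mul_cancel_left]; exact U_mem_borel hF a b)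
    obtain ⟨s, c, d, rfl⟩ := exists_coords hF hxB
    rw [mul_assoc, U_mul, ← mul_assoc] at hx
    have hs := U_mul_T hF a b s
    rw [hs, mul_assoc, U_mul] at hx
    obtain ⟨e1, e2⟩ := U_injective hF (mul_left_cancel hx)
    set w := (((s⁻¹ : Fˣ) : F)) ^ 2 ^ (m + 1) with hw
    have hw1 : w = 1 := mul_right_cancel₀ ha (by linear_combination -e1)
    have hs1 : s = 1 := by
      have h := pow_q₀_sq hF ((s⁻¹ : Fˣ) : F)
      rw [← hw, hw1, one_pow] at h
      have h3 : (s⁻¹ : Fˣ) * s⁻¹ = 1 := Units.ext (by rw [Units.val_mul, ← pow_two, ← h]; rfl)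
      exact inv_eq_one.mp (eq_one_of_sq h3)
    subst hs1
    rw [T_one, one_mul]
    refine ⟨c, d, ?_, rfl⟩
    rw [hw1, one_mul, inv_one, Units.val_one, one_pow, one_mul] at e2
    have e3 : c * a ^ 2 ^ (m + 1) = a * c ^ 2 ^ (m + 1) := by linear_combination e2
    have hz : (c / a) ^ 2 ^ (m + 1) = c / a := by
      rw [div_pow, div_eq_div_iff (pow_ne_zero _ ha) ha]
      linear_combination -e3
    rcases sigma_fix hF hz with h | h
    · exact Or.inl ((div_eq_zero_iff.mp h).resolve_right ha)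
    · exact Or.inr ((div_eq_one_iff_eq ha).mp h)
  · rintro ⟨c, d, hc, rfl⟩
    rw [U_mul, U_mul]
    have hp : (0 : F) ^ 2 ^ (m + 1) = 0 := zero_pow (by positivity)
    rcases hc with rfl | rfl <;> congr 1 <;> simp [hp] <;> ring

/-- The centralizer of an element of order four has order `2 q`. -/
theorem card_centralizer_U {a b : F} (ha : a ≠ 0) :
    Nat.card (Subgroup.centralizer ({U hF a b} : Set (Sz F (2 ^ (m + 1))))) =
      2 * Fintype.card F := by
  classical
  have h : Function.Bijective (fun p : Fin 2 × F =>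
      (⟨U hF (if p.1 = 0 then 0 else a) p.2, Subgroup.mem_centralizer_singleton_iff.mpr
        ((commute_U_iff hF ha).mpr ⟨_, _, by split_ifs <;> simp, rfl⟩)⟩ :
        Subgroup.centralizer ({U hF a b} : Set (Sz F (2 ^ (m + 1)))))) := by
    refine ⟨fun p r e => ?_, fun x => ?_⟩
    · obtain ⟨e1, e2⟩ := U_injective hF (congrArg Subtype.val e)
      refine Prod.ext ?_ e2
      rcases Fin.exists_fin_two.mp ⟨p.1, rfl⟩ with h | h <;>
        rcases Fin.exists_fin_two.mp ⟨r.1, rfl⟩ with h' | h' <;>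
        simp [h, h', ha, Ne.symm ha] at e1 ⊢
    · obtain ⟨c, d, hc, hx⟩ :=
        (commute_U_iff hF ha).mp (Subgroup.mem_centralizer_singleton_iff.mp x.2)
      rcases hc with rfl | rfl
      · exact ⟨(0, d), Subtype.ext (by simp [hx])⟩
      · exact ⟨(1, d), Subtype.ext (by simp [hx])⟩
  rw [← Nat.card_eq_of_bijective _ h]
  simp

/-- An element of order four is not conjugate to its inverse. -/
theorem not_conj_inv {a b : F} (ha : a ≠ 0) (x : Sz F (2 ^ (m + 1))) :
    x⁻¹ * U hF a b * x ≠ (U hF a b)⁻¹ := by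
  intro hx
  have h1 : U hF a b ≠ 1 := fun e => ha (U_injective hF (e.trans (U_zero hF).symm)).1
  have hxB : x ∈ borel hF := mem_borel_of_conj_unip hF ⟨a, b, rfl⟩ h1 (by
    rw [hx]; exact inv_mem (U_mem_borel hF a b))
  obtain ⟨s, c, d, rfl⟩ := exists_coords hF hxB
  have hs := U_mul_T hF a b s
  have key : U hF ((((s⁻¹ : Fˣ) : F)) ^ 2 ^ (m + 1) * a)
      ((((s⁻¹ : Fˣ) : F)) ^ (2 ^ (m + 1) + 2) * b) * U hF c d = U hF c d * (U hF a b)⁻¹ := by
    rw [← hx]
    calc _ = (T hF s)⁻¹ * (T hF s * U hF ((((s⁻¹ : Fˣ) : F)) ^ 2 ^ (m + 1) * a)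
          ((((s⁻¹ : Fˣ) : F)) ^ (2 ^ (m + 1) + 2) * b)) * U hF c d := by group
      _ = (T hF s)⁻¹ * (U hF a b * T hF s) * U hF c d := by rw [hs]
      _ = _ := by group
  rw [U_inv, U_mul, U_mul] at key
  obtain ⟨e1, e2⟩ := U_injective hF key
  set w := (((s⁻¹ : Fˣ) : F)) ^ 2 ^ (m + 1) with hw
  have hw1 : w = 1 := mul_right_cancel₀ ha (by linear_combination e1)
  have hs1 : s = 1 := by
    have h := pow_q₀_sq hF ((s⁻¹ : Fˣ) : F)
    rw [← hw, hw1, one_pow] at h
    have h3 : (s⁻¹ : Fˣ) * s⁻¹ = 1 := Units.ext (by rw [Units.val_mul, ← pow_two, ← h]; rfl)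
    exact inv_eq_one.mp (eq_one_of_sq h3)
  subst hs1
  rw [hw1, one_mul, inv_one, Units.val_one, one_pow, one_mul] at e2
  refine sigma_add_ne_one hF (c / a) ?_
  have h2 : (2 : F) = 0 := CharTwo.two_eq_zero
  rw [div_pow, div_add_div _ _ (pow_ne_zero _ ha) ha, div_eq_one_iff_eq
    (mul_ne_zero (pow_ne_zero _ ha) ha)]
  linear_combination e2 + (a ^ 2 ^ (m + 1) * c) * h2

include hF in
/-- The two tori without fixed points. -/
theorem exists_tori4 (hm : 1 ≤ m) : ∃ A B : Subgroup (Sz F (2 ^ (m + 1))),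
    IsTorus4 A ∧ IsTorus4 B ∧ Nat.card A = Fintype.card F + 2 * rr m + 1 ∧
      Nat.card B = Fintype.card F - 2 * rr m + 1 ∧
      (∀ a ∈ A, a ≠ 1 → Fpf hF a) ∧ (∀ b ∈ B, b ≠ 1 → Fpf hF b) ∧
      ∀ g : Sz F (2 ^ (m + 1)), Fpf hF g → ∃ x, x⁻¹ * g * x ∈ A ∨ x⁻¹ * g * x ∈ B := by
  classical
  obtain ⟨A, hAc, hAk, hA, hAN⟩ := exists_tori hF hm _ (Set.mem_insert _ _)
  obtain ⟨B, hBc, hBk, hB, hBN⟩ := exists_tori hF hm _ (Set.mem_insert_of_mem _ rfl)
  have hAk : Nat.card A = Fintype.card F + 2 * rr m + 1 := by have := two_rr m; omega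
  have hBk : Nat.card B = Fintype.card F - 2 * rr m + 1 := by have := two_rr m; omega
  have hq := card_eq hF
  have hr := two_le_rr hm
  set q := Fintype.card F with hqdef
  set r := rr m with hrdef
  have hrq : 2 * r + 4 ≤ q + 1 := by nlinarith
  have hprod : Nat.card A * Nat.card B = q ^ 2 + 1 := by
    rw [hAk, hBk]
    obtain ⟨z, hz⟩ : ∃ z, q = 2 * r + z := ⟨q - 2 * r, by omega⟩
    rw [hz, Nat.add_sub_cancel_left]
    nlinarith
  have hfpf : ∀ C : Subgroup (Sz F (2 ^ (m + 1))), Nat.card C ∣ q ^ 2 + 1 →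
      ∀ a ∈ C, a ≠ 1 → Fpf hF a := fun C hC a ha ha1 =>
    fpf_of_dvd hF hm ha1 ((Subgroup.orderOf_dvd_natCard (s := C) ha).trans hC)
  have hfA := hfpf A (hprod ▸ dvd_mul_right _ _)
  have hfB := hfpf B (hprod ▸ dvd_mul_left _ _)
  refine ⟨A, B, ⟨hA, by have := two_rr m; omega⟩, ⟨hB, by have := two_rr m; omega⟩, hAk, hBk,
    hfA, hfB, fun g hg => ?_⟩
  have pick : ∀ C : Subgroup (Sz F (2 ^ (m + 1))), 1 < Nat.card C →
      (∀ a ∈ C, a ≠ 1 → Fpf hF a) →
      (∀ u ∈ C, u ≠ 1 → Subgroup.centralizer ({u} : Set (Sz F (2 ^ (m + 1)))) = C) →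
      Nat.card ↥(Subgroup.normalizer (C : Set (Sz F (2 ^ (m + 1))))) = 4 * Nat.card C →
      ∃ a, Fpf hF a ∧ Subgroup.centralizer ({a} : Set (Sz F (2 ^ (m + 1)))) = C ∧
        Nat.card ↥(cls a) * (4 * Nat.card C) = Nat.card (Sz F (2 ^ (m + 1))) * (Nat.card C - 1) := by
    intro C h1 h2 h3 h4
    have : Nontrivial C := Finite.one_lt_card_iff_nontrivial.mp h1
    obtain ⟨⟨a, ha⟩, ha1⟩ := exists_ne (1 : C)
    have ha1' : a ≠ 1 := fun e => ha1 (Subtype.ext e)
    refine ⟨a, h2 a ha ha1', h3 a ha ha1', ?_⟩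
    obtain ⟨n, k, -, -, -, hk, hN, hcls, -⟩ := class_facts hF hm (h2 a ha ha1')
    rw [h3 a ha ha1'] at hk hN
    rw [h4, hk] at hN
    rw [hk, hN]
    exact hcls
  obtain ⟨a, hfa, hCa, hca⟩ := pick A (by omega) hfA hA (by have := two_rr m; omega)
  obtain ⟨b, hfb, hCb, hcb⟩ := pick B (by omega) hfB hB (by have := two_rr m; omega)
  have hdisj : Disjoint (cls a) (cls b) := by
    rw [Set.disjoint_left]
    intro z hza hzb
    obtain ⟨hz1, x, hx⟩ := hza
    obtain ⟨-, y, hy⟩ := hzb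
    have e1 := hA _ (hCa ▸ hx) (fun e => hz1 (by
      calc z = x * (x⁻¹ * z * x) * x⁻¹ := by group
        _ = 1 := by rw [e]; group))
    have e2 := hB _ (hCb ▸ hy) (fun e => hz1 (by
      calc z = y * (y⁻¹ * z * y) * y⁻¹ := by group
        _ = 1 := by rw [e]; group))
    have hcard : ∀ w : Sz F (2 ^ (m + 1)),
        Nat.card (Subgroup.centralizer ({w⁻¹ * z * w} : Set (Sz F (2 ^ (m + 1))))) =
          Nat.card (Subgroup.centralizer ({z} : Set (Sz F (2 ^ (m + 1))))) := fun w => by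
      refine Nat.card_congr ⟨fun u => ⟨w * u * w⁻¹, ?_⟩, fun u => ⟨w⁻¹ * u * w, ?_⟩,
        fun u => Subtype.ext (by group), fun u => Subtype.ext (by group)⟩
      · rw [Subgroup.mem_centralizer_singleton_iff]
        have h := Subgroup.mem_centralizer_singleton_iff.mp u.2
        calc w * u * w⁻¹ * z = w * (u * (w⁻¹ * z * w)) * w⁻¹ := by group
          _ = w * ((w⁻¹ * z * w) * u) * w⁻¹ := by rw [h]
          _ = z * (w * u * w⁻¹) := by group
      · rw [Subgroup.mem_centralizer_singleton_iff]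
        have h := Subgroup.mem_centralizer_singleton_iff.mp u.2
        calc w⁻¹ * u * w * (w⁻¹ * z * w) = w⁻¹ * (u * z) * w := by group
          _ = w⁻¹ * (z * u) * w := by rw [h]
          _ = w⁻¹ * z * w * (w⁻¹ * u * w) := by group
    have hc1 := hcard x
    rw [e1, ← hcard y, e2, hAk, hBk] at hc1
    omega
  have hE := card_fpf hF hm
  rw [← hqdef] at hE
  have hsub : cls a ∪ cls b ⊆ {g : Sz F (2 ^ (m + 1)) | Fpf hF g} := by
    rintro z (hz | hz)
    · exact fpf_of_mem_cls hF hm hfa hz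
    · exact fpf_of_mem_cls hF hm hfb hz
  have hsum : Nat.card ↥(cls a ∪ cls b) = Nat.card {g : Sz F (2 ^ (m + 1)) // Fpf hF g} := by
    rw [Nat.card_coe_set_eq, Set.ncard_union_eq hdisj (Set.toFinite _) (Set.toFinite _),
      ← Nat.card_coe_set_eq, ← Nat.card_coe_set_eq]
    have hG : 0 < Nat.card (Sz F (2 ^ (m + 1))) := Nat.card_pos
    set G := Nat.card (Sz F (2 ^ (m + 1)))
    set ca := Nat.card ↥(cls a)
    set cb := Nat.card ↥(cls b)
    set E := Nat.card {g : Sz F (2 ^ (m + 1)) // Fpf hF g}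
    obtain ⟨z, hz⟩ : ∃ z, q = 2 * r + z := ⟨q - 2 * r, by omega⟩
    obtain ⟨ka, hka⟩ : ∃ k, Nat.card A = k + 1 := ⟨Nat.card A - 1, by omega⟩
    obtain ⟨kb, hkb⟩ : ∃ k, Nat.card B = k + 1 := ⟨Nat.card B - 1, by omega⟩
    rw [hka, Nat.add_sub_cancel] at hca
    rw [hkb, Nat.add_sub_cancel] at hcb
    rw [hka, hkb] at hprod
    obtain ⟨q1, hq1⟩ : ∃ k, q = k + 1 := ⟨q - 1, by omega⟩
    rw [← hprod, hq1, Nat.add_sub_cancel] at hE
    have hkab : ka + kb = 2 * q := by omega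
    refine Nat.eq_of_mul_eq_mul_left (show 0 < 4 * ((ka + 1) * (kb + 1)) by positivity) ?_
    have hsplit : 4 * ((ka + 1) * (kb + 1)) * (ca + cb) =
        ca * (4 * (ka + 1)) * (kb + 1) + cb * (4 * (kb + 1)) * (ka + 1) := by ring
    rw [hsplit, hca, hcb]
    have h1 : (ka + 1) * (kb + 1) = q ^ 2 + 1 := hprod
    have h2 : ka * (kb + 1) + kb * (ka + 1) = 2 * q * q1 := by nlinarith
    calc G * ka * (kb + 1) + G * kb * (ka + 1) = G * (ka * (kb + 1) + kb * (ka + 1)) := by ring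
      _ = 2 * (G * ((q1 + 1) * q1)) := by rw [h2, hq1]; ring
      _ = 2 * (2 * ((ka + 1) * (kb + 1)) * E) := by rw [hE]
      _ = _ := by ring
  have heq := Set.eq_of_subset_of_ncard_le hsub (by
    rw [← Nat.card_coe_set_eq, ← Nat.card_coe_set_eq, hsum]; exact le_rfl) (Set.toFinite _)
  have hg' : g ∈ cls a ∪ cls b := heq.symm ▸ hg
  rcases hg' with ⟨-, x, hx⟩ | ⟨-, x, hx⟩
  · exact ⟨x, Or.inl (hCa ▸ hx)⟩
  · exact ⟨x, Or.inr (hCb ▸ hx)⟩

/-- The kinds of non-identity elements. -/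
theorem classify (hm : 1 ≤ m) {A B : Subgroup (Sz F (2 ^ (m + 1)))}
    (hcl : ∀ g : Sz F (2 ^ (m + 1)), Fpf hF g → ∃ x, x⁻¹ * g * x ∈ A ∨ x⁻¹ * g * x ∈ B)
    {g : Sz F (2 ^ (m + 1))} (hg : g ≠ 1) :
    ∃ x : Sz F (2 ^ (m + 1)), x⁻¹ * g * x ∈ unip hF ∨
      (∃ s : Fˣ, s ≠ 1 ∧ x⁻¹ * g * x = T hF s) ∨ x⁻¹ * g * x ∈ A ∨ x⁻¹ * g * x ∈ B := by
  by_cases hf : Fpf hF g
  · obtain ⟨x, hx⟩ := hcl g hf
    exact ⟨x, Or.inr (Or.inr hx)⟩
  simp only [Fpf, not_forall, not_not] at hf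
  obtain ⟨p, hp⟩ := hf
  obtain ⟨k, hk⟩ := exists_smul_inf hF p
  have hfix : ∀ x : Sz F (2 ^ (m + 1)), ∀ p' : Cfsg.suzukiOvoid F m,
      toSL hF g • toSL hF x • p' = toSL hF x • p' → toSL hF (x⁻¹ * g * x) • p' = p' :=
    fun x p' h => by rw [map_mul, map_mul, map_inv, mul_smul, mul_smul, h, inv_smul_smul]
  by_cases hu : ∀ p' : Cfsg.suzukiOvoid F m, toSL hF (k⁻¹ * g * k) • p' = p' → p' = inf
  · exact ⟨k, Or.inl (mem_unip_of_fix hF (hfix k inf (by rw [hk, hp])) hu)⟩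
  push Not at hu
  obtain ⟨p', hp', hne⟩ := hu
  obtain ⟨l, hl1, hl2⟩ := exists_smul_pair hF (Ne.symm hne)
  have e1 : toSL hF (k⁻¹ * g * k) • toSL hF l • inf = toSL hF l • (inf : Cfsg.suzukiOvoid F m) := by
    rw [hl1]; exact hfix k inf (by rw [hk, hp])
  have e2 : toSL hF (k⁻¹ * g * k) • toSL hF l • zero = toSL hF l • (zero : Cfsg.suzukiOvoid F m) := by
    rw [hl2, hp']
  have e3 : ∀ p'' : Cfsg.suzukiOvoid F m, toSL hF (k⁻¹ * g * k) • toSL hF l • p'' = toSL hF l • p'' →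
      toSL hF ((k * l)⁻¹ * g * (k * l)) • p'' = p'' := fun p'' h => by
    rw [show (k * l)⁻¹ * g * (k * l) = l⁻¹ * (k⁻¹ * g * k) * l by group]
    exact (fix_conj hF _ l p'').2 h
  obtain ⟨s, hs⟩ := (stab_two hF ((k * l)⁻¹ * g * (k * l))).1 ⟨e3 _ e1, e3 _ e2⟩
  refine ⟨k * l, Or.inr (Or.inl ⟨s, fun e => hg ?_, hs⟩)⟩
  rw [e, T_one] at hs
  calc g = k * l * ((k * l)⁻¹ * g * (k * l)) * (k * l)⁻¹ := by group
    _ = 1 := by rw [hs]; group

end CfsgLib.Suzuki.Chars
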