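import Cfsg.Agent.Lib.Suzuki.Chars.Rest

/-!
# The character table of the Suzuki groups

`exists_table`: the irreducible characters are the trivial one, the Steinberg character, the
principal series, two exceptional families of degrees `(q - 1)(q - 2r + 1)` and
`(q - 1)(q + 2r + 1)`, and two characters of degree `r (q - 1)`, with their values on the tori.
-/

set_option autoImplicit false

namespace CfsgLib.Suzuki.Chars

open Matrix Cfsg.Lie CfsgLib.SuzukiLaws CfsgLib.Suzuki CfsgLib.Char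
open scoped ComplexConjugate

universe u

noncomputable def subgroupFintype {G : Type u} [Group G] [Finite G] (H : Subgroup G) :
    Fintype H := Fintype.ofFinite H

attribute [local instance] subgroupFintype Classical.propDecidable

variable {F : Type u} [Field F] [Fintype F] [CharP F 2] {m : ℕ}
  (hF : Fintype.card F = 2 ^ (2 * m + 1)) [Fintype (Sz F (2 ^ (m + 1)))] (hm : 1 ≤ m)

/-- The character table. -/
structure Table where
  /-- The larger torus. -/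
  A : Subgroup (Sz F (2 ^ (m + 1)))
  /-- The smaller torus. -/
  B : Subgroup (Sz F (2 ^ (m + 1)))
  hA : IsTorus4 A
  hB : IsTorus4 B
  cardA : Nat.card A = Fintype.card F + 2 * rr m + 1
  cardB : Nat.card B = Fintype.card F - 2 * rr m + 1
  fpfA : ∀ a ∈ A, a ≠ 1 → Fpf hF a
  fpfB : ∀ b ∈ B, b ≠ 1 → Fpf hF b
  cls : ∀ g, Fpf hF g → ∃ x, x⁻¹ * g * x ∈ A ∨ x⁻¹ * g * x ∈ B
  /-- The family of the larger torus. -/
  dA : Fam A
  /-- The family of the smaller torus. -/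
  dB : Fam B
  nA : 4 * dA.n + 1 = Nat.card A
  nB : 4 * dB.n + 1 = Nat.card B
  /-- The first small character. -/
  W : Cfsg.IrrCharacter (Sz F (2 ^ (m + 1)))
  /-- The second small character. -/
  W' : Cfsg.IrrCharacter (Sz F (2 ^ (m + 1)))
  W_ne : W ≠ W'
  X_deg : ∀ i, (dA.X i : Sz F (2 ^ (m + 1)) → ℂ) 1 =
    ((Fintype.card F - 1) * Nat.card B : ℕ)
  Y_deg : ∀ j, (dB.X j : Sz F (2 ^ (m + 1)) → ℂ) 1 =
    ((Fintype.card F - 1) * Nat.card A : ℕ)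
  W_deg : ∀ χ ∈ ({W, W'} : Finset (Cfsg.IrrCharacter (Sz F (2 ^ (m + 1))))),
    (χ : Sz F (2 ^ (m + 1)) → ℂ) 1 = ((Fintype.card F - 1) * rr m : ℕ)
  X_A : ∀ i, ∀ a : A, a ≠ 1 → (dA.X i : Sz F (2 ^ (m + 1)) → ℂ) a = - orbSum (dA.ψ i) a
  X_B : ∀ i, ∀ b : B, b ≠ 1 → (dA.X i : Sz F (2 ^ (m + 1)) → ℂ) b = 0
  Y_B : ∀ j, ∀ b : B, b ≠ 1 → (dB.X j : Sz F (2 ^ (m + 1)) → ℂ) b = - orbSum (dB.ψ j) b
  Y_A : ∀ j, ∀ a : A, a ≠ 1 → (dB.X j : Sz F (2 ^ (m + 1)) → ℂ) a = 0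
  W_A : ∀ χ ∈ ({W, W'} : Finset (Cfsg.IrrCharacter (Sz F (2 ^ (m + 1))))), ∀ a : A, a ≠ 1 →
    (χ : Sz F (2 ^ (m + 1)) → ℂ) a = 1
  W_B : ∀ χ ∈ ({W, W'} : Finset (Cfsg.IrrCharacter (Sz F (2 ^ (m + 1))))), ∀ b : B, b ≠ 1 →
    (χ : Sz F (2 ^ (m + 1)) → ℂ) b = -1
  rest_eq : rest hF hm = Finset.univ.image dA.X ∪ Finset.univ.image dB.X ∪ {W, W'}

section Side

variable {C : Subgroup (Sz F (2 ^ (m + 1)))} (hC : IsTorus4 C)
  (hfpf : ∀ a ∈ C, a ≠ 1 → Fpf hF a) (d : Fam C)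

/-- The members of a family as a set. -/
noncomputable def famSet : Finset (Cfsg.IrrCharacter (Sz F (2 ^ (m + 1)))) :=
  Finset.univ.image d.X

theorem mem_famSet {χ : Cfsg.IrrCharacter (Sz F (2 ^ (m + 1)))} :
    χ ∈ famSet d ↔ ∃ i, d.X i = χ := by simp [famSet]

theorem sum_famSet {M : Type*} [AddCommMonoid M] (f : Cfsg.IrrCharacter (Sz F (2 ^ (m + 1))) → M) :
    ∑ χ ∈ famSet d, f χ = ∑ i, f (d.X i) := by
  rw [famSet, Finset.sum_image fun a _ b _ h => d.X_inj h]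

theorem card_famSet : (famSet d).card = d.n := by
  rw [famSet, Finset.card_image_of_injective _ d.X_inj, Finset.card_univ, Fintype.card_fin]

include hC in
theorem coef_X (i : Fin d.n) :
    d.coef (d.X i) = d.v (d.X d.i₀) - (if i = d.i₀ then d.ε else 0) := by
  rw [Fam.coef, (d.X_v_eq hC i).1]
  congr 1
  by_cases h : i = d.i₀
  · subst h; simp
  · rw [if_neg (fun e => h (d.X_inj e)), if_neg h, mul_zero]

include hC in
theorem sum_coef_sq_famSet :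
    ∑ χ ∈ famSet d, d.coef χ ^ 2 =
      ((d.n : ℤ) - 1) * d.v (d.X d.i₀) ^ 2 + (d.v (d.X d.i₀) - d.ε) ^ 2 := by
  rw [famSet, Finset.sum_image fun i _ j _ h => d.X_inj h,
    ← Finset.add_sum_erase _ _ (Finset.mem_univ d.i₀), coef_X hC d d.i₀, if_pos rfl,
    Finset.sum_congr rfl fun i hi => by rw [coef_X hC d i, if_neg (Finset.ne_of_mem_erase hi), sub_zero],
    Finset.sum_const, Finset.card_erase_of_mem (Finset.mem_univ _), Finset.card_univ,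
    Fintype.card_fin, nsmul_eq_mul, Nat.cast_sub (by have := d.i₀.isLt; omega)]
  push_cast
  ring

omit hfpf in
theorem coef_eq_v {χ : Cfsg.IrrCharacter (Sz F (2 ^ (m + 1)))} (hχ : χ ∉ famSet d) :
    d.coef χ = d.v χ := by
  rw [Fam.coef, if_neg fun e => hχ ((mem_famSet d).mpr ⟨_, e.symm⟩), mul_zero, sub_zero]

include hC hfpf in
theorem famSet_subset (hn : 2 ≤ d.n) : famSet d ⊆ rest hF hm := fun χ hχ => by
  obtain ⟨i, rfl⟩ := (mem_famSet d).mp hχ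
  exact X_mem_rest hF hC hfpf d hm hn i

include hC hfpf in
theorem sq_split (hn : 2 ≤ d.n) (hC1 : 1 < Nat.card C) :
    ((d.n : ℤ) - 1) * d.v (d.X d.i₀) ^ 2 + (d.v (d.X d.i₀) - d.ε) ^ 2 +
      ∑ χ ∈ rest hF hm \ famSet d, d.v χ ^ 2 = 3 := by
  have h := coef_sq_rest hF hC hfpf d hm (X_mem_rest hF hC hfpf d hm hn) hC1
  rw [← Finset.sum_sdiff (famSet_subset hF hm hC hfpf d hn), sum_coef_sq_famSet hC d,
    Finset.sum_congr rfl fun χ hχ => by rw [coef_eq_v d (Finset.mem_sdiff.mp hχ).2]] at h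
  linarith

include hC hfpf in
theorem large_data (hn : 5 ≤ d.n) (hC1 : 1 < Nat.card C) :
    d.v (d.X d.i₀) = 0 ∧ ∑ χ ∈ rest hF hm \ famSet d, d.v χ ^ 2 = 2 := by
  have h := sq_split hF hm hC hfpf d (by omega) hC1
  have h0 : 0 ≤ ∑ χ ∈ rest hF hm \ famSet d, d.v χ ^ 2 := Finset.sum_nonneg fun _ _ => sq_nonneg _
  have hv : d.v (d.X d.i₀) = 0 := by
    by_contra hne
    have h1 : 1 ≤ d.v (d.X d.i₀) ^ 2 := (one_le_sq_iff_one_le_abs _).mpr (Int.one_le_abs hne)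
    have h2 : (4 : ℤ) ≤ (d.n : ℤ) - 1 := by omega
    nlinarith [sq_nonneg (d.v (d.X d.i₀) - d.ε)]
  rw [hv] at h
  refine ⟨hv, ?_⟩
  rcases d.ε_eq with e | e <;> rw [e] at h <;> linarith

include hC hfpf in
/-- The degree equation. -/
theorem deg_split (hn : 2 ≤ d.n) (hC1 : 1 < Nat.card C) (hv : d.v (d.X d.i₀) = 0) :
    - d.ε * (eDeg (d.X d.i₀) : ℤ) + ∑ χ ∈ rest hF hm \ famSet d, d.v χ * (eDeg χ : ℤ) =
      Fintype.card F + 1 := by
  have h := coef_deg_rest hF hC hfpf d hm (X_mem_rest hF hC hfpf d hm hn) hC1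
  rw [← Finset.sum_sdiff (famSet_subset hF hm hC hfpf d hn),
    Finset.sum_congr rfl fun χ hχ => by rw [coef_eq_v d (Finset.mem_sdiff.mp hχ).2]] at h
  have h2 : ∑ χ ∈ famSet d, d.coef χ * (eDeg χ : ℤ) = - d.ε * (eDeg (d.X d.i₀) : ℤ) := by
    rw [famSet, Finset.sum_image fun i _ j _ h => d.X_inj h,
      Finset.sum_eq_single d.i₀ (fun i _ hi => by rw [coef_X hC d i, if_neg hi, hv]; simp) (by simp),
      coef_X hC d d.i₀, if_pos rfl, hv, zero_sub]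
  rw [h2] at h
  linarith

end Side

section Cross

variable {A B : Subgroup (Sz F (2 ^ (m + 1)))} (hA : IsTorus4 A) (hB : IsTorus4 B)
  (hfA : ∀ a ∈ A, a ≠ 1 → Fpf hF a) (hfB : ∀ b ∈ B, b ≠ 1 → Fpf hF b)
  (hne : Nat.card A ≠ Nat.card B) (dA : Fam A) (dB : Fam B)

omit hfA hfB in
include hA hB hne in
theorem not_conj {b : Sz F (2 ^ (m + 1))} (hb : b ∈ B) (hb1 : b ≠ 1) (x : Sz F (2 ^ (m + 1)))
    (hx : x⁻¹ * b * x ∈ A) : x⁻¹ * b * x = 1 := by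
  by_contra h1
  refine hne ?_
  rw [← hA.cent _ hx h1, ← hB.cent b hb hb1]
  refine Nat.card_congr ⟨fun u => ⟨x * u * x⁻¹, ?_⟩, fun u => ⟨x⁻¹ * u * x, ?_⟩,
    fun u => Subtype.ext (by group), fun u => Subtype.ext (by group)⟩
  · rw [Subgroup.mem_centralizer_singleton_iff]
    have h := Subgroup.mem_centralizer_singleton_iff.mp u.2
    calc x * u * x⁻¹ * b = x * (u * (x⁻¹ * b * x)) * x⁻¹ := by group
      _ = x * ((x⁻¹ * b * x) * u) * x⁻¹ := by rw [h]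
      _ = b * (x * u * x⁻¹) := by group
  · rw [Subgroup.mem_centralizer_singleton_iff]
    have h := Subgroup.mem_centralizer_singleton_iff.mp u.2
    calc x⁻¹ * u * x * (x⁻¹ * b * x) = x⁻¹ * (u * b) * x := by group
      _ = x⁻¹ * (b * u) * x := by rw [h]
      _ = x⁻¹ * b * x * (x⁻¹ * u * x) := by group

omit hfA hfB in
include hA hB hne in
theorem X_agree (i j : Fin dA.n) (b : B) :
    (dA.X i : Sz F (2 ^ (m + 1)) → ℂ) b = (dA.X j : Sz F (2 ^ (m + 1)) → ℂ) b := by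
  refine dA.X_eq hA i j fun x hx => ?_
  by_cases hb : (b : Sz F (2 ^ (m + 1))) = 1
  · rw [hb]; group
  · exact not_conj hA hB hne b.2 hb x hx

omit hfA hfB in
include hA hB hne in
theorem fam_disjoint (hnA : 2 ≤ dA.n) (hnB : 2 ≤ dB.n) (i : Fin dA.n) (k : Fin dB.n) :
    dA.X i ≠ dB.X k := by
  intro e
  obtain ⟨j, hji⟩ := Fintype.exists_ne_of_one_lt_card (by rw [Fintype.card_fin]; omega) i
  exact hji (dA.X_inj ((eq_X_of_agree dB hnB fun b => by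
    rw [X_agree hA hB hne dA j i b, e]).trans e.symm))

omit hfA hfB in
include hA hB hne in
/-- The constant of a family on the other torus. -/
theorem cross_const (hd : ∀ i, dA.X i ∉ famSet dB) (hB1 : 1 < Nat.card B) (i j : Fin dA.n) :
    dB.v (dA.X i) = dB.v (dA.X j) := by
  have : Nontrivial B := Finite.one_lt_card_iff_nontrivial.mp hB1
  obtain ⟨b, hb⟩ := exists_ne (1 : B)
  have h := X_agree hA hB hne dA i j b
  rw [dB.value_of_notMem hB _ (fun k e => hd i ((mem_famSet dB).mpr ⟨k, e.symm⟩)) hb,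
    dB.value_of_notMem hB _ (fun k e => hd j ((mem_famSet dB).mpr ⟨k, e.symm⟩)) hb] at h
  exact_mod_cast h

end Cross

include hF hm in
omit [CharP F 2] [Fintype (Sz F (2 ^ (m + 1)))] in
theorem arith : 8 ≤ Fintype.card F ∧ Fintype.card F = 2 * rr m ^ 2 ∧ 2 ≤ rr m ∧
    2 * rr m + 4 ≤ Fintype.card F + 1 := by
  have h := card_eq hF
  have hr := two_le_rr hm
  exact ⟨by nlinarith, h, hr, by nlinarith⟩

include hm in
/-- The total of the squares of the remaining degrees. -/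
theorem rest_total {a b na nb : ℕ} (ha : a = Fintype.card F + 2 * rr m + 1)
    (hb : b = Fintype.card F - 2 * rr m + 1) (hna : 4 * na + 1 = a) (hnb : 4 * nb + 1 = b) :
    ∑ χ ∈ rest hF hm, eDeg χ ^ 2 = na * b ^ 2 + nb * a ^ 2 + Fintype.card F := by
  obtain ⟨h8, hq, hr, hrq⟩ := arith hF hm
  have h := sum_eDeg_sq hF hm
  rw [card_group hF hm, ← hF] at h
  set q := Fintype.card F with hqdef
  set r := rr m with hrdef
  set S := ∑ χ ∈ rest hF hm, eDeg χ ^ 2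
  have hh : (q - 2) / 2 = r ^ 2 - 1 := by omega
  rw [hh] at h
  obtain ⟨z, hz⟩ : ∃ z, r ^ 2 = z + 1 := ⟨r ^ 2 - 1, by have : 1 ≤ r ^ 2 := Nat.one_le_pow _ _ (by omega); omega⟩
  rw [hz, Nat.add_sub_cancel] at h
  obtain ⟨k, hk⟩ : ∃ k, q = k + 1 := ⟨q - 1, by omega⟩
  rw [hk, Nat.add_sub_cancel, ← hk] at h
  refine Nat.eq_of_mul_eq_mul_right (show 0 < k ^ 2 by nlinarith) (Nat.cast_injective (R := ℤ) ?_)
  have hS : (S : ℤ) * k ^ 2 + z * ((q : ℤ) ^ 2 + 1) ^ 2 + (q : ℤ) ^ 4 + 1 =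
      (q : ℤ) ^ 2 * k * ((q : ℤ) ^ 2 + 1) := by exact_mod_cast h
  have hk' : (k : ℤ) = q - 1 := by rw [hk]; push_cast; ring
  have hz' : (z : ℤ) = (r : ℤ) ^ 2 - 1 := by
    have : ((r ^ 2 : ℕ) : ℤ) = ((z + 1 : ℕ) : ℤ) := by rw [hz]
    push_cast at this
    linarith
  have hq' : (q : ℤ) = 2 * (r : ℤ) ^ 2 := by exact_mod_cast hq
  have ha' : (a : ℤ) = q + 2 * r + 1 := by rw [ha]; push_cast; ring
  have hb' : (b : ℤ) = q - 2 * r + 1 := by rw [hb, Nat.cast_add, Nat.cast_sub (by omega)]; push_cast; ring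
  have hna' : 4 * (na : ℤ) = a - 1 := by rw [← hna]; push_cast; ring
  have hnb' : 4 * (nb : ℤ) = b - 1 := by rw [← hnb]; push_cast; ring
  push_cast
  rw [hk', hz'] at hS
  rw [hk']
  have e : 4 * ((S : ℤ) * ((q : ℤ) - 1) ^ 2) =
      4 * (((na : ℤ) * (b : ℤ) ^ 2 + (nb : ℤ) * (a : ℤ) ^ 2 + q) * ((q : ℤ) - 1) ^ 2) := by
    have e1 : 4 * (((na : ℤ) * (b : ℤ) ^ 2 + (nb : ℤ) * (a : ℤ) ^ 2 + q) * ((q : ℤ) - 1) ^ 2) =
        ((4 * (na : ℤ)) * (b : ℤ) ^ 2 + (4 * (nb : ℤ)) * (a : ℤ) ^ 2 + 4 * q) * ((q : ℤ) - 1) ^ 2 := by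
      ring
    rw [e1, hna', hnb', ha', hb']
    rw [hq'] at hS ⊢
    linear_combination 4 * hS
  linarith

include hF hm in
theorem coprime_pred {c : ℕ} (hc : c ∣ Fintype.card F ^ 2 + 1) :
    Nat.Coprime c (Fintype.card F - 1) := by
  obtain ⟨h8, hq, -, -⟩ := arith hF hm
  refine Nat.Coprime.coprime_dvd_left hc ?_
  obtain ⟨k, hk⟩ : ∃ k, Fintype.card F = k + 1 := ⟨Fintype.card F - 1, by omega⟩
  rw [hk, Nat.add_sub_cancel, show (k + 1) ^ 2 + 1 = 2 + k * (k + 2) by ring,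
    Nat.coprime_add_mul_left_left, Nat.coprime_two_left, Nat.odd_iff]
  omega

section Degrees

variable {C : Subgroup (Sz F (2 ^ (m + 1)))} (hC : IsTorus4 C) (d : Fam C)
  (hdvd : Nat.card C ∣ Fintype.card F ^ 2 + 1)

include hC hdvd hm in
theorem card_dvd_eDeg {χ : Cfsg.IrrCharacter (Sz F (2 ^ (m + 1)))} (hχ : χ ∈ rest hF hm)
    (hd : χ ∉ famSet d) (hv : d.v χ = 0) : Nat.card C ∣ eDeg χ := by
  obtain ⟨z, hz⟩ := eDeg_congr hF hC d hm hχ
  rw [if_neg (fun ⟨i, e⟩ => hd ((mem_famSet d).mpr ⟨i, e.symm⟩)), hv, mul_zero, add_zero,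
    zero_add] at hz
  have h : Nat.card C ∣ (Fintype.card F - 1) * eDeg χ :=
    Int.natCast_dvd_natCast.mp ⟨z, by rw [hz]; ring⟩
  exact (coprime_pred hF hm hdvd).dvd_of_dvd_mul_left h

include hC in
theorem coprime_of_unit {χ : Cfsg.IrrCharacter (Sz F (2 ^ (m + 1)))} (hχ : χ ∈ rest hF hm)
    (hd : χ ∉ famSet d) (hv : d.v χ ^ 2 = 1) : Nat.Coprime (eDeg χ) (Nat.card C) := by
  obtain ⟨z, hz⟩ := eDeg_congr hF hC d hm hχ
  rw [if_neg (fun ⟨i, e⟩ => hd ((mem_famSet d).mpr ⟨i, e.symm⟩)), mul_zero, add_zero] at hz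
  refine Nat.coprime_of_dvd fun p hp hpe hpC => ?_
  have h1 : (p : ℤ) ∣ (((Fintype.card F - 1) * eDeg χ : ℕ) : ℤ) :=
    Int.natCast_dvd_natCast.mpr (hpe.trans (dvd_mul_left _ _))
  have h2 : (p : ℤ) ∣ z * Nat.card C := (Int.natCast_dvd_natCast.mpr hpC).mul_left z
  rw [hz] at h1
  have h3 : (p : ℤ) ∣ d.v χ := (Int.dvd_add_left h2).mp h1
  have h4 : (p : ℤ) ∣ d.v χ ^ 2 := dvd_pow h3 two_ne_zero
  rw [hv] at h4
  exact hp.ne_one (Nat.dvd_one.mp (Int.natCast_dvd_natCast.mp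
    (show (p : ℤ) ∣ ((1 : ℕ) : ℤ) by simpa using h4)))

end Degrees

theorem two_pow_sq_sum {i j n : ℕ} (h : (2 ^ i) ^ 2 + (2 ^ j) ^ 2 = 2 ^ (2 * n + 1)) :
    i = n ∧ j = n := by
  rw [← pow_mul, ← pow_mul] at h
  have key : ∀ a b : ℕ, a < b → 2 ^ (a * 2) + 2 ^ (b * 2) = 2 ^ (2 * n + 1) → False := by
    intro a b hab h
    have h1 : 2 ^ (a * 2) < 2 ^ (2 * n + 1) := by have := Nat.two_pow_pos (b * 2); omega
    have h2 := (Nat.pow_lt_pow_iff_right one_lt_two).mp h1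
    have h3 : 2 ^ (a * 2 + 1) ∣ 2 ^ (b * 2) := pow_dvd_pow 2 (by omega)
    have h4 : 2 ^ (a * 2 + 1) ∣ 2 ^ (2 * n + 1) := pow_dvd_pow 2 (by omega)
    rw [← h, Nat.dvd_add_left h3] at h4
    have h5 := (Nat.pow_dvd_pow_iff_le_right one_lt_two).mp h4
    omega
  rcases lt_trichotomy i j with hij | hij | hij
  · exact (key i j hij h).elim
  · subst hij
    rw [← two_mul, ← pow_succ'] at h
    have := Nat.pow_right_injective le_rfl h
    omega
  · exact (key j i hij (by rw [add_comm]; exact h)).elim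

variable {A B : Subgroup (Sz F (2 ^ (m + 1)))} (hA : IsTorus4 A) (hB : IsTorus4 B)
  (hcA : Nat.card A = Fintype.card F + 2 * rr m + 1)
  (hcB : Nat.card B = Fintype.card F - 2 * rr m + 1)
  (hfA : ∀ a ∈ A, a ≠ 1 → Fpf hF a) (hfB : ∀ b ∈ B, b ≠ 1 → Fpf hF b)
  (hcls : ∀ g, Fpf hF g → ∃ x, x⁻¹ * g * x ∈ A ∨ x⁻¹ * g * x ∈ B)

include hF hm hcA hcB in
theorem card_facts : Nat.card A * Nat.card B = Fintype.card F ^ 2 + 1 ∧
    Nat.card A ≠ Nat.card B ∧ 1 < Nat.card A ∧ 1 < Nat.card B := by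
  obtain ⟨h8, hq, hr, hrq⟩ := arith hF hm
  obtain ⟨z, hz⟩ : ∃ z, Fintype.card F = 2 * rr m + z := ⟨Fintype.card F - 2 * rr m, by omega⟩
  refine ⟨?_, by omega, by omega, by omega⟩
  rw [hcA, hcB, hz, Nat.add_sub_cancel_left]
  nlinarith

include hA hB hcA hcB hfA hfB hcls in
/-- Assembling the table. -/
theorem mk_table (dA : Fam A) (dB : Fam B) (nA : 4 * dA.n + 1 = Nat.card A)
    (nB : 4 * dB.n + 1 = Nat.card B) (W W' : Cfsg.IrrCharacter (Sz F (2 ^ (m + 1)))) (hne : W ≠ W')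
    (hrest : rest hF hm = famSet dA ∪ famSet dB ∪ {W, W'})
    (hAB : ∀ i, dA.X i ∉ famSet dB) (hBA : ∀ j, dB.X j ∉ famSet dA)
    (hWA : W ∉ famSet dA ∧ W' ∉ famSet dA) (hWB : W ∉ famSet dB ∧ W' ∉ famSet dB)
    (eX : ∀ i, eDeg (dA.X i) = Nat.card B) (eY : ∀ j, eDeg (dB.X j) = Nat.card A)
    (eW : eDeg W = rr m ∧ eDeg W' = rr m) (hεA : dA.ε = -1) (hεB : dB.ε = -1)
    (vX : ∀ i, dA.v (dA.X i) = 0 ∧ dB.v (dA.X i) = 0)
    (vY : ∀ j, dB.v (dB.X j) = 0 ∧ dA.v (dB.X j) = 0)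
    (vW : dA.v W = 1 ∧ dA.v W' = 1 ∧ dB.v W = -1 ∧ dB.v W' = -1) :
    Nonempty (Table hF hm) := by
  have hmem : ∀ χ, χ ∈ famSet dA ∪ famSet dB ∪ {W, W'} → χ ∈ rest hF hm := fun χ h => hrest ▸ h
  have hnot : ∀ {C : Subgroup (Sz F (2 ^ (m + 1)))} (d : Fam C) {χ}, χ ∉ famSet d → ∀ i, χ ≠ d.X i :=
    fun d χ h i e => h ((mem_famSet d).mpr ⟨i, e.symm⟩)
  refine ⟨⟨A, B, hA, hB, hcA, hcB, hfA, hfB, hcls, dA, dB, nA, nB, W, W', hne, ?_, ?_, ?_, ?_, ?_,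
    ?_, ?_, ?_, ?_, hrest⟩⟩
  · intro i
    rw [(eDeg_spec hF hm (hmem _ (by simp [mem_famSet]))).2.1, eX, Nat.cast_mul]
  · intro j
    rw [(eDeg_spec hF hm (hmem _ (by simp [mem_famSet]))).2.1, eY, Nat.cast_mul]
  · intro χ hχ
    rw [(eDeg_spec hF hm (hmem _ (Finset.mem_union_right _ hχ))).2.1, Nat.cast_mul]
    rcases Finset.mem_insert.mp hχ with rfl | hχ
    · rw [eW.1]
    · rw [Finset.mem_singleton.mp hχ, eW.2]
  · intro i a ha
    rw [dA.value_X hA i ha, (vX i).1, hεA]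
    simp
  · intro i b hb
    rw [dB.value_of_notMem hB _ (hnot dB (hAB i)) hb, (vX i).2, Int.cast_zero]
  · intro j b hb
    rw [dB.value_X hB j hb, (vY j).1, hεB]
    simp
  · intro j a ha
    rw [dA.value_of_notMem hA _ (hnot dA (hBA j)) ha, (vY j).2, Int.cast_zero]
  · intro χ hχ a ha
    rcases Finset.mem_insert.mp hχ with rfl | hχ
    · rw [dA.value_of_notMem hA _ (hnot dA hWA.1) ha, vW.1, Int.cast_one]
    · rw [Finset.mem_singleton.mp hχ, dA.value_of_notMem hA _ (hnot dA hWA.2) ha, vW.2.1,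
        Int.cast_one]
  · intro χ hχ b hb
    rcases Finset.mem_insert.mp hχ with rfl | hχ
    · rw [dB.value_of_notMem hB _ (hnot dB hWB.1) hb, vW.2.2.1]
      simp
    · rw [Finset.mem_singleton.mp hχ, dB.value_of_notMem hB _ (hnot dB hWB.2) hb, vW.2.2.2]
      simp

end CfsgLib.Suzuki.Chars
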