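import Cfsg.Agent.Lib.Suzuki.Chars.Table

/-!
# The character table for `q ≥ 32`
-/

set_option autoImplicit false

namespace CfsgLib.Suzuki.Chars

open Matrix Cfsg.Lie CfsgLib.SuzukiLaws CfsgLib.Suzuki CfsgLib.Char
open scoped ComplexConjugate

universe u

attribute [local instance] subgroupFintype Classical.propDecidable

variable {F : Type u} [Field F] [Fintype F] [CharP F 2] {m : ℕ}
  (hF : Fintype.card F = 2 ^ (2 * m + 1)) [Fintype (Sz F (2 ^ (m + 1)))] (hm : 1 ≤ m)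

include hF in
/-- A family vanishes on the other torus. -/
theorem zero_cross {C D : Subgroup (Sz F (2 ^ (m + 1)))} (dC : Fam C) (dD : Fam D)
    (hn : 5 ≤ dC.n) (hc : ∀ i j, dD.v (dC.X i) = dD.v (dC.X j))
    (hs : famSet dC ⊆ rest hF hm \ famSet dD)
    (hsum : ∑ χ ∈ rest hF hm \ famSet dD, dD.v χ ^ 2 = 2) (i : Fin dC.n) :
    dD.v (dC.X i) = 0 := by
  have h1 := Finset.sum_le_sum_of_subset_of_nonneg hs (f := fun χ => dD.v χ ^ 2)
    fun _ _ _ => sq_nonneg _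
  rw [hsum, sum_famSet, Finset.sum_congr rfl fun k _ => by rw [hc k i], Finset.sum_const,
    Finset.card_univ, Fintype.card_fin, nsmul_eq_mul] at h1
  by_contra hne'
  have h2 : 1 ≤ dD.v (dC.X i) ^ 2 := (one_le_sq_iff_one_le_abs _).mpr (Int.one_le_abs hne')
  have h3 : (5 : ℤ) ≤ (dC.n : ℤ) := by exact_mod_cast hn
  have h4 : (5 : ℤ) * 1 ≤ (dC.n : ℤ) * dD.v (dC.X i) ^ 2 := mul_le_mul h3 h2 one_pos.le (by omega)
  omega

theorem weighted_sum {n : ℕ} (c : ℕ) (f : Fin n → ℕ) (hf : ∀ i, 0 < f i) :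
    n * c ^ 2 ≤ ∑ i, (f i * c) ^ 2 ∧
      ∀ i, f i ≠ 1 → n * c ^ 2 + 3 * c ^ 2 ≤ ∑ i, (f i * c) ^ 2 := by
  have hpt : ∀ i, c ^ 2 ≤ (f i * c) ^ 2 := fun i =>
    Nat.pow_le_pow_left (Nat.le_mul_of_pos_left c (hf i)) 2
  refine ⟨?_, fun i hi => ?_⟩
  · calc n * c ^ 2 = ∑ _i : Fin n, c ^ 2 := by simp
      _ ≤ _ := Finset.sum_le_sum fun i _ => hpt i
  · rw [← Finset.add_sum_erase _ _ (Finset.mem_univ i)]
    have h1 : (n - 1) * c ^ 2 ≤ ∑ x ∈ Finset.univ.erase i, (f x * c) ^ 2 := by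
      calc (n - 1) * c ^ 2 = ∑ _x ∈ Finset.univ.erase i, c ^ 2 := by simp
        _ ≤ _ := Finset.sum_le_sum fun x _ => hpt x
    have h2 : 4 * c ^ 2 ≤ (f i * c) ^ 2 := by
      have : 2 ≤ f i := by have := hf i; omega
      calc 4 * c ^ 2 = (2 * c) ^ 2 := by ring
        _ ≤ _ := Nat.pow_le_pow_left (Nat.mul_le_mul_right c this) 2
    obtain ⟨n', rfl⟩ : ∃ n', n = n' + 1 := ⟨n - 1, by have := i.isLt; omega⟩
    simp only [Nat.add_sub_cancel] at h1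
    rw [add_mul, one_mul]
    omega

theorem two_units {ι : Type*} {O : Finset ι} {f : ι → ℤ} (hf : ∀ χ ∈ O, f χ ≠ 0)
    (hs : ∑ χ ∈ O, f χ ^ 2 = 2) : O.card = 2 ∧ ∀ χ ∈ O, f χ = 1 ∨ f χ = -1 := by
  have hge : ∀ χ ∈ O, 1 ≤ f χ ^ 2 := fun χ hχ =>
    (one_le_sq_iff_one_le_abs _).mpr (Int.one_le_abs (hf χ hχ))
  have h1 : ∀ χ ∈ O, f χ = 1 ∨ f χ = -1 := fun χ hχ => by
    have h2 := Finset.single_le_sum (f := fun χ => f χ ^ 2) (fun x _ => sq_nonneg (f x)) hχ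
    rw [hs] at h2
    have h3 : -1 ≤ f χ ∧ f χ ≤ 1 := ⟨by nlinarith, by nlinarith⟩
    have := hf χ hχ
    omega
  refine ⟨?_, h1⟩
  rw [Finset.sum_congr rfl fun χ hχ => show f χ ^ 2 = 1 by
    rcases h1 χ hχ with e | e <;> rw [e] <;> norm_num, Finset.sum_const, nsmul_eq_mul, mul_one] at hs
  exact_mod_cast hs

variable {A B : Subgroup (Sz F (2 ^ (m + 1)))} (hA : IsTorus4 A) (hB : IsTorus4 B)
  (hcA : Nat.card A = Fintype.card F + 2 * rr m + 1)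
  (hcB : Nat.card B = Fintype.card F - 2 * rr m + 1)
  (hfA : ∀ a ∈ A, a ≠ 1 → Fpf hF a) (hfB : ∀ b ∈ B, b ≠ 1 → Fpf hF b)
  (hcls : ∀ g, Fpf hF g → ∃ x, x⁻¹ * g * x ∈ A ∨ x⁻¹ * g * x ∈ B)

include hA hB hcA hcB in
theorem others_data (hr4 : 4 ≤ rr m) (dA : Fam A) (dB : Fam B) (hnA : 4 * dA.n + 1 = Nat.card A)
    (hnB : 4 * dB.n + 1 = Nat.card B) (hRA : famSet dA ⊆ rest hF hm)
    (hsub : famSet dB ⊆ rest hF hm \ famSet dA)
    (kX : ∀ i, ∃ k, 0 < k ∧ eDeg (dA.X i) = k * Nat.card B)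
    (kY : ∀ j, ∃ k, 0 < k ∧ eDeg (dB.X j) = k * Nat.card A) :
    (∀ i, eDeg (dA.X i) = Nat.card B) ∧ (∀ j, eDeg (dB.X j) = Nat.card A) ∧
      ∑ χ ∈ (rest hF hm \ famSet dA) \ famSet dB, eDeg χ ^ 2 = Fintype.card F ∧
      ∀ χ ∈ (rest hF hm \ famSet dA) \ famSet dB, eDeg χ < Nat.card B ∧ eDeg χ < Nat.card A := by
  obtain ⟨h8, hq, hr, hrq⟩ := arith hF hm
  choose k hk0 hk using kX
  choose l hl0 hl using kY
  have htot := rest_total hF hm hcA hcB hnA hnB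
  rw [← Finset.sum_sdiff hRA, ← Finset.sum_sdiff hsub, sum_famSet, sum_famSet] at htot
  have htot1 : ∑ i, eDeg (dA.X i) ^ 2 = ∑ i, (k i * Nat.card B) ^ 2 :=
    Finset.sum_congr rfl fun i _ => by rw [hk i]
  rw [htot1] at htot
  have htot2 : ∑ j, eDeg (dB.X j) ^ 2 = ∑ j, (l j * Nat.card A) ^ 2 :=
    Finset.sum_congr rfl fun j _ => by rw [hl j]
  rw [htot2] at htot
  set q := Fintype.card F
  set r := rr m
  have h4r : 4 * r ≤ q := by rw [hq, pow_two, ← mul_assoc]; exact Nat.mul_le_mul_right r (by omega)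
  have hb : q < 2 * Nat.card B := by omega
  have hba : Nat.card B ≤ Nat.card A := by omega
  have hbq : q < 3 * Nat.card B ^ 2 ∧ q < 3 * Nat.card A ^ 2 := by
    have e1 : Nat.card B ≤ Nat.card B ^ 2 := Nat.le_self_pow two_ne_zero _
    have e2 : Nat.card A ≤ Nat.card A ^ 2 := Nat.le_self_pow two_ne_zero _
    omega
  have w1 := weighted_sum (Nat.card B) k hk0
  have w2 := weighted_sum (Nat.card A) l hl0
  have hk1 : ∀ i, k i = 1 := fun i => by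
    by_contra hne'
    have := w1.2 i hne'
    have := w2.1
    omega
  have hl1 : ∀ j, l j = 1 := fun j => by
    by_contra hne'
    have := w1.1
    have := w2.2 j hne'
    omega
  simp only [hk1, hl1, one_mul, Finset.sum_const, Finset.card_univ, Fintype.card_fin, smul_eq_mul]
    at htot
  have hOe : ∑ χ ∈ (rest hF hm \ famSet dA) \ famSet dB, eDeg χ ^ 2 = q := by omega
  refine ⟨fun i => by rw [hk i, hk1 i, one_mul], fun j => by rw [hl j, hl1 j, one_mul], hOe,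
    fun χ hχ => ?_⟩
  have h1 : eDeg χ ^ 2 ≤ q :=
    hOe ▸ Finset.single_le_sum (f := fun χ => eDeg χ ^ 2) (fun _ _ => Nat.zero_le _) hχ
  have h2 : eDeg χ ≤ 2 * r := by
    by_contra h
    have h3 : (2 * r + 1) ^ 2 ≤ eDeg χ ^ 2 := Nat.pow_le_pow_left (by omega) 2
    have h5 : (2 * r + 1) ^ 2 = 2 * (2 * r ^ 2) + 4 * r + 1 := by ring
    omega
  omega

include hA hB hcA hcB hfA hfB hcls in
theorem exists_table_large (hr4 : 4 ≤ rr m) : Nonempty (Table hF hm) := by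
  obtain ⟨h8, hq, hr, hrq⟩ := arith hF hm
  obtain ⟨hAB, hne, hA1, hB1⟩ := card_facts hF hm hcA hcB
  obtain ⟨dA, hnA⟩ := exists_fam hA hA1
  obtain ⟨dB, hnB⟩ := exists_fam hB hB1
  have h4r : 8 * rr m ≤ Fintype.card F := by
    rw [hq, pow_two, ← mul_assoc]; exact Nat.mul_le_mul_right _ (by omega)
  have hn5 : 5 ≤ dA.n ∧ 5 ≤ dB.n := ⟨by omega, by omega⟩
  have hRA := famSet_subset hF hm hA hfA dA (by omega)
  have hRB := famSet_subset hF hm hB hfB dB (by omega)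
  have hdis : ∀ i, dA.X i ∉ famSet dB := fun i h => by
    obtain ⟨k, hk⟩ := (mem_famSet dB).mp h
    exact fam_disjoint hA hB hne dA dB (by omega) (by omega) i k hk.symm
  have hdis' : ∀ j, dB.X j ∉ famSet dA := fun j h => by
    obtain ⟨i, hi⟩ := (mem_famSet dA).mp h
    exact fam_disjoint hA hB hne dA dB (by omega) (by omega) i j hi
  obtain ⟨hvA, hsA⟩ := large_data hF hm hA hfA dA hn5.1 hA1
  obtain ⟨hvB, hsB⟩ := large_data hF hm hB hfB dB hn5.2 hB1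
  have hsub : famSet dB ⊆ rest hF hm \ famSet dA := fun χ hχ => by
    obtain ⟨j, rfl⟩ := (mem_famSet dB).mp hχ
    exact Finset.mem_sdiff.mpr ⟨hRB hχ, hdis' j⟩
  have hsub' : famSet dA ⊆ rest hF hm \ famSet dB := fun χ hχ => by
    obtain ⟨i, rfl⟩ := (mem_famSet dA).mp hχ
    exact Finset.mem_sdiff.mpr ⟨hRA hχ, hdis i⟩
  have hAxB := zero_cross hF hm dA dB hn5.1 (cross_const hA hB hne dA dB hdis hB1) hsub' hsB
  have hBxA := zero_cross hF hm dB dA hn5.2 (cross_const hB hA hne.symm dB dA hdis' hA1) hsub hsA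
  have hdA : Nat.card A ∣ Fintype.card F ^ 2 + 1 := hAB ▸ dvd_mul_right _ _
  have hdB : Nat.card B ∣ Fintype.card F ^ 2 + 1 := hAB ▸ dvd_mul_left _ _
  obtain ⟨heX, heY, hOe, hsmall⟩ := others_data hF hm hA hB hcA hcB hr4 dA dB hnA hnB hRA hsub
    (fun i => by
      have hi : dA.X i ∈ rest hF hm := hRA ((mem_famSet dA).mpr ⟨i, rfl⟩)
      obtain ⟨k, hk⟩ := card_dvd_eDeg hF hm hB dB hdB hi (hdis i) (hAxB i)
      exact ⟨k, Nat.pos_of_ne_zero fun h => (eDeg_spec hF hm hi).1.ne' (by rw [hk, h, mul_zero]),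
        by rw [hk, mul_comm]⟩)
    (fun j => by
      have hj : dB.X j ∈ rest hF hm := hRB ((mem_famSet dB).mpr ⟨j, rfl⟩)
      obtain ⟨k, hk⟩ := card_dvd_eDeg hF hm hA dA hdA hj (hdis' j) (hBxA j)
      exact ⟨k, Nat.pos_of_ne_zero fun h => (eDeg_spec hF hm hj).1.ne' (by rw [hk, h, mul_zero]),
        by rw [hk, mul_comm]⟩)
  set O := (rest hF hm \ famSet dA) \ famSet dB with hO
  have hOmem : ∀ χ ∈ O, χ ∈ rest hF hm ∧ χ ∉ famSet dA ∧ χ ∉ famSet dB := fun χ hχ => by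
    simp only [hO, Finset.mem_sdiff] at hχ
    exact ⟨hχ.1.1, hχ.1.2, hχ.2⟩
  have hO2 : (rest hF hm \ famSet dB) \ famSet dA = O := by
    rw [hO, sdiff_sdiff_comm]
  have hA2 : ∑ χ ∈ O, dA.v χ ^ 2 = 2 := by
    have h := hsA
    have hz : ∑ j, dA.v (dB.X j) ^ 2 = 0 := Finset.sum_eq_zero fun j _ => by rw [hBxA j]; rfl
    rw [← Finset.sum_sdiff hsub, sum_famSet, hz, add_zero, ← hO] at h
    exact h
  have hB2 : ∑ χ ∈ O, dB.v χ ^ 2 = 2 := by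
    have h := hsB
    have hz : ∑ i, dB.v (dA.X i) ^ 2 = 0 := Finset.sum_eq_zero fun i _ => by rw [hAxB i]; rfl
    rw [← Finset.sum_sdiff hsub', hO2, sum_famSet, hz, add_zero] at h
    exact h
  obtain ⟨hcard, hA1'⟩ := two_units (fun χ hχ h0 => absurd
    (Nat.le_of_dvd (eDeg_spec hF hm (hOmem χ hχ).1).1
      (card_dvd_eDeg hF hm hA dA hdA (hOmem χ hχ).1 (hOmem χ hχ).2.1 h0))
    (not_le.mpr (hsmall χ hχ).2)) hA2
  obtain ⟨-, hB1'⟩ := two_units (fun χ hχ h0 => absurd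
    (Nat.le_of_dvd (eDeg_spec hF hm (hOmem χ hχ).1).1
      (card_dvd_eDeg hF hm hB dB hdB (hOmem χ hχ).1 (hOmem χ hχ).2.2 h0))
    (not_le.mpr (hsmall χ hχ).1)) hB2
  obtain ⟨W, W', hWW, hOW⟩ := Finset.card_eq_two.mp hcard
  have hW : W ∈ O ∧ W' ∈ O := by simp [hOW]
  have hpow : ∀ χ ∈ O, ∃ i, eDeg χ = 2 ^ i := fun χ hχ => by
    have sq1 : ∀ z : ℤ, (z = 1 ∨ z = -1) → z ^ 2 = 1 := fun z hz => by
      rcases hz with e | e <;> rw [e] <;> norm_num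
    have h1 := coprime_of_unit hF hm hA dA (hOmem χ hχ).1 (hOmem χ hχ).2.1 (sq1 _ (hA1' χ hχ))
    have h2 := coprime_of_unit hF hm hB dB (hOmem χ hχ).1 (hOmem χ hχ).2.2 (sq1 _ (hB1' χ hχ))
    have h3 : eDeg χ ∣ Fintype.card F ^ 2 := by
      refine Nat.Coprime.dvd_of_dvd_mul_right ?_ (eDeg_spec hF hm (hOmem χ hχ).1).2.2
      rw [← hAB]
      exact h1.mul_right h2
    rw [hF, ← pow_mul] at h3
    obtain ⟨i, -, hi⟩ := (Nat.dvd_prime_pow Nat.prime_two).mp h3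
    exact ⟨i, hi⟩
  obtain ⟨i, hi⟩ := hpow W hW.1
  obtain ⟨j, hj⟩ := hpow W' hW.2
  have heW : eDeg W = rr m ∧ eDeg W' = rr m := by
    rw [hOW, Finset.sum_pair hWW, hi, hj, hF] at hOe
    obtain ⟨e1, e2⟩ := two_pow_sq_sum hOe
    rw [hi, hj, e1, e2]
    exact ⟨rfl, rfl⟩
  have hdegA := deg_split hF hm hA hfA dA (by omega) hA1 hvA
  have hdegB := deg_split hF hm hB hfB dB (by omega) hB1 hvB
  have hzA : ∑ j, dA.v (dB.X j) * (eDeg (dB.X j) : ℤ) = 0 :=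
    Finset.sum_eq_zero fun j _ => by rw [hBxA j, zero_mul]
  have hzB : ∑ i, dB.v (dA.X i) * (eDeg (dA.X i) : ℤ) = 0 :=
    Finset.sum_eq_zero fun i _ => by rw [hAxB i, zero_mul]
  rw [← Finset.sum_sdiff hsub, sum_famSet, hzA, add_zero,
    ← hO, hOW, Finset.sum_pair hWW, heW.1, heW.2, heX, hcB, Nat.cast_add,
    Nat.cast_sub (by omega)] at hdegA
  rw [← Finset.sum_sdiff hsub', hO2, sum_famSet, hzB, add_zero,
    hOW, Finset.sum_pair hWW, heW.1, heW.2, heY, hcA] at hdegB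
  push_cast at hdegA hdegB
  have hr' : (4 : ℤ) ≤ rr m := by exact_mod_cast hr4
  have hq' : (8 : ℤ) * rr m ≤ Fintype.card F := by exact_mod_cast h4r
  have resA : dA.ε = -1 ∧ dA.v W = 1 ∧ dA.v W' = 1 := by
    rcases hA1' W hW.1 with e1 | e1 <;> rcases hA1' W' hW.2 with e2 | e2 <;>
      rcases dA.ε_eq with e3 | e3 <;> rw [e1, e2, e3] at hdegA <;>
      first | exact ⟨e3, e1, e2⟩ | (exfalso; omega)
  have resB : dB.ε = -1 ∧ dB.v W = -1 ∧ dB.v W' = -1 := by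
    rcases hB1' W hW.1 with e1 | e1 <;> rcases hB1' W' hW.2 with e2 | e2 <;>
      rcases dB.ε_eq with e3 | e3 <;> rw [e1, e2, e3] at hdegB <;>
      first | exact ⟨e3, e1, e2⟩ | (exfalso; omega)
  refine mk_table hF hm hA hB hcA hcB hfA hfB hcls dA dB hnA hnB W W' hWW ?_ hdis hdis'
    ⟨(hOmem W hW.1).2.1, (hOmem W' hW.2).2.1⟩ ⟨(hOmem W hW.1).2.2, (hOmem W' hW.2).2.2⟩
    heX heY heW resA.1 resB.1 (fun i => ⟨(dA.X_v_eq hA i).1.trans hvA, hAxB i⟩)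
    (fun j => ⟨(dB.X_v_eq hB j).1.trans hvB, hBxA j⟩) ⟨resA.2.1, resA.2.2, resB.2.1, resB.2.2⟩
  ext χ
  have hc : χ ∈ O ↔ χ ∈ ({W, W'} : Finset _) := by rw [hOW]
  simp only [Finset.mem_union, ← hc, hO, Finset.mem_sdiff]
  constructor
  · intro h; tauto
  · rintro ((h | h) | h)
    · exact hRA h
    · exact hRB h
    · exact h.1.1

end CfsgLib.Suzuki.Chars
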