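import Cfsg.Agent.Lib.Suzuki.Chars.TableLarge

/-!
# The character table of `Sz(8)`, and the general existence theorem
-/

set_option autoImplicit false

namespace CfsgLib.Suzuki.Chars

open Matrix Cfsg.Lie CfsgLib.SuzukiLaws CfsgLib.Suzuki CfsgLib.Char
open scoped ComplexConjugate

universe u

attribute [local instance] subgroupFintype Classical.propDecidable

theorem eight_divisors {e : ℕ} (he : e ∣ 4160) (h : e ≤ 15) :
    e = 1 ∨ e = 2 ∨ e = 4 ∨ e = 5 ∨ e = 8 ∨ e = 10 ∨ e = 13 := by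
  revert he
  interval_cases e <;> decide

theorem small_other {e : ℕ} (he : e = 1 ∨ e = 2 ∨ e = 4 ∨ e = 5 ∨ e = 8 ∨ e = 10 ∨ e = 13)
    {v z : ℤ} (hv : -1 ≤ v ∧ v ≤ 1) (hz : 7 * (e : ℤ) = v + 13 * z) :
    (e = 2 ∧ v = 1) ∨ (e = 13 ∧ v = 0) := by
  omega

theorem small_lead {e : ℕ} (he : e = 1 ∨ e = 2 ∨ e = 4 ∨ e = 5 ∨ e = 8 ∨ e = 10 ∨ e = 13)
    {v ε z : ℤ} {c2 c13 : ℕ} (hε : ε = 1 ∨ ε = -1) (hz : 7 * (e : ℤ) = v + 13 * z + 4 * ε)
    (hsq : 2 * v ^ 2 + (v - ε) ^ 2 + c2 = 3) (htot : 3 * e ^ 2 + (4 * c2 + 169 * c13) = 252) :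
    v = 0 ∧ ε = -1 ∧ e = 5 ∧ c2 = 2 ∧ c13 = 1 := by
  have hc : c2 ≤ 3 := by
    have := sq_nonneg v
    have := sq_nonneg (v - ε)
    omega
  have he5 : e = 5 ∧ c13 = 1 ∧ c2 = 2 := by
    rcases he with rfl | rfl | rfl | rfl | rfl | rfl | rfl <;> norm_num at htot <;> omega
  obtain ⟨rfl, rfl, rfl⟩ := he5
  push_cast at hsq hz
  have hv0 : v = 0 := by
    have h : v ^ 2 = 0 := by
      have h1 := sq_nonneg v
      have h2 := sq_nonneg (v - ε)
      have : v ^ 2 ≤ 0 := by omega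
      omega
    exact pow_eq_zero_iff two_ne_zero |>.mp h
  refine ⟨hv0, ?_, rfl, rfl, rfl⟩
  omega

theorem small_cross {a b c d za zb zc zd : ℤ}
    (h : 3 * a ^ 2 + (d + 1) ^ 2 + b ^ 2 + c ^ 2 = 3) (ha : 35 = a + za * 5)
    (hb : 14 = b + zb * 5) (hc : 14 = c + zc * 5) (hd : 91 = d + zd * 5 - 4) :
    a = 0 ∧ b = -1 ∧ c = -1 ∧ d = 0 := by
  have h1 := sq_nonneg a
  have h2 := sq_nonneg b
  have h3 := sq_nonneg c
  have h4 := sq_nonneg (d + 1)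
  have ra : -1 ≤ a ∧ a ≤ 1 := ⟨by nlinarith, by nlinarith⟩
  obtain rfl : a = 0 := by omega
  have rb : -1 ≤ b ∧ b ≤ 1 := ⟨by nlinarith, by nlinarith⟩
  have rc : -1 ≤ c ∧ c ≤ 1 := ⟨by nlinarith, by nlinarith⟩
  obtain rfl : b = -1 := by omega
  obtain rfl : c = -1 := by omega
  have rd : -2 ≤ d ∧ d ≤ 0 := ⟨by nlinarith, by nlinarith⟩
  obtain rfl : d = 0 := by omega
  exact ⟨rfl, rfl, rfl, rfl⟩

variable {F : Type u} [Field F] [Fintype F] [CharP F 2] {m : ℕ}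
  (hF : Fintype.card F = 2 ^ (2 * m + 1)) [Fintype (Sz F (2 ^ (m + 1)))] (hm : 1 ≤ m)

variable {A B : Subgroup (Sz F (2 ^ (m + 1)))} (hA : IsTorus4 A) (hB : IsTorus4 B)
  (hcA : Nat.card A = Fintype.card F + 2 * rr m + 1)
  (hcB : Nat.card B = Fintype.card F - 2 * rr m + 1)
  (hfA : ∀ a ∈ A, a ≠ 1 → Fpf hF a) (hfB : ∀ b ∈ B, b ≠ 1 → Fpf hF b)
  (hcls : ∀ g, Fpf hF g → ∃ x, x⁻¹ * g * x ∈ A ∨ x⁻¹ * g * x ∈ B)

include hA hcA hfA hB hcB in
/-- The side of the larger torus, for `q = 8`. -/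
theorem small_side (dA : Fam A) (hn3 : dA.n = 3) (hq8 : Fintype.card F = 8) (hA13 : Nat.card A = 13)
    (hB5 : Nat.card B = 5) :
    dA.ε = -1 ∧ dA.v (dA.X dA.i₀) = 0 ∧ eDeg (dA.X dA.i₀) = 5 ∧
    ∃ Y W W', W ≠ W' ∧
      (Y ∈ rest hF hm ∧ Y ∉ famSet dA ∧ eDeg Y = 13 ∧ dA.v Y = 0) ∧
      (W ∈ rest hF hm ∧ W ∉ famSet dA ∧ eDeg W = 2 ∧ dA.v W = 1) ∧
      (W' ∈ rest hF hm ∧ W' ∉ famSet dA ∧ eDeg W' = 2 ∧ dA.v W' = 1) ∧
      rest hF hm = famSet dA ∪ {Y} ∪ {W, W'} := by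
  obtain ⟨h8, hq, -, -⟩ := arith hF hm
  have hA1 : 1 < Nat.card A := by omega
  have hRA := famSet_subset hF hm hA hfA dA (by omega)
  have htot := rest_total hF hm hcA hcB (na := 3) (nb := 1) (by omega) (by omega)
  rw [hA13, hB5, hq8] at htot
  norm_num at htot
  have hsq := sq_split hF hm hA hfA dA (by omega) hA1
  rw [hn3] at hsq
  push_cast at hsq
  norm_num at hsq
  have hdiv : ∀ χ ∈ rest hF hm, eDeg χ ∣ 4160 := fun χ hχ => by
    have h := (eDeg_spec hF hm hχ).2.2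
    rw [hq8] at h
    exact h
  have hle : ∀ χ ∈ rest hF hm, eDeg χ ≤ 15 := fun χ hχ => by
    have h1 := Finset.single_le_sum (f := fun χ => eDeg χ ^ 2) (fun _ _ => Nat.zero_le _) hχ
    rw [htot] at h1
    by_contra h
    have h2 : 16 ^ 2 ≤ eDeg χ ^ 2 := Nat.pow_le_pow_left (by omega) 2
    omega
  have hoth : ∀ χ ∈ rest hF hm \ famSet dA,
      (eDeg χ = 2 ∧ dA.v χ = 1) ∨ (eDeg χ = 13 ∧ dA.v χ = 0) := by
    intro χ hχ
    have hs := Finset.single_le_sum (f := fun χ => dA.v χ ^ 2) (fun x _ => sq_nonneg (dA.v x)) hχ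
    obtain ⟨h1, h2⟩ := Finset.mem_sdiff.mp hχ
    obtain ⟨z, hz⟩ := eDeg_congr hF hA dA hm h1
    rw [if_neg (fun ⟨i, e⟩ => h2 ((mem_famSet dA).mpr ⟨i, e.symm⟩)), hq8, hA13, mul_zero,
      add_zero] at hz
    push_cast at hz
    have hv : dA.v χ ^ 2 ≤ 3 := by
      have := sq_nonneg (dA.v (dA.X dA.i₀))
      have := sq_nonneg (dA.v (dA.X dA.i₀) - dA.ε)
      omega
    exact small_other (eight_divisors (hdiv χ h1) (hle χ h1))
      ⟨by nlinarith, by nlinarith⟩ (z := z) (by omega)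
  have hX0 : dA.X dA.i₀ ∈ rest hF hm := hRA ((mem_famSet dA).mpr ⟨_, rfl⟩)
  obtain ⟨z0, hz0⟩ := eDeg_congr hF hA dA hm hX0
  rw [if_pos ⟨_, rfl⟩, hq8, hA13, mul_one] at hz0
  push_cast at hz0
  have heq : ∀ i, eDeg (dA.X i) = eDeg (dA.X dA.i₀) := fun i => by
    unfold eDeg Cfsg.charDegree
    rw [(dA.X_v_eq hA i).2]
  have hsX : ∑ i, eDeg (dA.X i) ^ 2 = 3 * eDeg (dA.X dA.i₀) ^ 2 := by
    rw [Finset.sum_congr (g := fun _ => eDeg (dA.X dA.i₀) ^ 2) rfl fun i _ => by rw [heq i],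
      Finset.sum_const, Finset.card_univ, Fintype.card_fin, hn3, smul_eq_mul]
  rw [← Finset.sum_sdiff hRA, sum_famSet, hsX] at htot
  set S2 := (rest hF hm \ famSet dA).filter fun χ => eDeg χ = 2 with hS2
  set S13 := (rest hF hm \ famSet dA).filter fun χ => eDeg χ = 13 with hS13
  have hsplit : rest hF hm \ famSet dA = S2 ∪ S13 := by
    ext χ
    simp only [hS2, hS13, Finset.mem_union, Finset.mem_filter]
    constructor
    · intro h
      rcases hoth χ h with e | e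
      · exact Or.inl ⟨h, e.1⟩
      · exact Or.inr ⟨h, e.1⟩
    · rintro (h | h) <;> exact h.1
  have hdisj : Disjoint S2 S13 := by
    rw [Finset.disjoint_left]
    intro χ h h'
    have e := (Finset.mem_filter.mp h).2
    have e' := (Finset.mem_filter.mp h').2
    omega
  have hm2 : ∀ χ ∈ S2, χ ∈ rest hF hm ∧ χ ∉ famSet dA ∧ eDeg χ = 2 ∧ dA.v χ = 1 := fun χ hχ => by
    obtain ⟨h1, h2⟩ := Finset.mem_filter.mp hχ
    rcases hoth χ h1 with e | e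
    · exact ⟨(Finset.mem_sdiff.mp h1).1, (Finset.mem_sdiff.mp h1).2, e⟩
    · omega
  have hm13 : ∀ χ ∈ S13, χ ∈ rest hF hm ∧ χ ∉ famSet dA ∧ eDeg χ = 13 ∧ dA.v χ = 0 := fun χ hχ => by
    obtain ⟨h1, h2⟩ := Finset.mem_filter.mp hχ
    rcases hoth χ h1 with e | e
    · omega
    · exact ⟨(Finset.mem_sdiff.mp h1).1, (Finset.mem_sdiff.mp h1).2, e⟩
  have he2 : ∑ χ ∈ S2, eDeg χ ^ 2 = S2.card * 4 :=
    Finset.sum_const_nat fun χ hχ => by rw [(hm2 χ hχ).2.2.1]; rfl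
  have he13 : ∑ χ ∈ S13, eDeg χ ^ 2 = S13.card * 169 :=
    Finset.sum_const_nat fun χ hχ => by rw [(hm13 χ hχ).2.2.1]; rfl
  have hv2 : ∑ χ ∈ S2, dA.v χ ^ 2 = (S2.card : ℤ) := by
    rw [Finset.sum_congr rfl fun χ hχ => show dA.v χ ^ 2 = 1 by rw [(hm2 χ hχ).2.2.2]; rfl,
      Finset.sum_const, nsmul_eq_mul, mul_one]
  have hv13 : ∑ χ ∈ S13, dA.v χ ^ 2 = 0 :=
    Finset.sum_eq_zero fun χ hχ => by rw [(hm13 χ hχ).2.2.2]; rfl
  rw [hsplit, Finset.sum_union hdisj, he2, he13] at htot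
  rw [hsplit, Finset.sum_union hdisj, hv2, hv13, add_zero] at hsq
  obtain ⟨hvA, hεA, heA, hc2, hc13⟩ := small_lead (eight_divisors (hdiv _ hX0) (hle _ hX0))
    dA.ε_eq (z := z0) (c2 := S2.card) (c13 := S13.card) (v := dA.v (dA.X dA.i₀)) (by omega)
    (by omega) (by omega)
  obtain ⟨Y, hY⟩ := Finset.card_eq_one.mp hc13
  obtain ⟨W, W', hWW, hW2⟩ := Finset.card_eq_two.mp hc2
  refine ⟨hεA, hvA, heA, Y, W, W', hWW, hm13 Y (by simp [hY]), hm2 W (by simp [hW2]),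
    hm2 W' (by simp [hW2]), ?_⟩
  rw [← hY, ← hW2, Finset.union_assoc, Finset.union_comm S13, ← hsplit,
    Finset.union_sdiff_of_subset hRA]

include hA hB hcA hcB hfA hfB hcls in
theorem exists_table_small (hr2 : rr m = 2) : Nonempty (Table hF hm) := by
  obtain ⟨h8, hq, -, -⟩ := arith hF hm
  have hq8 : Fintype.card F = 8 := by rw [hq, hr2]; norm_num
  obtain ⟨hAB, hne, hA1, hB1⟩ := card_facts hF hm hcA hcB
  have hA13 : Nat.card A = 13 := by omega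
  have hB5 : Nat.card B = 5 := by omega
  obtain ⟨dA, hnA⟩ := exists_fam hA hA1
  obtain ⟨dB₀, hnB⟩ := exists_fam hB hB1
  have hn3 : dA.n = 3 := by omega
  have hn1 : dB₀.n = 1 := by omega
  obtain ⟨hεA, hvA, heA, Y, W, W', hWW, hYm, hWm, hWm', hrest₀⟩ :=
    small_side hF hm hA hB hcA hcB hfA dA hn3 hq8 hA13 hB5
  have heq : ∀ i, eDeg (dA.X i) = eDeg (dA.X dA.i₀) := fun i => by
    unfold eDeg Cfsg.charDegree
    rw [(dA.X_v_eq hA i).2]
  have hX0 : dA.X dA.i₀ ∈ rest hF hm := by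
    rw [hrest₀]
    exact Finset.mem_union_left _ (Finset.mem_union_left _ ((mem_famSet dA).mpr ⟨_, rfl⟩))
  have hsing : ∀ i j : Fin dB₀.n, i = j := fun i j => Fin.ext (by
    have := i.isLt; have := j.isLt; omega)
  let dB : Fam B :=
    { dB₀ with
      ε := -1
      ε_eq := Or.inr rfl
      X := fun _ => Y
      X_inj := fun i j _ => hsing i j
      ind_sub := fun i => by
        rw [hsing i dB₀.i₀, sub_self, smul_zero]
        simp only [sub_self]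
        exact indFun_zero B }
  have hfB' : famSet dB = {Y} := by
    ext χ
    rw [mem_famSet, Finset.mem_singleton]
    exact ⟨fun ⟨_, h⟩ => h.symm, fun h => ⟨dB₀.i₀, h.symm⟩⟩
  have hYA : ∀ i, dA.X i ≠ Y := fun i e => hYm.2.1 ((mem_famSet dA).mpr ⟨i, e⟩)
  have hAB' : ∀ i, dA.X i ∉ famSet dB := fun i => by
    rw [hfB', Finset.mem_singleton]; exact hYA i
  have hWY : W ≠ Y ∧ W' ≠ Y :=
    ⟨fun e => by have := hWm.2.2.1; rw [e, hYm.2.2.1] at this; omega,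
     fun e => by have := hWm'.2.2.1; rw [e, hYm.2.2.1] at this; omega⟩
  have hrest : rest hF hm = famSet dA ∪ famSet dB ∪ {W, W'} := by
    rw [hfB', hrest₀]
  have hcoefB := coef_sq_rest hF hB hfB dB hm (fun _ => hYm.1) hB1
  have hcB' := cross_const hA hB hne dA dB hAB' hB1
  rw [hrest, Finset.sum_union, Finset.sum_union, hfB', Finset.sum_singleton, Finset.sum_pair hWW,
    sum_famSet] at hcoefB
  · have hX : ∀ i, dB.coef (dA.X i) = dB.v (dA.X dA.i₀) := fun i => by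
      rw [coef_eq_v dB (hAB' i)]; exact hcB' i dA.i₀
    rw [Finset.sum_congr rfl fun i _ => by rw [hX i], Finset.sum_const, Finset.card_univ,
      Fintype.card_fin, hn3, coef_eq_v dB (χ := W) (by simpa [hfB'] using hWY.1),
      coef_eq_v dB (χ := W') (by simpa [hfB'] using hWY.2), nsmul_eq_mul] at hcoefB
    have hYc : dB.coef Y = dB.v Y + 1 := by
      rw [Fam.coef, if_pos (show Y = dB.X dB.i₀ from rfl)]
      show dB.v Y - (-1) * 1 = _
      ring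
    rw [hYc] at hcoefB
    push_cast at hcoefB
    obtain ⟨zX, hzX⟩ := eDeg_congr hF hB dB hm hX0
    obtain ⟨zW, hzW⟩ := eDeg_congr hF hB dB hm hWm.1
    obtain ⟨zW', hzW'⟩ := eDeg_congr hF hB dB hm hWm'.1
    obtain ⟨zY, hzY⟩ := eDeg_congr hF hB dB hm hYm.1
    rw [if_neg (fun ⟨_, e⟩ => hYA _ e), heA, hq8, hB5, mul_zero, add_zero] at hzX
    rw [if_neg (fun ⟨_, e⟩ => hWY.1 e), hWm.2.2.1, hq8, hB5, mul_zero, add_zero] at hzW
    rw [if_neg (fun ⟨_, e⟩ => hWY.2 e), hWm'.2.2.1, hq8, hB5, mul_zero, add_zero] at hzW'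
    rw [if_pos ⟨dB₀.i₀, rfl⟩, hYm.2.2.1, hq8, hB5, show dB.ε = -1 from rfl] at hzY
    push_cast at hzX hzW hzW' hzY
    obtain ⟨vX, vW, vW', vY⟩ := small_cross (a := dB.v (dA.X dA.i₀)) (b := dB.v W)
      (c := dB.v W') (d := dB.v Y) (za := zX) (zb := zW) (zc := zW') (zd := zY)
      (by linarith) (by linarith) (by linarith) (by linarith) (by linarith)
    refine mk_table hF hm hA hB hcA hcB hfA hfB hcls dA dB hnA hnB W W' hWW hrest hAB'
      (fun _ => hYm.2.1) ⟨hWm.2.1, hWm'.2.1⟩ ?_ (fun i => by rw [heq i, heA, hB5])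
      (fun _ => by rw [hA13]; exact hYm.2.2.1) (by rw [hr2]; exact ⟨hWm.2.2.1, hWm'.2.2.1⟩)
      hεA rfl (fun i => ⟨(dA.X_v_eq hA i).1.trans hvA, (hcB' i dA.i₀).trans vX⟩)
      (fun _ => ⟨vY, hYm.2.2.2⟩) ⟨hWm.2.2.2, hWm'.2.2.2, vW, vW'⟩
    exact ⟨by simpa [hfB'] using hWY.1, by simpa [hfB'] using hWY.2⟩
  · rw [hfB', Finset.disjoint_singleton_right]
    exact hYm.2.1
  · rw [Finset.disjoint_left]
    intro χ h1 h2
    rw [Finset.mem_union, hfB', Finset.mem_singleton] at h1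
    rcases Finset.mem_insert.mp h2 with e | h2
    · subst e; exact h1.elim hWm.2.1 hWY.1
    · obtain rfl := Finset.mem_singleton.mp h2
      exact h1.elim hWm'.2.1 hWY.2

/-- The character table exists. -/
theorem exists_table : Nonempty (Table hF hm) := by
  obtain ⟨A, B, hA, hB, hcA, hcB, hfA, hfB, hcls⟩ := exists_tori4 hF hm
  by_cases h : 4 ≤ rr m
  · exact exists_table_large hF hm hA hB hcA hcB hfA hfB hcls h
  · refine exists_table_small hF hm hA hB hcA hcB hfA hfB hcls ?_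
    rcases Nat.lt_or_ge m 2 with h2 | h2
    · rw [show m = 1 by omega]; rfl
    · exfalso
      exact h (le_trans (by norm_num) (Nat.pow_le_pow_right two_pos h2 : 2 ^ 2 ≤ 2 ^ m))

end CfsgLib.Suzuki.Chars
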