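import Cfsg.Agent.Lib.Suzuki.Chars.TableSmall
import Cfsg.Agent.Lib.Suzuki.Facts
import Cfsg.Agent.Lib.Char.PermLemma

/-!
# The character table of the Suzuki groups at the unipotent elements

* `orb_re`, `sum_orb_A`, `sum_orb_sq_A` (and the same for the smaller torus);
* `inv_values`: values at the involutions `U 0 b`;
* `four_values`: values at the elements `U a b`, `a ≠ 0`, of order four.
-/

set_option autoImplicit false

namespace CfsgLib.Suzuki.Chars

open Matrix Cfsg.Lie CfsgLib.SuzukiLaws CfsgLib.Suzuki CfsgLib.Char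
open scoped ComplexConjugate

universe u

attribute [local instance] subgroupFintype Classical.propDecidable

variable {F : Type u} [Field F] [Fintype F] [CharP F 2] {m : ℕ}
  {hF : Fintype.card F = 2 ^ (2 * m + 1)} [Fintype (Sz F (2 ^ (m + 1)))] {hm : 1 ≤ m}

namespace Table

variable (t : Table hF hm)

local notation "𝕢" => ((Fintype.card F : ℕ) : ℂ)
local notation "𝕣" => ((rr m : ℕ) : ℂ)

include t in
theorem q_eq : 𝕢 = 2 * 𝕣 ^ 2 := by
  rw [card_eq hF]; push_cast; rfl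

include t in
theorem q_sub_one : ((Fintype.card F - 1 : ℕ) : ℂ) = 2 * 𝕣 ^ 2 - 1 := by
  have h := eight_le_q hF hm
  rw [Nat.cast_sub (by omega), t.q_eq, Nat.cast_one]

theorem cardA' : (Nat.card t.A : ℂ) = 2 * 𝕣 ^ 2 + 2 * 𝕣 + 1 := by
  rw [t.cardA]; push_cast; rw [t.q_eq]

theorem cardB' : (Nat.card t.B : ℂ) = 2 * 𝕣 ^ 2 - 2 * 𝕣 + 1 := by
  obtain ⟨-, -, -, h⟩ := arith hF hm
  have h2 : Nat.card t.B + 2 * rr m = Fintype.card F + 1 := by rw [t.cardB]; omega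
  have h3 : ((Nat.card t.B + 2 * rr m : ℕ) : ℂ) = ((Fintype.card F + 1 : ℕ) : ℂ) := by rw [h2]
  push_cast at h3
  linear_combination h3 + t.q_eq

theorem nA' : 4 * (t.dA.n : ℂ) = 2 * 𝕣 ^ 2 + 2 * 𝕣 := by
  have h : ((4 * t.dA.n + 1 : ℕ) : ℂ) = (Nat.card t.A : ℂ) := by rw [t.nA]
  push_cast at h
  linear_combination h + t.cardA'

theorem nB' : 4 * (t.dB.n : ℂ) = 2 * 𝕣 ^ 2 - 2 * 𝕣 := by
  have h : ((4 * t.dB.n + 1 : ℕ) : ℂ) = (Nat.card t.B : ℂ) := by rw [t.nB]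
  push_cast at h
  linear_combination h + t.cardB'

theorem deg_ne : Nat.card t.A ≠ Nat.card t.B ∧ Nat.card t.A ≠ rr m ∧ Nat.card t.B ≠ rr m ∧
    1 < Nat.card t.A ∧ 1 < Nat.card t.B := by
  obtain ⟨-, h2, h3, h4⟩ := card_facts hF hm t.cardA t.cardB
  obtain ⟨-, hq, hr, hrq⟩ := arith hF hm
  have : 3 * rr m ≤ Fintype.card F := by rw [hq]; nlinarith
  refine ⟨h2, ?_, ?_, h3, h4⟩ <;> simp only [t.cardA, t.cardB] <;> omega

include t in
theorem eq_of_deg {a b : ℕ} (h : (((Fintype.card F - 1) * a : ℕ) : ℂ) =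
    (((Fintype.card F - 1) * b : ℕ) : ℂ)) : a = b := by
  have := eight_le_q hF hm
  exact Nat.eq_of_mul_eq_mul_left (show 0 < Fintype.card F - 1 by omega) (by exact_mod_cast h)

/-- The remaining characters, listed. -/
theorem sum_rest {M : Type*} [AddCommMonoid M] (f : Cfsg.IrrCharacter (Sz F (2 ^ (m + 1))) → M) :
    ∑ χ ∈ rest hF hm, f χ =
      ∑ i, f (t.dA.X i) + ∑ j, f (t.dB.X j) + (f t.W + f t.W') := by
  obtain ⟨hne, hA, hB, -, -⟩ := t.deg_ne
  have d1 : Disjoint (Finset.univ.image t.dA.X) (Finset.univ.image t.dB.X) := by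
    rw [Finset.disjoint_left]
    intro χ h h'
    obtain ⟨i, -, rfl⟩ := Finset.mem_image.mp h
    obtain ⟨j, -, e⟩ := Finset.mem_image.mp h'
    have h2 := t.Y_deg j
    rw [e, t.X_deg i] at h2
    exact hne (t.eq_of_deg h2).symm
  have d2 : Disjoint (Finset.univ.image t.dA.X ∪ Finset.univ.image t.dB.X) {t.W, t.W'} := by
    rw [Finset.disjoint_left]
    intro χ h h'
    have hw := t.W_deg χ h'
    rcases Finset.mem_union.mp h with h | h
    · obtain ⟨i, -, rfl⟩ := Finset.mem_image.mp h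
      rw [t.X_deg i] at hw
      exact hB (t.eq_of_deg hw)
    · obtain ⟨i, -, rfl⟩ := Finset.mem_image.mp h
      rw [t.Y_deg i] at hw
      exact hA (t.eq_of_deg hw)
  rw [t.rest_eq, Finset.sum_union d2, Finset.sum_union d1,
    Finset.sum_image fun a _ b _ h => t.dA.X_inj h, Finset.sum_image fun a _ b _ h => t.dB.X_inj h,
    Finset.sum_pair t.W_ne]

/-- All irreducible characters, listed. -/
theorem sum_all {M : Type*} [AddCommMonoid M] (f : Cfsg.IrrCharacter (Sz F (2 ^ (m + 1))) → M) :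
    ∑ χ, f χ = f irrOne + f (St hF) + ∑ χ ∈ psSet hF hm, f χ +
      (∑ i, f (t.dA.X i) + ∑ j, f (t.dB.X j) + (f t.W + f t.W')) := by
  rw [Chars.sum_split hF hm, t.sum_rest]

include hF hm t in
theorem card_psSet : 2 * ((psSet hF hm).card : ℂ) = 2 * 𝕣 ^ 2 - 2 := by
  have h := two_mul_sum_psSet hF hm fun _ => 1
  have h8 := eight_le_q hF hm
  simp only [Finset.sum_const, Finset.card_univ, card_hom, nsmul_eq_mul, mul_one] at h
  rw [h, Nat.cast_sub (by omega), t.q_eq]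
  norm_num

omit t in
theorem psSet_unip {χ : Cfsg.IrrCharacter (Sz F (2 ^ (m + 1)))} (h : χ ∈ psSet hF hm)
    {g : Sz F (2 ^ (m + 1))} (hg : g ∈ unip hF) (h1 : g ≠ 1) :
    (χ : Sz F (2 ^ (m + 1)) → ℂ) g = 1 := by
  obtain ⟨l, -, e⟩ := (mem_psSet hF hm).mp h
  rw [← e, ps_unip hF l hg h1]

omit t in
theorem sum_psSet_T {s : Fˣ} (hs : s ≠ 1) :
    ∑ χ ∈ psSet hF hm, (χ : Sz F (2 ^ (m + 1)) → ℂ) (T hF s) = -1 := by
  have h := two_mul_sum_psSet hF hm fun χ => (χ : Sz F (2 ^ (m + 1)) → ℂ) (T hF s)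
  have h2 : ∀ l : {l : Fˣ →* ℂˣ // l ≠ 1}, ps hF l.1 (T hF s) =
      ((l.1 s : ℂˣ) : ℂ) + ((l.1 s⁻¹ : ℂˣ) : ℂ) := fun l => ps_T hF hm l.1 hs
  rw [Finset.sum_congr rfl fun l _ => h2 l, Finset.sum_add_distrib, sum_hom_apply hs,
    sum_hom_apply (inv_ne_one.mpr hs)] at h
  linear_combination (1 / 2 : ℂ) * h

theorem fpf_A {a : t.A} (ha : a ≠ 1) : Fpf hF (a : Sz F (2 ^ (m + 1))) :=
  t.fpfA _ a.2 fun e => ha (Subtype.ext e)

theorem fpf_B {b : t.B} (hb : b ≠ 1) : Fpf hF (b : Sz F (2 ^ (m + 1))) :=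
  t.fpfB _ b.2 fun e => hb (Subtype.ext e)

theorem conj_orb_A (i : Fin t.dA.n) {a : t.A} (ha : a ≠ 1) :
    conj (orbSum (t.dA.ψ i) a) = orbSum (t.dA.ψ i) a := by
  have h := t.hA.real (isCharacter_of_isIrr (t.dA.X i).2) a.2
  rw [t.X_A i a ha, map_neg, neg_inj] at h
  exact h

theorem conj_orb_B (j : Fin t.dB.n) {b : t.B} (hb : b ≠ 1) :
    conj (orbSum (t.dB.ψ j) b) = orbSum (t.dB.ψ j) b := by
  have h := t.hB.real (isCharacter_of_isIrr (t.dB.X j).2) b.2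
  rw [t.Y_B j b hb, map_neg, neg_inj] at h
  exact h

theorem orb_re_A (i : Fin t.dA.n) {a : t.A} (ha : a ≠ 1) :
    orbSum (t.dA.ψ i) a = (((orbSum (t.dA.ψ i) a).re : ℝ) : ℂ) :=
  (Complex.conj_eq_iff_re.mp (t.conj_orb_A i ha)).symm

theorem orb_re_B (j : Fin t.dB.n) {b : t.B} (hb : b ≠ 1) :
    orbSum (t.dB.ψ j) b = (((orbSum (t.dB.ψ j) b).re : ℝ) : ℂ) :=
  (Complex.conj_eq_iff_re.mp (t.conj_orb_B j hb)).symm

theorem mem_W : t.W ∈ ({t.W, t.W'} : Finset (Cfsg.IrrCharacter (Sz F (2 ^ (m + 1))))) ∧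
    t.W' ∈ ({t.W, t.W'} : Finset (Cfsg.IrrCharacter (Sz F (2 ^ (m + 1))))) := by simp

/-- Column orthogonality between the identity and an element of the larger torus. -/
theorem sum_orb_A {a : t.A} (ha : a ≠ 1) : ∑ i, orbSum (t.dA.ψ i) a = -1 := by
  have hne : ¬ IsConj (a : Sz F (2 ^ (m + 1))) 1 := fun h =>
    ha (Subtype.ext (isConj_one_left.mp h))
  have h := second_orthogonality (a : Sz F (2 ^ (m + 1))) 1
  rw [if_neg hne, t.sum_all, irrOne_apply, irrOne_apply, St_fpf hF (t.fpf_A ha), St_one,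
    Finset.sum_eq_zero (s := psSet hF hm) fun χ hχ => by rw [psSet_fpf hF hm hχ (t.fpf_A ha), zero_mul],
    Finset.sum_congr rfl fun i _ => by rw [t.X_A i a ha, t.X_deg i, neg_mul],
    Finset.sum_neg_distrib, ← Finset.sum_mul,
    Finset.sum_eq_zero (s := (Finset.univ : Finset (Fin t.dB.n))) fun j _ => by
      rw [t.Y_A j a ha, zero_mul],
    t.W_A _ t.mem_W.1 a ha, t.W_A _ t.mem_W.2 a ha, t.W_deg _ t.mem_W.1, t.W_deg _ t.mem_W.2] at h
  simp only [Nat.cast_mul, map_mul, map_one, map_pow, map_natCast, t.q_sub_one, t.cardB',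
    map_sub, map_add, map_ofNat] at h
  rw [t.q_eq] at h
  have hb : (2 * 𝕣 ^ 2 - 1) * (2 * 𝕣 ^ 2 - 2 * 𝕣 + 1) ≠ 0 := by
    rw [← t.q_sub_one, ← t.cardB']
    exact mul_ne_zero (Nat.cast_ne_zero.mpr (by have := eight_le_q hF hm; omega)) card_ne_zero'
  refine mul_left_cancel₀ hb ?_
  linear_combination -h

theorem sum_orb_B {b : t.B} (hb : b ≠ 1) : ∑ j, orbSum (t.dB.ψ j) b = -1 := by
  have hne : ¬ IsConj (b : Sz F (2 ^ (m + 1))) 1 := fun h =>
    hb (Subtype.ext (isConj_one_left.mp h))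
  have h := second_orthogonality (b : Sz F (2 ^ (m + 1))) 1
  rw [if_neg hne, t.sum_all, irrOne_apply, irrOne_apply, St_fpf hF (t.fpf_B hb), St_one,
    Finset.sum_eq_zero (s := psSet hF hm) fun χ hχ => by rw [psSet_fpf hF hm hχ (t.fpf_B hb), zero_mul],
    Finset.sum_eq_zero (s := (Finset.univ : Finset (Fin t.dA.n))) fun i _ => by
      rw [t.X_B i b hb, zero_mul],
    Finset.sum_congr rfl fun j _ => by rw [t.Y_B j b hb, t.Y_deg j, neg_mul],
    Finset.sum_neg_distrib, ← Finset.sum_mul,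
    t.W_B _ t.mem_W.1 b hb, t.W_B _ t.mem_W.2 b hb, t.W_deg _ t.mem_W.1, t.W_deg _ t.mem_W.2] at h
  simp only [Nat.cast_mul, map_mul, map_one, map_pow, map_natCast, t.q_sub_one, t.cardA',
    map_sub, map_add, map_ofNat] at h
  rw [t.q_eq] at h
  have hb : (2 * 𝕣 ^ 2 - 1) * (2 * 𝕣 ^ 2 + 2 * 𝕣 + 1) ≠ 0 := by
    rw [← t.q_sub_one, ← t.cardA']
    exact mul_ne_zero (Nat.cast_ne_zero.mpr (by have := eight_le_q hF hm; omega)) card_ne_zero'
  refine mul_left_cancel₀ hb ?_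
  linear_combination -h

theorem sum_orb_sq_A {a : t.A} (ha : a ≠ 1) :
    ∑ i, orbSum (t.dA.ψ i) a ^ 2 = (Nat.card t.A : ℂ) - 4 := by
  have h := second_orthogonality (a : Sz F (2 ^ (m + 1))) (a : Sz F (2 ^ (m + 1)))
  rw [if_pos (IsConj.refl _), t.hA.cent _ a.2 (fun e => ha (Subtype.ext e)), t.sum_all,
    irrOne_apply, St_fpf hF (t.fpf_A ha),
    Finset.sum_eq_zero (s := psSet hF hm) fun χ hχ => by rw [psSet_fpf hF hm hχ (t.fpf_A ha), zero_mul],
    Finset.sum_congr rfl fun i _ => by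
      rw [t.X_A i a ha, map_neg, neg_mul_neg, t.conj_orb_A i ha, ← pow_two],
    Finset.sum_eq_zero (s := (Finset.univ : Finset (Fin t.dB.n))) fun j _ => by
      rw [t.Y_A j a ha, zero_mul],
    t.W_A _ t.mem_W.1 a ha, t.W_A _ t.mem_W.2 a ha] at h
  simp only [map_neg, map_one] at h
  linear_combination h

theorem sum_orb_sq_B {b : t.B} (hb : b ≠ 1) :
    ∑ j, orbSum (t.dB.ψ j) b ^ 2 = (Nat.card t.B : ℂ) - 4 := by
  have h := second_orthogonality (b : Sz F (2 ^ (m + 1))) (b : Sz F (2 ^ (m + 1)))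
  rw [if_pos (IsConj.refl _), t.hB.cent _ b.2 (fun e => hb (Subtype.ext e)), t.sum_all,
    irrOne_apply, St_fpf hF (t.fpf_B hb),
    Finset.sum_eq_zero (s := psSet hF hm) fun χ hχ => by rw [psSet_fpf hF hm hχ (t.fpf_B hb), zero_mul],
    Finset.sum_eq_zero (s := (Finset.univ : Finset (Fin t.dA.n))) fun i _ => by
      rw [t.X_B i b hb, zero_mul],
    Finset.sum_congr rfl fun j _ => by
      rw [t.Y_B j b hb, map_neg, neg_mul_neg, t.conj_orb_B j hb, ← pow_two],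
    t.W_B _ t.mem_W.1 b hb, t.W_B _ t.mem_W.2 b hb] at h
  simp only [map_neg, map_one] at h
  linear_combination h

/-- A unipotent element is conjugate into neither torus. -/
theorem not_torus {g : Sz F (2 ^ (m + 1))} (hg : g ∈ unip hF)
    {C : Subgroup (Sz F (2 ^ (m + 1)))} (hC : ∀ a ∈ C, a ≠ 1 → Fpf hF a)
    {x : Sz F (2 ^ (m + 1))} (hx : x⁻¹ * g * x ∈ C) : x⁻¹ * g * x = 1 := by
  by_contra h
  obtain ⟨a, b, rfl⟩ := hg
  refine hC _ hx h (toSL hF x⁻¹ • inf) ((fix_conj hF _ x _).2 ?_)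
  rw [map_inv, smul_inv_smul]
  exact U_smul_inf hF a b

theorem X_unip {g : Sz F (2 ^ (m + 1))} (hg : g ∈ unip hF) (i : Fin t.dA.n) :
    (t.dA.X i : Sz F (2 ^ (m + 1)) → ℂ) g = (t.dA.X t.dA.i₀ : Sz F (2 ^ (m + 1)) → ℂ) g :=
  t.dA.X_eq t.hA i _ fun _ hx => not_torus hg t.fpfA hx

theorem Y_unip {g : Sz F (2 ^ (m + 1))} (hg : g ∈ unip hF) (j : Fin t.dB.n) :
    (t.dB.X j : Sz F (2 ^ (m + 1)) → ℂ) g = (t.dB.X t.dB.i₀ : Sz F (2 ^ (m + 1)) → ℂ) g :=
  t.dB.X_eq t.hB j _ fun _ hx => not_torus hg t.fpfB hx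

/-- Orthogonality between a unipotent element and the tori. -/
theorem unip_rel {g : Sz F (2 ^ (m + 1))} (hg : g ∈ unip hF) (h1 : g ≠ 1) :
    (∀ i, (t.dA.X i : Sz F (2 ^ (m + 1)) → ℂ) g =
      -1 - ((t.W : Sz F (2 ^ (m + 1)) → ℂ) g + (t.W' : Sz F (2 ^ (m + 1)) → ℂ) g)) ∧
    (∀ j, (t.dB.X j : Sz F (2 ^ (m + 1)) → ℂ) g =
      -1 + ((t.W : Sz F (2 ^ (m + 1)) → ℂ) g + (t.W' : Sz F (2 ^ (m + 1)) → ℂ) g)) := by
  obtain ⟨-, -, -, hA1, hB1⟩ := t.deg_ne
  have hnA : Nontrivial t.A := Finite.one_lt_card_iff_nontrivial.mp hA1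
  have hnB : Nontrivial t.B := Finite.one_lt_card_iff_nontrivial.mp hB1
  obtain ⟨a, ha⟩ := exists_ne (1 : t.A)
  obtain ⟨b, hb⟩ := exists_ne (1 : t.B)
  have hne : ∀ {C : Subgroup (Sz F (2 ^ (m + 1)))}, (∀ c ∈ C, c ≠ 1 → Fpf hF c) →
      ∀ c : C, ¬ IsConj g (c : Sz F (2 ^ (m + 1))) := by
    intro C hC c h
    obtain ⟨x, hx⟩ := isConj_iff.mp h
    have h2 := not_torus hg hC (x := x⁻¹) (by rw [inv_inv, hx]; exact c.2)
    rw [inv_inv] at h2
    exact h1 (by simpa using conj_eq_one_iff.mp h2)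
  constructor
  · intro i
    have h := second_orthogonality g (a : Sz F (2 ^ (m + 1)))
    rw [if_neg (hne t.fpfA a), t.sum_all, irrOne_apply, irrOne_apply, St_unip hF hg h1,
      Finset.sum_eq_zero (s := psSet hF hm) fun χ hχ => by
        rw [psSet_fpf hF hm hχ (t.fpf_A ha), map_zero, mul_zero],
      Finset.sum_congr rfl fun k _ => by
        rw [(t.X_unip hg k).trans (t.X_unip hg i).symm, t.X_A k a ha, map_neg, t.conj_orb_A k ha,
          mul_neg],
      Finset.sum_neg_distrib, ← Finset.mul_sum, t.sum_orb_A ha,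
      Finset.sum_eq_zero (s := (Finset.univ : Finset (Fin t.dB.n))) fun j _ => by
        rw [t.Y_A j a ha, map_zero, mul_zero],
      t.W_A _ t.mem_W.1 a ha, t.W_A _ t.mem_W.2 a ha] at h
    simp only [map_one, mul_one, zero_mul, add_zero] at h
    linear_combination h
  · intro j
    have h := second_orthogonality g (b : Sz F (2 ^ (m + 1)))
    rw [if_neg (hne t.fpfB b), t.sum_all, irrOne_apply, irrOne_apply, St_unip hF hg h1,
      Finset.sum_eq_zero (s := psSet hF hm) fun χ hχ => by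
        rw [psSet_fpf hF hm hχ (t.fpf_B hb), map_zero, mul_zero],
      Finset.sum_eq_zero (s := (Finset.univ : Finset (Fin t.dA.n))) fun i _ => by
        rw [t.X_B i b hb, map_zero, mul_zero],
      Finset.sum_congr rfl fun k _ => by
        rw [(t.Y_unip hg k).trans (t.Y_unip hg j).symm, t.Y_B k b hb, map_neg, t.conj_orb_B k hb,
          mul_neg],
      Finset.sum_neg_distrib, ← Finset.mul_sum, t.sum_orb_B hb,
      t.W_B _ t.mem_W.1 b hb, t.W_B _ t.mem_W.2 b hb] at h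
    simp only [map_one, map_neg, mul_one, mul_neg, zero_mul, add_zero] at h
    linear_combination h

/-- The sum of the squared absolute values at a non-trivial unipotent element. -/
theorem unip_norm {g : Sz F (2 ^ (m + 1))} (hg : g ∈ unip hF) (h1 : g ≠ 1) :
    (Nat.card (Subgroup.centralizer ({g} : Set (Sz F (2 ^ (m + 1))))) : ℂ) =
      1 + (psSet hF hm).card +
      ((t.dA.n : ℂ) * ((-1 - ((t.W : Sz F (2 ^ (m + 1)) → ℂ) g + (t.W' : Sz F (2 ^ (m + 1)) → ℂ) g)) *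
        (-1 - (conj ((t.W : Sz F (2 ^ (m + 1)) → ℂ) g) + conj ((t.W' : Sz F (2 ^ (m + 1)) → ℂ) g)))) +
      (t.dB.n : ℂ) * ((-1 + ((t.W : Sz F (2 ^ (m + 1)) → ℂ) g + (t.W' : Sz F (2 ^ (m + 1)) → ℂ) g)) *
        (-1 + (conj ((t.W : Sz F (2 ^ (m + 1)) → ℂ) g) + conj ((t.W' : Sz F (2 ^ (m + 1)) → ℂ) g)))) +
      ((t.W : Sz F (2 ^ (m + 1)) → ℂ) g * conj ((t.W : Sz F (2 ^ (m + 1)) → ℂ) g) +
        (t.W' : Sz F (2 ^ (m + 1)) → ℂ) g * conj ((t.W' : Sz F (2 ^ (m + 1)) → ℂ) g))) := by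
  obtain ⟨hX, hY⟩ := t.unip_rel hg h1
  have h := second_orthogonality g g
  rw [if_pos (IsConj.refl _), t.sum_all, irrOne_apply, St_unip hF hg h1,
    Finset.sum_congr (s₁ := psSet hF hm) (g := fun _ => (1 : ℂ)) rfl fun χ hχ => by
      rw [psSet_unip hχ hg h1, map_one, mul_one],
    Finset.sum_congr (s₁ := (Finset.univ : Finset (Fin t.dA.n))) rfl fun i _ => by rw [hX i],
    Finset.sum_congr (s₁ := (Finset.univ : Finset (Fin t.dB.n))) rfl fun j _ => by rw [hY j]] at h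
  simp only [map_one, mul_one, map_zero, mul_zero, add_zero, map_sub, map_add, map_neg,
    Finset.sum_const, Finset.card_univ, Fintype.card_fin, nsmul_eq_mul] at h
  exact h.symm

include hF in
omit t in
/-- The elements `U 0 b` and `U 0 1` are conjugate. -/
theorem isConj_U0 {b : F} (hb : b ≠ 0) : IsConj (U hF 0 1) (U hF 0 b) := by
  classical
  have hinj : Function.Injective fun s : Fˣ => s ^ (2 ^ (m + 1) + 2) := fun s s' h => by
    have h2 : ((s / s' : Fˣ) : F) ^ (2 ^ (m + 1) + 2) = 1 := by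
      rw [← Units.val_pow_eq_pow_val, div_pow]
      simp only at h
      rw [h, div_self', Units.val_one]
    exact div_eq_one.mp (Units.ext (eq_one_of_sigma_two hF h2))
  obtain ⟨s, hs⟩ := (Finite.injective_iff_surjective.mp hinj) (Units.mk0 b hb)
  refine isConj_iff.mpr ⟨T hF s, ?_⟩
  have hs' : (s : F) ^ (2 ^ (m + 1) + 2) = b := by
    rw [← Units.val_pow_eq_pow_val]
    exact congrArg Units.val hs
  rw [T_conj_U, mul_zero, mul_one, hs']

include hF in
omit t in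
theorem card_centralizer_U0 {b : F} (hb : b ≠ 0) :
    Nat.card (Subgroup.centralizer ({U hF 0 b} : Set (Sz F (2 ^ (m + 1))))) =
      Fintype.card F ^ 2 := by
  have he : Subgroup.centralizer ({U hF 0 b} : Set (Sz F (2 ^ (m + 1)))) = unip hF := by
    ext x
    rw [Subgroup.mem_centralizer_singleton_iff]
    constructor
    · intro hx
      have hu : U hF 0 b ∈ unip hF := ⟨0, b, rfl⟩
      have h1 : U hF 0 b ≠ 1 := fun e => hb (U_injective hF (e.trans (U_zero hF).symm)).2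
      have hxB : x ∈ borel hF := mem_borel_of_conj_unip hF hu h1 (by
        rw [mul_assoc, ← hx, inv_mul_cancel_left]; exact U_mem_borel hF 0 b)
      obtain ⟨s, c, d, rfl⟩ := exists_coords hF hxB
      have hc : U hF c d * U hF 0 b = U hF 0 b * U hF c d := by
        rw [U_mul, U_mul]
        congr 1
        · rw [zero_add, add_zero]
        · simp [zero_pow, add_comm]
      rw [mul_assoc, hc, ← mul_assoc, ← mul_assoc, mul_left_inj] at hx
      have h3 := T_conj_U hF s 0 b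
      rw [hx, mul_inv_cancel_right] at h3
      obtain ⟨-, e2⟩ := U_injective hF h3
      have hs : s = 1 := Units.ext (eq_one_of_sigma_two hF
        (mul_right_cancel₀ hb (by rw [one_mul]; exact e2.symm)))
      exact ⟨c, d, by rw [hs, T_one, one_mul]⟩
    · rintro ⟨c, d, rfl⟩
      rw [U_mul, U_mul]
      congr 1
      · rw [zero_add, add_zero]
      · simp [zero_pow, add_comm]
  rw [he, card_unip]

include hF in
omit t in
/-- At an involution a character is congruent to its degree modulo `q`. -/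
theorem inv_congr (χ : Cfsg.IrrCharacter (Sz F (2 ^ (m + 1)))) {b : F} (hb : b ≠ 0) :
    ∃ k : ℕ, (χ : Sz F (2 ^ (m + 1)) → ℂ) (U hF 0 b) =
      (χ : Sz F (2 ^ (m + 1)) → ℂ) 1 - 𝕢 * k := by
  classical
  let φ : Multiplicative F →* Sz F (2 ^ (m + 1)) :=
    MonoidHom.mk' (fun x => U hF 0 x.toAdd) fun x y => by
      rw [U_mul]
      simp [zero_pow]
  have : NeZero (Monoid.exponent (Multiplicative F) : ℂ) :=
    ⟨by exact_mod_cast Monoid.exponent_ne_zero_of_finite⟩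
  obtain ⟨ψ, hψ⟩ := CommGroup.exists_apply_ne_one_of_hasEnoughRootsOfUnity (Multiplicative F) ℂ
    (show Multiplicative.ofAdd (1 : F) ≠ 1 from fun e => one_ne_zero (α := F)
      (congrArg Multiplicative.toAdd e))
  obtain ⟨k, hk⟩ := classInner_char_nat (isCharacter_comp (isCharacter_of_isIrr χ.2) φ)
    (isCharacter_of_isIrr (isIrrCharacter_units_hom ψ))
  refine ⟨k, ?_⟩
  rw [classInner_def] at hk
  set c := (χ : Sz F (2 ^ (m + 1)) → ℂ) (U hF 0 b) with hc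
  have hval : ∀ x : Multiplicative F, ((χ : Sz F (2 ^ (m + 1)) → ℂ) ∘ φ) x * conj ((ψ x : ℂˣ) : ℂ) =
      c * conj ((ψ x : ℂˣ) : ℂ) +
        if x = 1 then (χ : Sz F (2 ^ (m + 1)) → ℂ) 1 - c else 0 := by
    intro x
    split_ifs with hx
    · subst hx; simp
    · have hx' : x.toAdd ≠ 0 := fun e => hx e
      rw [add_zero, Function.comp_apply, show φ x = U hF 0 x.toAdd from rfl, hc,
        isClassFunction_iff.mp (isClassFunction_of_isIrr χ.2) _ _
          ((isConj_U0 hx').symm.trans (isConj_U0 hb))]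
  have hsum : ∑ x : Multiplicative F, ((ψ x : ℂˣ) : ℂ) = 0 :=
    sum_hom_units_eq_zero ((Units.coeHom ℂ).comp ψ) fun e => hψ (Units.ext (DFunLike.congr_fun e _))
  rw [Finset.sum_congr rfl fun x _ => hval x, Finset.sum_add_distrib, ← Finset.mul_sum, ← map_sum,
    hsum, map_zero, mul_zero, zero_add, Finset.sum_ite_eq', if_pos (Finset.mem_univ _),
    Nat.card_congr Multiplicative.toAdd, Nat.card_eq_fintype_card,
    inv_mul_eq_iff_eq_mul₀ (Nat.cast_ne_zero.mpr Fintype.card_ne_zero)] at hk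
  linear_combination -hk

/-- Values at the involutions. -/
theorem inv_values {b : F} (hb : b ≠ 0) :
    (∀ i, (t.dA.X i : Sz F (2 ^ (m + 1)) → ℂ) (U hF 0 b) = 2 * 𝕣 - 1) ∧
    (∀ j, (t.dB.X j : Sz F (2 ^ (m + 1)) → ℂ) (U hF 0 b) = -(2 * 𝕣 + 1)) ∧
    (t.W : Sz F (2 ^ (m + 1)) → ℂ) (U hF 0 b) = -𝕣 ∧
    (t.W' : Sz F (2 ^ (m + 1)) → ℂ) (U hF 0 b) = -𝕣 := by
  have hg : U hF 0 b ∈ unip hF := ⟨0, b, rfl⟩
  have h1 : U hF 0 b ≠ 1 := fun e => hb (U_injective hF (e.trans (U_zero hF).symm)).2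
  obtain ⟨hX, hY⟩ := t.unip_rel hg h1
  have hN := t.unip_norm hg h1
  rw [card_centralizer_U0 hb] at hN
  have hW : ∀ χ ∈ ({t.W, t.W'} : Finset (Cfsg.IrrCharacter (Sz F (2 ^ (m + 1))))),
      ∃ z : ℤ, (χ : Sz F (2 ^ (m + 1)) → ℂ) (U hF 0 b) = -𝕣 + 𝕢 * z := by
    intro χ hχ
    obtain ⟨k, hk⟩ := inv_congr (hF := hF) χ hb
    refine ⟨(rr m : ℤ) - k, ?_⟩
    rw [hk, t.W_deg χ hχ, Nat.cast_mul, t.q_sub_one, t.q_eq]
    push_cast
    ring
  obtain ⟨k, hk⟩ := hW _ t.mem_W.1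
  obtain ⟨l, hl⟩ := hW _ t.mem_W.2
  rw [hk, hl] at hN hX hY
  simp only [map_add, map_neg, map_mul, map_natCast, map_intCast] at hN
  push_cast at hN
  rw [t.q_eq] at hN hX hY hk hl
  have hr0 : 𝕣 ≠ 0 := Nat.cast_ne_zero.mpr (by have := two_le_rr hm; omega)
  have hq0 : (2 * 𝕣 ^ 2) ^ 2 ≠ 0 := pow_ne_zero 2 (mul_ne_zero two_ne_zero (pow_ne_zero 2 hr0))
  have key : (𝕣 * ((k : ℂ) + l) - 1) ^ 2 + (k : ℂ) ^ 2 + (l : ℂ) ^ 2 = 1 := by
    refine mul_left_cancel₀ hq0 ?_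
    linear_combination -hN + (-(1 / 2 : ℂ)) * t.card_psSet
      - (1 / 4 : ℂ) * (-1 + 2 * 𝕣 - 2 * 𝕣 ^ 2 * ((k : ℂ) + l)) ^ 2 * t.nA'
      - (1 / 4 : ℂ) * (-1 - 2 * 𝕣 + 2 * 𝕣 ^ 2 * ((k : ℂ) + l)) ^ 2 * t.nB'
  have key' : ((rr m : ℤ) * (k + l) - 1) ^ 2 + k ^ 2 + l ^ 2 = 1 := by exact_mod_cast key
  have hr : (2 : ℤ) ≤ rr m := by exact_mod_cast two_le_rr hm
  have hk0 : k = 0 ∧ l = 0 := by
    have h1 : 1 ≤ ((rr m : ℤ) * (k + l) - 1) ^ 2 := by
      have : (rr m : ℤ) * (k + l) - 1 ≠ 0 := by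
        intro e
        have := Int.eq_one_of_mul_eq_one_right (by omega) (show (rr m : ℤ) * (k + l) = 1 by omega)
        omega
      have := mul_self_pos.mpr this
      nlinarith
    constructor <;> nlinarith [sq_nonneg k, sq_nonneg l]
  obtain ⟨rfl, rfl⟩ := hk0
  refine ⟨fun i => ?_, fun j => ?_, ?_, ?_⟩
  · rw [hX i]; push_cast; ring
  · rw [hY j]; push_cast; ring
  · rw [hk]; simp
  · rw [hl]; simp

include hF in
omit t in
/-- The restriction of a character to the cyclic group of an element of order four. -/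
theorem four_congr (χ : Cfsg.IrrCharacter (Sz F (2 ^ (m + 1)))) {u : Sz F (2 ^ (m + 1))}
    (hu : u ^ 4 = 1) {n z : ℤ} (hn : (χ : Sz F (2 ^ (m + 1)) → ℂ) 1 = n)
    (hz : (χ : Sz F (2 ^ (m + 1)) → ℂ) (u ^ 2) = z) :
    ∃ k l : ℤ, 2 * ((χ : Sz F (2 ^ (m + 1)) → ℂ) u).re + n + z = 4 * k ∧
      2 * ((χ : Sz F (2 ^ (m + 1)) → ℂ) u).im + n - z = 4 * l := by
  let φ : Multiplicative (ZMod 4) →* Sz F (2 ^ (m + 1)) :=
    AddMonoidHom.toMultiplicativeLeft (ZMod.lift 4 ⟨zmultiplesHom _ (Additive.ofMul u), by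
      rw [zmultiplesHom_apply, ← ofMul_zpow]
      exact congrArg Additive.ofMul (by simpa using hu)⟩)
  let ι : Multiplicative (ZMod 4) →* ℂˣ :=
    AddMonoidHom.toMultiplicativeLeft (ZMod.lift 4 ⟨zmultiplesHom _ (Additive.ofMul
      (Units.mk0 Complex.I Complex.I_ne_zero)), by
      rw [zmultiplesHom_apply, ← ofMul_zpow]
      exact congrArg Additive.ofMul (Units.ext (by norm_num [pow_succ, Complex.I_mul_I]))⟩)
  have hφ : ∀ j : ℕ, φ (Multiplicative.ofAdd (j : ZMod 4)) = u ^ j := fun j => by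
    simp only [φ, AddMonoidHom.toMultiplicativeLeft_apply_apply, toAdd_ofAdd]
    rw [← Int.cast_natCast (R := ZMod 4), ZMod.lift_coe]
    simp
  have hι : ∀ j : ℕ, ((ι (Multiplicative.ofAdd (j : ZMod 4)) : ℂˣ) : ℂ) = Complex.I ^ j := fun j => by
    simp only [ι, AddMonoidHom.toMultiplicativeLeft_apply_apply, toAdd_ofAdd]
    rw [← Int.cast_natCast (R := ZMod 4), ZMod.lift_coe]
    simp
  have hsum : ∀ f : Multiplicative (ZMod 4) → ℂ, ∑ x, f x =
      f (Multiplicative.ofAdd ((0 : ℕ) : ZMod 4)) + f (Multiplicative.ofAdd ((1 : ℕ) : ZMod 4)) +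
        f (Multiplicative.ofAdd ((2 : ℕ) : ZMod 4)) + f (Multiplicative.ofAdd ((3 : ℕ) : ZMod 4)) :=
    fun f => (Fintype.sum_equiv Multiplicative.toAdd f
      (fun x => f (Multiplicative.ofAdd x)) fun x => rfl).trans
        (Fin.sum_univ_four fun x : Fin 4 => f (Multiplicative.ofAdd (x : ZMod 4)))
  obtain ⟨k, hk⟩ := classInner_char_nat (isCharacter_comp (isCharacter_of_isIrr χ.2) φ)
    (isCharacter_one (G := Multiplicative (ZMod 4)))
  obtain ⟨l, hl⟩ := classInner_char_nat (isCharacter_comp (isCharacter_of_isIrr χ.2) φ)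
    (isCharacter_of_isIrr (isIrrCharacter_units_hom ι))
  have h3 : (χ : Sz F (2 ^ (m + 1)) → ℂ) (u ^ 3) = conj ((χ : Sz F (2 ^ (m + 1)) → ℂ) u) := by
    rw [← char_inv (isCharacter_of_isIrr χ.2)]
    exact congrArg _ (eq_inv_of_mul_eq_one_left (by rw [← pow_succ]; exact hu))
  have hc4 : Nat.card (Multiplicative (ZMod 4)) = 4 := by
    rw [Nat.card_congr Multiplicative.toAdd, Nat.card_zmod]
  rw [classInner_def, hsum, hc4] at hk hl
  simp only [Function.comp_apply, hφ, hι, pow_zero, pow_one, hn, hz, h3, map_one, mul_one,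
    Complex.conj_I, map_pow] at hk hl
  refine ⟨k, l, ?_, ?_⟩
  · have := congrArg Complex.re hk
    simp at this
    push_cast
    linarith
  · have := congrArg Complex.re hl
    simp [pow_succ] at this
    push_cast
    linarith

/-- Values at the elements of order four. -/
theorem four_values {a b : F} (ha : a ≠ 0) :
    (∀ i, (t.dA.X i : Sz F (2 ^ (m + 1)) → ℂ) (U hF a b) = -1) ∧
    (∀ j, (t.dB.X j : Sz F (2 ^ (m + 1)) → ℂ) (U hF a b) = -1) ∧
    (t.W : Sz F (2 ^ (m + 1)) → ℂ) (U hF a b) + (t.W' : Sz F (2 ^ (m + 1)) → ℂ) (U hF a b) = 0 ∧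
    (t.W : Sz F (2 ^ (m + 1)) → ℂ) (U hF a b) ^ 2 = -𝕣 ^ 2 ∧
    (t.W' : Sz F (2 ^ (m + 1)) → ℂ) (U hF a b) ^ 2 = -𝕣 ^ 2 := by
  set u := U hF a b with hu
  have hg : u ∈ unip hF := ⟨a, b, rfl⟩
  have h1 : u ≠ 1 := fun e => ha (U_injective hF (e.trans (U_zero hF).symm)).1
  have hsq : u ^ 2 = U hF 0 (a * a ^ 2 ^ (m + 1)) := by rw [pow_two, hu, U_sq]
  have hc : a * a ^ 2 ^ (m + 1) ≠ 0 := mul_ne_zero ha (pow_ne_zero _ ha)
  have hu4 : u ^ 4 = 1 := by
    calc u ^ 4 = (u ^ 2) ^ 2 := by rw [← pow_mul]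
      _ = 1 := by rw [hsq, pow_two, U_sq, zero_mul, U_zero]
  obtain ⟨ρ, hρ⟩ : 2 ∣ rr m := dvd_pow_self 2 (by omega)
  obtain ⟨hX2, hY2, hW2, hW2'⟩ := t.inv_values hc
  obtain ⟨hX, hY⟩ := t.unip_rel hg h1
  have hρ' : 𝕣 = 2 * (ρ : ℂ) := by rw [hρ]; push_cast; ring
  have hW : ∀ χ ∈ ({t.W, t.W'} : Finset (Cfsg.IrrCharacter (Sz F (2 ^ (m + 1))))),
      ∃ x y : ℤ, (χ : Sz F (2 ^ (m + 1)) → ℂ) u = 2 * (x : ℂ) + 2 * (y : ℂ) * Complex.I := by
    intro χ hχ
    have hz : (χ : Sz F (2 ^ (m + 1)) → ℂ) (u ^ 2) = ((-(2 * ρ) : ℤ) : ℂ) := by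
      rcases Finset.mem_insert.mp hχ with rfl | hχ
      · rw [hsq, hW2, hρ']; push_cast; ring
      · rw [Finset.mem_singleton.mp hχ, hsq, hW2', hρ']; push_cast; ring
    have hn : (χ : Sz F (2 ^ (m + 1)) → ℂ) 1 = (((8 * (ρ : ℤ) ^ 2 - 1) * (2 * ρ) : ℤ) : ℂ) := by
      rw [t.W_deg χ hχ, Nat.cast_mul, t.q_sub_one, hρ']; push_cast; ring
    obtain ⟨k, l, hk, hl⟩ := four_congr (hF := hF) χ hu4 hn hz
    refine ⟨k - (4 * (ρ : ℤ) ^ 3 - ρ), l - 4 * (ρ : ℤ) ^ 3, Complex.ext ?_ ?_⟩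
    · push_cast at hk
      simp [pow_succ]
      linarith
    · push_cast at hl
      simp [pow_succ]
      linarith
  obtain ⟨x, y, hxy⟩ := hW _ t.mem_W.1
  obtain ⟨x', y', hxy'⟩ := hW _ t.mem_W.2
  -- the members of the large family are real
  have hnA : 2 ≤ t.dA.n := by
    have := t.nA
    have := t.cardA
    have := eight_le_q hF hm
    omega
  have hXreal : conj ((t.dA.X t.dA.i₀ : Sz F (2 ^ (m + 1)) → ℂ) u) =
      (t.dA.X t.dA.i₀ : Sz F (2 ^ (m + 1)) → ℂ) u := by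
    have h := eq_X_of_agree t.dA hnA (χ := irrConj (t.dA.X t.dA.i₀)) (i := t.dA.i₀) fun c => by
      rw [irrConj_apply, t.hA.real (isCharacter_of_isIrr (t.dA.X _).2) c.2]
    rw [← irrConj_apply, h]
  have hyy : y + y' = 0 := by
    rw [hX, hxy, hxy'] at hXreal
    have := congrArg Complex.im hXreal
    simp at this
    have h' : ((y + y' : ℤ) : ℝ) = 0 := by push_cast; linarith
    exact_mod_cast h'
  obtain rfl : y' = -y := by omega
  have hN := t.unip_norm hg h1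
  rw [card_centralizer_U hF ha, hxy, hxy'] at hN
  simp only [map_add, map_neg, map_mul, map_intCast, map_ofNat, Complex.conj_I, Int.cast_neg] at hN
  push_cast at hN
  rw [t.q_eq] at hN
  have hI : Complex.I ^ 2 = -1 := Complex.I_sq
  have key : (4 * (ρ : ℂ) ^ 2) * ((x : ℂ) + x') ^ 2 + 2 * ρ * ((x : ℂ) + x') +
      ((x : ℂ) ^ 2 + (x' : ℂ) ^ 2 + 2 * (y : ℂ) ^ 2) = 2 * (ρ : ℂ) ^ 2 := by
    rw [hρ'] at hN
    have e1 := t.card_psSet
    have e2 := t.nA'
    have e3 := t.nB'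
    rw [hρ'] at e1 e2 e3
    linear_combination -(1 / 4 : ℂ) * hN - (1 / 8 : ℂ) * e1
      - (1 / 16 : ℂ) * (2 * ((x : ℂ) + x') + 1) ^ 2 * e2
      - (1 / 16 : ℂ) * (2 * ((x : ℂ) + x') - 1) ^ 2 * e3 + 2 * (y : ℂ) ^ 2 * hI
  have key' : (4 * (ρ : ℤ) ^ 2) * (x + x') ^ 2 + 2 * ρ * (x + x') + (x ^ 2 + x' ^ 2 + 2 * y ^ 2) =
      2 * (ρ : ℤ) ^ 2 := by exact_mod_cast key
  have hρ1 : (1 : ℤ) ≤ ρ := by
    have := two_le_rr hm
    omega
  have hs0 : x + x' = 0 := by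
    by_contra hne
    have hS : 0 ≤ x ^ 2 + x' ^ 2 + 2 * y ^ 2 := by positivity
    rcases lt_or_gt_of_ne hne with h | h
    · have hA : 2 * (ρ : ℤ) * (x + x') ≤ -(2 * ρ) := by nlinarith
      have h2 : 0 ≤ (-(2 * (ρ : ℤ) * (x + x')) - 2 * ρ) *
          (-(2 * (ρ : ℤ) * (x + x')) + 2 * ρ - 1) := mul_nonneg (by linarith) (by linarith)
      have h3 : (ρ : ℤ) * 1 ≤ ρ * ρ := mul_le_mul_of_nonneg_left hρ1 (by omega)
      have hx : x ^ 2 + x' ^ 2 ≤ 0 := by nlinarith [sq_nonneg y]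
      have hx1 : x ^ 2 = 0 := le_antisymm (by linarith [sq_nonneg x']) (sq_nonneg x)
      have hx2 : x' ^ 2 = 0 := le_antisymm (by linarith [sq_nonneg x]) (sq_nonneg x')
      rw [pow_eq_zero_iff two_ne_zero] at hx1 hx2
      omega
    · have hA : 2 * (ρ : ℤ) ≤ 2 * ρ * (x + x') := by nlinarith
      have h2 : (2 * (ρ : ℤ)) * (2 * ρ) ≤ (2 * ρ * (x + x')) * (2 * ρ * (x + x')) :=
        mul_le_mul hA hA (by positivity) (by linarith)
      nlinarith
  have hs0' : (x : ℂ) + x' = 0 := by exact_mod_cast hs0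
  have hW0 : (t.W : Sz F (2 ^ (m + 1)) → ℂ) u + (t.W' : Sz F (2 ^ (m + 1)) → ℂ) u = 0 := by
    rw [hxy, hxy']; push_cast; linear_combination 2 * hs0'
  have hX1 : ∀ i, (t.dA.X i : Sz F (2 ^ (m + 1)) → ℂ) u = -1 := fun i => by
    rw [hX i, hW0, sub_zero]
  have hY1 : ∀ j, (t.dB.X j : Sz F (2 ^ (m + 1)) → ℂ) u = -1 := fun j => by
    rw [hY j, hW0, add_zero]
  -- one of the two small characters is not real
  have hWc : irrConj t.W = t.W' := by
    have hd : (irrConj t.W : Sz F (2 ^ (m + 1)) → ℂ) 1 = (((Fintype.card F - 1) * rr m : ℕ) : ℂ) := by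
      rw [irrConj_apply, t.W_deg _ t.mem_W.1, map_natCast]
    obtain ⟨hne, hA, hB, -, -⟩ := t.deg_ne
    have h8 := eight_le_q hF hm
    have hr : irrConj t.W ∈ rest hF hm := by
      rw [mem_rest]
      refine ⟨fun e => ?_, fun e => ?_, fun h => ?_⟩
      · rw [e, irrOne_apply] at hd
        have h' : 1 = (Fintype.card F - 1) * rr m := by exact_mod_cast hd
        have := Nat.eq_one_of_mul_eq_one_right h'.symm
        omega
      · rw [e, St_one] at hd
        have h' : Fintype.card F ^ 2 = (Fintype.card F - 1) * rr m := by exact_mod_cast hd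
        have := card_eq hF
        have := two_le_rr hm
        have : (Fintype.card F - 1) * rr m ≤ Fintype.card F * rr m :=
          Nat.mul_le_mul_right _ (Nat.sub_le _ _)
        nlinarith
      · rw [psSet_one hF hm h] at hd
        have h' : Fintype.card F ^ 2 + 1 = (Fintype.card F - 1) * rr m := by exact_mod_cast hd
        have := card_eq hF
        have := two_le_rr hm
        have : (Fintype.card F - 1) * rr m ≤ Fintype.card F * rr m :=
          Nat.mul_le_mul_right _ (Nat.sub_le _ _)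
        nlinarith
    rw [t.rest_eq, Finset.mem_union, Finset.mem_union] at hr
    rcases hr with (hr | hr) | hr
    · obtain ⟨i, -, e⟩ := Finset.mem_image.mp hr
      rw [← e, t.X_deg i] at hd
      exact absurd (t.eq_of_deg hd) hB
    · obtain ⟨i, -, e⟩ := Finset.mem_image.mp hr
      rw [← e, t.Y_deg i] at hd
      exact absurd (t.eq_of_deg hd) hA
    rcases Finset.mem_insert.mp hr with e | hr
    · exfalso
      have hWr : conj ((t.W : Sz F (2 ^ (m + 1)) → ℂ) u) = (t.W : Sz F (2 ^ (m + 1)) → ℂ) u := by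
        rw [← irrConj_apply, e]
      have hWr' : conj ((t.W' : Sz F (2 ^ (m + 1)) → ℂ) u) = (t.W' : Sz F (2 ^ (m + 1)) → ℂ) u := by
        rw [eq_neg_of_add_eq_zero_right hW0, map_neg, hWr]
      have hall : ∀ χ : Cfsg.IrrCharacter (Sz F (2 ^ (m + 1))),
          conj ((χ : Sz F (2 ^ (m + 1)) → ℂ) u) = (χ : Sz F (2 ^ (m + 1)) → ℂ) u := by
        intro χ
        by_cases c1 : χ = irrOne
        · subst c1; rw [irrOne_apply, map_one]
        by_cases c2 : χ = St hF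
        · subst c2; rw [St_unip hF hg h1, map_zero]
        by_cases c3 : χ ∈ psSet hF hm
        · rw [psSet_unip c3 hg h1, map_one]
        have c := (mem_rest hF hm).mpr ⟨c1, c2, c3⟩
        rw [t.rest_eq, Finset.mem_union, Finset.mem_union] at c
        rcases c with (c | c) | c
        · obtain ⟨i, -, rfl⟩ := Finset.mem_image.mp c
          rw [hX1, map_neg, map_one]
        · obtain ⟨i, -, rfl⟩ := Finset.mem_image.mp c
          rw [hY1, map_neg, map_one]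
        rcases Finset.mem_insert.mp c with rfl | c
        · exact hWr
        · rw [Finset.mem_singleton.mp c]; exact hWr'
      have hu' : ¬ IsConj u u⁻¹ := fun h => by
        obtain ⟨c, hc⟩ := isConj_iff.mp h
        exact not_conj_inv hF ha c⁻¹ (by rw [inv_inv]; exact hc)
      have s1 := second_orthogonality u u⁻¹
      have s2 := second_orthogonality u u
      rw [if_neg hu'] at s1
      rw [if_pos (IsConj.refl _), hu, card_centralizer_U hF ha, ← hu,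
        Finset.sum_congr (s₁ := (Finset.univ : Finset (Cfsg.IrrCharacter (Sz F (2 ^ (m + 1))))))
          rfl fun χ _ => show (χ : Sz F (2 ^ (m + 1)) → ℂ) u *
          conj ((χ : Sz F (2 ^ (m + 1)) → ℂ) u) = (χ : Sz F (2 ^ (m + 1)) → ℂ) u *
          conj ((χ : Sz F (2 ^ (m + 1)) → ℂ) u⁻¹) by
            rw [char_inv (isCharacter_of_isIrr χ.2), Complex.conj_conj, hall χ], s1] at s2
      have := Nat.cast_eq_zero.mp s2.symm
      omega
    · exact Finset.mem_singleton.mp hr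
  have hx0 : x = 0 ∧ x' = 0 := by
    have h := congrArg Complex.re (irrConj_apply t.W u)
    rw [hWc, hxy, hxy'] at h
    simp at h
    have : x' = x := by exact_mod_cast h
    omega
  obtain ⟨rfl, rfl⟩ := hx0
  have hy : (y : ℂ) ^ 2 = (ρ : ℂ) ^ 2 := by
    linear_combination (1 / 2 : ℂ) * key
  refine ⟨hX1, hY1, hW0, ?_, ?_⟩
  · rw [hxy, hρ']; push_cast; linear_combination 4 * (y : ℂ) ^ 2 * hI - 4 * hy
  · rw [hxy', hρ']; push_cast; linear_combination 4 * (y : ℂ) ^ 2 * hI - 4 * hy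

end Table

end CfsgLib.Suzuki.Chars
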